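import Mathlib
import Cfsg.Prelude.Def_CaseTheorems
import Cfsg.Agent.Lib.PGroup.Class2
import Cfsg.Agent.Lib.PGroup.MaximalClass
import Cfsg.Agent.Lib.ConstStab.Basic
import Cfsg.Agent.Lib.PLocal5.Class3
import Cfsg.Agent.Lib.PLocal5.SmallRank
import Cfsg.Agent.Lib.PGroup.HuppertMetacyclic

/-!
# `p`-groups of rank at most two containing a nonabelian group of order `p ^ 3` and exponent `p`
-/

set_option autoImplicit false

open scoped commutatorElement

namespace CfsgLib.Struct76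

universe u

variable {p : ℕ} [hp : Fact p.Prime] {X : Type u} [Group X] [Finite X]

/-- In rank at most two an element of order `p` centralizing an elementary abelian group of order
`p ^ 2` lies in it. -/
theorem mem_of_rank_two (hrk : Cfsg.PRankLE p 2 X) (A : Subgroup X)
    (hA : ∀ a ∈ A, ∀ b ∈ A, a * b = b * a) (hAp : ∀ a ∈ A, a ^ p = 1) (hAc : p ^ 2 ≤ Nat.card A)
    {x : X} (hx : x ^ p = 1) (hcomm : ∀ a ∈ A, x * a = a * x) : x ∈ A := by
  set S := Subgroup.closure ((A : Set X) ∪ {x}) with hS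
  have hScomm : IsMulCommutative S := Subgroup.isMulCommutative_closure fun a ha b hb => by
    rcases ha with ha | ha <;> rcases hb with hb | hb
    · exact hA a ha b hb
    · rw [hb]; exact (hcomm a ha).symm
    · rw [ha]; exact hcomm b hb
    · rw [ha, hb]
  have hSp : ∀ a ∈ S, a ^ p = 1 := by
    intro a ha
    have hcen : ∀ c ∈ S, ∀ d ∈ S, c * d = d * c := fun c hc d hd =>
      congrArg Subtype.val (hScomm.is_comm.comm ⟨c, hc⟩ ⟨d, hd⟩)
    induction ha using Subgroup.closure_induction with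
    | mem c hc =>
      rcases hc with hc | hc
      · exact hAp c hc
      · rw [hc]; exact hx
    | one => exact one_pow p
    | mul c d hc hd ihc ihd =>
      rw [Commute.mul_pow (hcen c hc d hd), ihc, ihd, one_mul]
    | inv c _ ihc => rw [inv_pow, ihc, inv_one]
  have hle : A ≤ S := fun a ha => Subgroup.subset_closure (Or.inl ha)
  rw [Subgroup.eq_of_le_of_card_ge hle ((hrk S hScomm hSp).trans hAc)]
  exact Subgroup.subset_closure (Or.inr rfl)

omit [Finite X] in
/-- A subgroup containing `A` and a further element of `B` contains `B`, if `|B : A| = p`. -/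
theorem le_of_prime_step [Finite X] {A B H : Subgroup X} (hAB : A ≤ B)
    (hc : Nat.card B = p * Nat.card A) (hAH : A ≤ H) {a : X} (haB : a ∈ B) (haA : a ∉ A)
    (haH : a ∈ H) : B ≤ H := by
  have hA : A ≤ B ⊓ H := le_inf hAB hAH
  obtain ⟨d, hd⟩ := Subgroup.card_dvd_of_le hA
  have hdvd := Subgroup.card_dvd_of_le (inf_le_left : B ⊓ H ≤ B)
  rw [hd, hc, mul_comm p] at hdvd
  rcases (Nat.dvd_prime hp.out).1 (Nat.dvd_of_mul_dvd_mul_left Nat.card_pos hdvd) with rfl | rfl
  · exfalso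
    rw [mul_one] at hd
    exact haA ((Subgroup.eq_of_le_of_card_ge hA hd.le).ge (Subgroup.mem_inf.2 ⟨haB, haH⟩))
  · rw [← Subgroup.eq_of_le_of_card_ge (inf_le_left : B ⊓ H ≤ B) (by rw [hd, hc, mul_comm])]
    exact inf_le_right

/-- The data attached to a normal nonabelian subgroup of order `p ^ 3` and exponent `p`. -/
structure HeisData (p : ℕ) {X : Type u} [Group X] (E : Subgroup X) where
  Z : Subgroup X
  W : Subgroup X
  w : X
  e : X
  hexp : ∀ a ∈ E, a ^ p = 1
  hcardE : Nat.card E = p * Nat.card W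
  hcardW : Nat.card W = p ^ 2
  hcardZ : Nat.card Z = p
  hZW : Z ≤ W
  hWE : W ≤ E
  hZc : Z ≤ Subgroup.center X
  hWn : W.Normal
  hZE : E ⊓ Subgroup.centralizer (E : Set X) = Z
  hw : w ∈ W
  hwZ : w ∉ Z
  he : e ∈ E
  heW : e ∉ W
  hgw : ∀ g : X, ⁅g, w⁆ ∈ Z
  hge : ∀ g : X, ⁅g, e⁆ ∈ W

theorem exists_heisData (hX : IsPGroup p X) (E : Subgroup X) [E.Normal]
    (hE : Nat.card E = p ^ 3) (hexp : ∀ a ∈ E, a ^ p = 1)
    (hna : ∃ a ∈ E, ∃ b ∈ E, a * b ≠ b * a) : Nonempty (HeisData p E) := by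
  classical
  set Z := E ⊓ Subgroup.centralizer (E : Set X) with hZ
  haveI hZn : Z.Normal := inferInstance
  have hE1 : E ≠ ⊥ := fun h => by
    rw [h, Subgroup.card_bot] at hE
    exact absurd hE (Nat.one_lt_pow three_ne_zero hp.out.one_lt).ne
  have hcard : Nat.card Z = p := by
    obtain ⟨N, hNE, hNc, hN⟩ := CfsgLib.OddOrder41.exists_central_order_p hX E hE1
    have hNZ : N ≤ Z := le_inf hNE (hNc.trans (Subgroup.center_le_centralizer _))
    obtain ⟨i, hi3, hi⟩ := (Nat.dvd_prime_pow hp.out).1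
      (hE ▸ Subgroup.card_dvd_of_le (inf_le_left : Z ≤ E))
    have h1 := Subgroup.card_le_of_le hNZ
    rw [hN, hi] at h1
    obtain ⟨a, ha, b, hb, hab⟩ := hna
    have haZ : a ∉ Z := fun h => hab (Subgroup.mem_centralizer_iff.1 h.2 b hb).symm
    have hi0 : i ≠ 0 := by
      rintro rfl
      rw [pow_zero] at h1
      exact absurd h1 (not_le.2 hp.out.one_lt)
    have hi2 : i ≠ 2 := by
      intro h2
      have hle : E ≤ Subgroup.centralizer ({a} : Set X) := by
        refine le_of_prime_step (p := p) inf_le_left (by rw [← hZ, hE, hi, h2]; ring) ?_ ha haZ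
          (Subgroup.mem_centralizer_singleton_iff.2 rfl)
        intro c hc
        exact Subgroup.mem_centralizer_singleton_iff.2 (Subgroup.mem_centralizer_iff.1 hc.2 a ha).symm
      exact hab (Subgroup.mem_centralizer_singleton_iff.1 (hle hb)).symm
    have hi3' : i ≠ 3 := fun h3 => haZ ((Subgroup.eq_of_le_of_card_ge inf_le_left (by
      rw [← hZ, hE, hi, h3])).ge ha)
    obtain rfl : i = 1 := by omega
    rw [hi, pow_one]
  have hZc : Z ≤ Subgroup.center X := CfsgLib.MaxClass.mem_center_of_card hX Z hcard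
  set q := QuotientGroup.mk' Z with hq
  have hker : q.ker = Z := QuotientGroup.ker_mk' Z
  have hEbar : E.map q ≠ ⊥ := by
    intro h
    have hle := (Subgroup.map_eq_bot_iff E).1 h
    rw [hker] at hle
    have := Subgroup.card_le_of_le hle
    rw [hE, hcard] at this
    exact absurd this (not_le.2 (lt_self_pow₀ hp.out.one_lt (by norm_num)))
  obtain ⟨N, hNE, hNc, hN⟩ := CfsgLib.OddOrder41.exists_central_order_p (hX.to_quotient Z) _ hEbar
  set W := N.comap q with hW
  haveI hNn : N.Normal := ⟨fun n hn g => by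
    rw [Subgroup.mem_center_iff.1 (hNc hn) g]; simpa using hn⟩
  haveI hWn : W.Normal := inferInstance
  have hZW : Z ≤ W := hker ▸ q.ker_le_comap N
  have hWE : W ≤ E := by
    refine (Subgroup.comap_mono hNE).trans ?_
    rw [Subgroup.comap_map_eq, hker]
    exact sup_le le_rfl inf_le_left
  have hWc : Nat.card W = p ^ 2 := by
    have h1 : W.map q = N :=
      Subgroup.map_comap_eq_self_of_surjective (QuotientGroup.mk'_surjective Z) N
    have h2 := Subgroup.card_eq_card_quotient_mul_card_subgroup (Z.subgroupOf W)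
    rw [Nat.card_congr (Subgroup.subgroupOfEquivOfLe hZW).toEquiv, hcard] at h2
    have h3 : (q.comp W.subtype).ker = Z.subgroupOf W := by
      rw [← MonoidHom.comap_ker, hker]; rfl
    rw [← h3, ← Subgroup.index_eq_card, Subgroup.index_ker, MonoidHom.range_comp,
      Subgroup.range_subtype, h1, hN] at h2
    rw [h2, pow_two]
  obtain ⟨w, hw, hwZ⟩ : ∃ w ∈ W, w ∉ Z := SetLike.not_le_iff_exists.1 fun h => by
    have := Subgroup.card_le_of_le h
    rw [hWc, hcard] at this
    exact absurd this (not_le.2 (lt_self_pow₀ hp.out.one_lt (by norm_num)))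
  obtain ⟨e, he, heW⟩ : ∃ e ∈ E, e ∉ W := SetLike.not_le_iff_exists.1 fun h => by
    have := Subgroup.card_le_of_le h
    rw [hWc, hE, Nat.pow_le_pow_iff_right hp.out.one_lt] at this
    omega
  refine ⟨⟨Z, W, w, e, hexp, by rw [hE, hWc]; ring, hWc, hcard, hZW, hWE, hZc, hWn, rfl, hw, hwZ,
    he, heW, fun g => ?_, fun g => ?_⟩⟩
  · rw [← QuotientGroup.eq_one_iff]
    show q ⁅g, w⁆ = 1
    rw [map_commutatorElement, commutatorElement_eq_one_iff_mul_comm]
    exact Subgroup.mem_center_iff.1 (hNc hw) (q g)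
  · rw [← QuotientGroup.eq_one_iff]
    show QuotientGroup.mk' W ⁅g, e⁆ = 1
    rw [map_commutatorElement, commutatorElement_eq_one_iff_mul_comm]
    haveI : (E.map (QuotientGroup.mk' W)).Normal :=
      Subgroup.Normal.map ‹E.Normal› _ (QuotientGroup.mk'_surjective W)
    have hcE : Nat.card (E.map (QuotientGroup.mk' W)) = p := by
      have h2 := Subgroup.card_eq_card_quotient_mul_card_subgroup (W.subgroupOf E)
      rw [Nat.card_congr (Subgroup.subgroupOfEquivOfLe hWE).toEquiv] at h2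
      have h3 : ((QuotientGroup.mk' W).comp E.subtype).ker = W.subgroupOf E := by
        rw [← MonoidHom.comap_ker, QuotientGroup.ker_mk']; rfl
      rw [← h3, ← Subgroup.index_eq_card, Subgroup.index_ker, MonoidHom.range_comp,
        Subgroup.range_subtype, hE, pow_succ' p 2, ← hWc] at h2
      exact (Nat.eq_of_mul_eq_mul_right Nat.card_pos h2).symm
    exact Subgroup.mem_center_iff.1 (CfsgLib.MaxClass.mem_center_of_card (hX.to_quotient _) _ hcE
      (Subgroup.mem_map_of_mem _ he)) _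

omit hp [Finite X] in
/-- Conjugation by powers when the commutator is central. -/
theorem conj_pow_central {a b ζ : X} (hζ : ∀ g, g * ζ = ζ * g) (h : a * b * a⁻¹ = ζ * b) (i : ℕ) :
    a ^ i * b * (a ^ i)⁻¹ = ζ ^ i * b := by
  induction i with
  | zero => simp
  | succ i ih =>
    rw [pow_succ' a, show a * a ^ i * b * (a * a ^ i)⁻¹ = a * (a ^ i * b * (a ^ i)⁻¹) * a⁻¹ by group,
      ih, ← mul_assoc a, ((Commute.pow_right (hζ a : Commute a ζ) i)).eq,
      show ζ ^ i * a * b * a⁻¹ = ζ ^ i * (a * b * a⁻¹) by group, h, ← mul_assoc, ← pow_succ]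

namespace HeisData

variable {E : Subgroup X} (D : HeisData p E)
include D

omit hp [Finite X] in
theorem central {z : X} (hz : z ∈ D.Z) (g : X) : g * z = z * g :=
  Subgroup.mem_center_iff.1 (D.hZc hz) g

omit hp [Finite X] in
theorem mem_cent_Z {z : X} (hz : z ∈ D.Z) : z ∈ Subgroup.centralizer (E : Set X) :=
  (D.hZE.ge hz).2

theorem W_le {H : Subgroup X} (hZ : D.Z ≤ H) {a : X} (ha : a ∈ D.W) (haZ : a ∉ D.Z) (haH : a ∈ H) :
    D.W ≤ H :=
  le_of_prime_step D.hZW (by rw [D.hcardW, D.hcardZ, pow_two]) hZ ha haZ haH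

theorem E_le {H : Subgroup X} (hW : D.W ≤ H) {a : X} (ha : a ∈ E) (haW : a ∉ D.W) (haH : a ∈ H) :
    E ≤ H :=
  le_of_prime_step D.hWE D.hcardE hW ha haW haH

/-- An element commuting with `w` centralizes `W`. -/
theorem comm_W {g : X} (hg : g * D.w = D.w * g) : ∀ a ∈ D.W, g * a = a * g := by
  have h : D.W ≤ Subgroup.centralizer ({g} : Set X) :=
    D.W_le (fun z hz => Subgroup.mem_centralizer_singleton_iff.2 (D.central hz g).symm) D.hw D.hwZ
      (Subgroup.mem_centralizer_singleton_iff.2 hg.symm)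
  exact fun a ha => (Subgroup.mem_centralizer_singleton_iff.1 (h ha)).symm

theorem W_comm : ∀ a ∈ D.W, ∀ b ∈ D.W, a * b = b * a := fun a ha =>
  D.comm_W ((D.comm_W rfl a ha).symm)

theorem mem_centralizer {g : X} (hw : g * D.w = D.w * g) (he : g * D.e = D.e * g) :
    g ∈ Subgroup.centralizer (E : Set X) := by
  have h : E ≤ Subgroup.centralizer ({g} : Set X) :=
    D.E_le (fun a ha => Subgroup.mem_centralizer_singleton_iff.2 (D.comm_W hw a ha).symm) D.he D.heW
      (Subgroup.mem_centralizer_singleton_iff.2 he.symm)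
  exact Subgroup.mem_centralizer_iff.2 fun a ha =>
    Subgroup.mem_centralizer_singleton_iff.1 (h ha)

/-- The generator `[e, w]` of `Z` is nontrivial. -/
theorem ew_ne_one : ⁅D.e, D.w⁆ ≠ 1 := by
  intro h
  refine D.hwZ (D.hZE.le ⟨D.hWE D.hw, D.mem_centralizer rfl ?_⟩)
  exact (commutatorElement_eq_one_iff_mul_comm.1 h).symm

theorem exists_pow_eq {ζ : X} (hζ : ζ ∈ D.Z) (hζ1 : ζ ≠ 1) {z : X} (hz : z ∈ D.Z) :
    ∃ i : ℕ, i < p ∧ ζ ^ i = z := by
  have ho : orderOf ζ = p := orderOf_eq_prime (D.hexp ζ (D.hWE (D.hZW hζ))) hζ1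
  have heq : Subgroup.zpowers ζ = D.Z := Subgroup.eq_of_le_of_card_ge
    (Subgroup.zpowers_le.2 hζ) (by rw [D.hcardZ, Nat.card_zpowers, ho])
  obtain ⟨i, hi⟩ := (mem_powers_iff_mem_zpowers).2 (heq ▸ hz)
  exact ⟨i % p, Nat.mod_lt _ hp.out.pos, by rw [← ho, pow_mod_orderOf]; exact hi⟩

/-- Every element agrees on `W` with a power of `e`. -/
theorem exists_adjust (g : X) : ∃ i : ℕ, ((D.e ^ i)⁻¹ * g) * D.w = D.w * ((D.e ^ i)⁻¹ * g) := by
  obtain ⟨i, -, hi⟩ := D.exists_pow_eq (D.hgw D.e) D.ew_ne_one (D.hgw g)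
  refine ⟨i, ?_⟩
  have h1 := conj_pow_central (fun x => D.central (D.hgw D.e) x)
    (show D.e * D.w * D.e⁻¹ = ⁅D.e, D.w⁆ * D.w by simp [commutatorElement_def]) i
  rw [hi] at h1
  have h2 : g * D.w * g⁻¹ = D.e ^ i * D.w * (D.e ^ i)⁻¹ := by rw [h1]; simp [commutatorElement_def]
  calc (D.e ^ i)⁻¹ * g * D.w = (D.e ^ i)⁻¹ * (g * D.w * g⁻¹) * g := by group
    _ = D.w * ((D.e ^ i)⁻¹ * g) := by rw [h2]; group

/-- An element inducing on `E` an automorphism trivial on `E / Z` lies in `E C(E)`. -/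
theorem mem_sup_of_comm {g : X} (hg : ⁅g, D.e⁆ ∈ D.Z) :
    g ∈ E ⊔ Subgroup.centralizer (E : Set X) := by
  obtain ⟨i, hi⟩ := D.exists_adjust g
  set g₁ := (D.e ^ i)⁻¹ * g with hg₁
  have hg₁e : ⁅g₁, D.e⁆ ∈ D.Z := by
    have h : ⁅g₁, D.e⁆ = (D.e ^ i)⁻¹ * ⁅g, D.e⁆ * D.e ^ i := by
      rw [hg₁, commutatorElement_def, commutatorElement_def]
      rw [show ((D.e ^ i)⁻¹ * g * D.e * ((D.e ^ i)⁻¹ * g)⁻¹ * D.e⁻¹ : X) =
        (D.e ^ i)⁻¹ * g * D.e * g⁻¹ * (D.e ^ i * D.e⁻¹) by group,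
        ((Commute.refl D.e).inv_right.pow_left i).eq]
      group
    rw [h, D.central hg (D.e ^ i)⁻¹, inv_mul_cancel_right]
    exact hg
  have hwe : ⁅D.w, D.e⁆ ∈ D.Z := by
    rw [← commutatorElement_inv]
    exact inv_mem (D.hgw D.e)
  obtain ⟨k, -, hk⟩ := D.exists_pow_eq hwe (fun h => D.ew_ne_one (by
    rw [← commutatorElement_inv, h, inv_one])) hg₁e
  have h1 := conj_pow_central (fun x => D.central hwe x)
    (show D.w * D.e * D.w⁻¹ = ⁅D.w, D.e⁆ * D.e by simp [commutatorElement_def]) k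
  rw [hk] at h1
  have h2 : g₁ * D.e * g₁⁻¹ = D.w ^ k * D.e * (D.w ^ k)⁻¹ := by
    rw [h1]; simp [commutatorElement_def]
  have hwk : (D.w ^ k)⁻¹ * g₁ * D.w = D.w * ((D.w ^ k)⁻¹ * g₁) := by
    rw [mul_assoc, hi, ← mul_assoc, ← mul_assoc, ((Commute.refl D.w).pow_left k).inv_left.eq,
      hg₁]
    group
  have hc : (D.w ^ k)⁻¹ * g₁ ∈ Subgroup.centralizer (E : Set X) := by
    refine D.mem_centralizer hwk ?_
    calc (D.w ^ k)⁻¹ * g₁ * D.e = (D.w ^ k)⁻¹ * (g₁ * D.e * g₁⁻¹) * g₁ := by group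
      _ = D.e * ((D.w ^ k)⁻¹ * g₁) := by rw [h2]; group
  have : g = D.e ^ i * D.w ^ k * ((D.w ^ k)⁻¹ * g₁) := by rw [hg₁]; group
  rw [this]
  exact mul_mem (Subgroup.mem_sup_left (mul_mem (pow_mem D.he i) (pow_mem (D.hWE D.hw) k)))
    (Subgroup.mem_sup_right hc)

theorem comm_mem_Z {a b : X} (ha : a ∈ E) (hb : b ∈ E) : ⁅a, b⁆ ∈ D.Z := by
  haveI : D.Z.Normal := ⟨fun z hz g => by rw [D.central hz g]; simpa using hz⟩
  let q := QuotientGroup.mk' D.Z
  have key : ∀ x y : X, ⁅x, y⁆ ∈ D.Z → y ∈ (Subgroup.centralizer ({q x} : Set (X ⧸ D.Z))).comap q := by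
    intro x y hxy
    rw [Subgroup.mem_comap, Subgroup.mem_centralizer_singleton_iff]
    have h : q ⁅x, y⁆ = 1 := (QuotientGroup.eq_one_iff _).2 hxy
    rw [map_commutatorElement, commutatorElement_eq_one_iff_mul_comm] at h
    exact h.symm
  have keyZ : ∀ x : X, D.Z ≤ (Subgroup.centralizer ({q x} : Set (X ⧸ D.Z))).comap q := fun x z hz =>
    key x z (by rw [commutatorElement_eq_one_iff_mul_comm.2 (D.central hz x)]; exact one_mem _)
  have hE : ∀ x : X, ⁅x, D.e⁆ ∈ D.Z →
      E ≤ (Subgroup.centralizer ({q x} : Set (X ⧸ D.Z))).comap q := fun x hx =>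
    D.E_le (D.W_le (keyZ x) D.hw D.hwZ (key x D.w (D.hgw x))) D.he D.heW (key x D.e hx)
  have back : ∀ x y : X, y ∈ (Subgroup.centralizer ({q x} : Set (X ⧸ D.Z))).comap q →
      ⁅x, y⁆ ∈ D.Z := by
    intro x y h
    rw [← QuotientGroup.eq_one_iff]
    show q ⁅x, y⁆ = 1
    rw [map_commutatorElement, commutatorElement_eq_one_iff_mul_comm]
    exact (Subgroup.mem_centralizer_singleton_iff.1 (Subgroup.mem_comap.1 h)).symm
  refine back a b (hE a ?_ hb)
  rw [← commutatorElement_inv]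
  exact inv_mem (back D.e a (hE D.e (by
    rw [commutatorElement_eq_one_iff_mul_comm.2 rfl]; exact one_mem _) ha))

theorem mem_Z_of_pow (hrk : Cfsg.PRankLE p 2 X) {x : X} (hx : x ∈ Subgroup.centralizer (E : Set X))
    (hxp : x ^ p = 1) : x ∈ D.Z := by
  have hxW : x ∈ D.W := mem_of_rank_two hrk D.W D.W_comm (fun a ha => D.hexp a (D.hWE ha))
    D.hcardW.ge hxp (fun a ha => (Subgroup.mem_centralizer_iff.1 hx a (D.hWE ha)).symm)
  exact D.hZE.le ⟨D.hWE hxW, hx⟩

theorem cent_isCyclic (hp2 : p ≠ 2) (hX : IsPGroup p X) (hrk : Cfsg.PRankLE p 2 X) :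
    IsCyclic (Subgroup.centralizer (E : Set X)) := by
  refine CfsgLib.ConstStab.isCyclic_of_unique_prime_subgroup hp2 (hX.to_subgroup _)
    fun x y hx1 hx hy => ?_
  have hxZ := D.mem_Z_of_pow hrk x.2 (congrArg Subtype.val hx)
  have hyZ := D.mem_Z_of_pow hrk y.2 (congrArg Subtype.val hy)
  obtain ⟨i, -, hi⟩ := D.exists_pow_eq hxZ (fun h => hx1 (Subtype.ext h)) hyZ
  exact ⟨i, Subtype.ext (by simpa using hi)⟩

theorem mem_E_of_pow [E.Normal] (hrk : Cfsg.PRankLE p 2 X) {x : X}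
    (hx : x ∈ E ⊔ Subgroup.centralizer (E : Set X)) (hxp : x ^ p = 1) : x ∈ E := by
  obtain ⟨a, ha, c, hc, rfl⟩ := Subgroup.mem_sup_of_normal_left.1 hx
  have hcomm : Commute a c := Subgroup.mem_centralizer_iff.1 hc a ha
  rw [hcomm.mul_pow, D.hexp a ha, one_mul] at hxp
  exact mul_mem ha (D.hWE (D.hZW (D.mem_Z_of_pow hrk hc hxp)))

/-- `|X : E C(E)| ≤ p`. -/
theorem index_sup_le : (E ⊔ Subgroup.centralizer (E : Set X)).index ≤ p := by
  haveI : D.W.Normal := D.hWn
  haveI : D.Z.Normal := ⟨fun z hz g => by rw [D.central hz g]; simpa using hz⟩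
  let q := QuotientGroup.mk' D.Z
  have hbar : Nat.card (D.W.map q) = p := by
    have h2 := Subgroup.card_eq_card_quotient_mul_card_subgroup (D.Z.subgroupOf D.W)
    rw [Nat.card_congr (Subgroup.subgroupOfEquivOfLe D.hZW).toEquiv, D.hcardZ] at h2
    have h3 : (q.comp D.W.subtype).ker = D.Z.subgroupOf D.W := by
      rw [← MonoidHom.comap_ker, QuotientGroup.ker_mk']; rfl
    rw [← h3, ← Subgroup.index_eq_card, Subgroup.index_ker, MonoidHom.range_comp,
      Subgroup.range_subtype, D.hcardW, pow_two] at h2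
    exact (Nat.eq_of_mul_eq_mul_right hp.out.pos h2).symm
  have hgen : D.W ≤ (Subgroup.center (X ⧸ D.Z)).comap q := by
    refine D.W_le (fun z hz => ?_) D.hw D.hwZ (Subgroup.mem_comap.2 (Subgroup.mem_center_iff.2 ?_))
    · rw [Subgroup.mem_comap, show q z = 1 from (QuotientGroup.eq_one_iff z).2 hz]
      exact one_mem _
    · intro g
      obtain ⟨g, rfl⟩ := QuotientGroup.mk'_surjective D.Z g
      have h : q ⁅g, D.w⁆ = 1 := (QuotientGroup.eq_one_iff _).2 (D.hgw g)
      rw [map_commutatorElement, commutatorElement_eq_one_iff_mul_comm] at h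
      exact h
  let δ : X →* D.W.map q :=
    MonoidHom.mk' (fun g => ⟨q ⁅g, D.e⁆, Subgroup.mem_map_of_mem q (D.hge g)⟩) fun g h =>
      Subtype.ext (by
        have hc := Subgroup.mem_center_iff.1 (Subgroup.mem_comap.1 (hgen (D.hge h)))
        show q ⁅g * h, D.e⁆ = q ⁅g, D.e⁆ * q ⁅h, D.e⁆
        rw [show ⁅g * h, D.e⁆ = g * ⁅h, D.e⁆ * g⁻¹ * ⁅g, D.e⁆ by
          simp only [commutatorElement_def]; group, map_mul, map_mul, map_mul, map_inv, hc (q g),
          mul_inv_cancel_right, hc (q ⁅g, D.e⁆)])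
  have hker : δ.ker ≤ E ⊔ Subgroup.centralizer (E : Set X) := fun g hg =>
    D.mem_sup_of_comm ((QuotientGroup.eq_one_iff _).1 (congrArg Subtype.val hg))
  calc (E ⊔ Subgroup.centralizer (E : Set X)).index
      ≤ δ.ker.index := Nat.le_of_dvd (Nat.pos_of_ne_zero Subgroup.index_ne_zero_of_finite)
          (Subgroup.index_dvd_of_le hker)
    _ = Nat.card δ.range := Subgroup.index_ker δ
    _ ≤ p := (Subgroup.card_le_card_group _).trans_eq hbar

/-- If `v` centralizes `W` then `v ^ p` commutes with `e`. -/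
theorem pow_comm_e {v : X} (hv : v * D.w = D.w * v) : D.e * v ^ p = v ^ p * D.e := by
  set t := ⁅D.e, v⁆ with ht
  have htW : t ∈ D.W := by
    rw [ht, ← commutatorElement_inv]
    exact inv_mem (D.hge v)
  have hconj : D.e * v * D.e⁻¹ = t * v := by rw [ht]; simp [commutatorElement_def]
  have h : D.e * v ^ p * D.e⁻¹ = v ^ p := by
    rw [← conj_pow, hconj, Commute.mul_pow (D.comm_W hv t htW).symm, D.hexp t (D.hWE htW), one_mul]
  calc D.e * v ^ p = D.e * v ^ p * D.e⁻¹ * D.e := by group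
    _ = v ^ p * D.e := by rw [h]

theorem pow_mem_cent {v : X} (hv : v * D.w = D.w * v) :
    v ^ p ∈ Subgroup.centralizer (E : Set X) :=
  D.mem_centralizer ((Commute.pow_left (show Commute v D.w from hv) p).eq) (D.pow_comm_e hv).symm

/-- An element of order `p` outside `E` forces `p = 3` and a self-centralizing subgroup of order
`p ^ 2` in `E`. -/
theorem exists_selfCentralizing [E.Normal] (hp2 : p ≠ 2) (hX : IsPGroup p X)
    (hrk : Cfsg.PRankLE p 2 X) {y : X} (hy : y ^ p = 1) (hyE : y ∉ E) :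
    p = 3 ∧ ∃ A : Subgroup X, A ≤ E ∧ (∀ a ∈ E, ∀ b ∈ A, a * b * a⁻¹ ∈ A) ∧
      Nat.card A = p ^ 2 ∧ Subgroup.centralizer (A : Set X) = A := by
  haveI : D.W.Normal := D.hWn
  haveI : D.Z.Normal := ⟨fun z hz g => by rw [D.central hz g]; simpa using hz⟩
  have hyEC : y ∉ E ⊔ Subgroup.centralizer (E : Set X) := fun h => hyE (D.mem_E_of_pow hrk h hy)
  obtain ⟨i, hi⟩ := D.exists_adjust y
  set v := (D.e ^ i)⁻¹ * y with hv
  have hvEC : v ∉ E ⊔ Subgroup.centralizer (E : Set X) := fun h => hyEC (by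
    have := mul_mem (Subgroup.mem_sup_left (pow_mem D.he i) :
      D.e ^ i ∈ E ⊔ Subgroup.centralizer (E : Set X)) h
    rwa [hv, mul_inv_cancel_left] at this)
  -- no element of order `p` in the coset of `v` centralizes `W`
  have hno : ∀ x : X, x ^ p = 1 → x * D.w = D.w * x → x ∈ D.W := fun x hx hxw =>
    mem_of_rank_two hrk D.W D.W_comm (fun a ha => D.hexp a (D.hWE ha)) D.hcardW.ge hx
      (D.comm_W hxw)
  have hvW : v ∉ D.W := fun h => hvEC (Subgroup.mem_sup_left (D.hWE h))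
  have hp3 : ¬ 3 < p := by
    intro h3
    set M := E ⊔ Subgroup.zpowers y with hM
    have hMc : Nat.card M ≤ p ^ 4 := by
      let q := QuotientGroup.mk' E
      have hEM : E ≤ M := le_sup_left
      have h2 := Subgroup.card_eq_card_quotient_mul_card_subgroup (E.subgroupOf M)
      rw [Nat.card_congr (Subgroup.subgroupOfEquivOfLe hEM).toEquiv] at h2
      have h3' : (q.comp M.subtype).ker = E.subgroupOf M := by
        rw [← MonoidHom.comap_ker, QuotientGroup.ker_mk']; rfl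
      rw [← h3', ← Subgroup.index_eq_card, Subgroup.index_ker, MonoidHom.range_comp,
        Subgroup.range_subtype] at h2
      have hmap : M.map q = Subgroup.zpowers (q y) := by
        rw [hM, Subgroup.map_sup, MonoidHom.map_zpowers,
          show E.map q = ⊥ from (Subgroup.map_eq_bot_iff E).2 (QuotientGroup.ker_mk' E).ge, bot_sup_eq]
      have hle : Nat.card (M.map q) ≤ p := by
        rw [hmap, Nat.card_zpowers]
        exact Nat.le_of_dvd hp.out.pos (orderOf_dvd_of_pow_eq_one (by rw [← map_pow, hy, map_one]))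
      rw [h2, D.hcardE, D.hcardW]
      calc Nat.card (M.map q) * (p * p ^ 2) ≤ p * (p * p ^ 2) := Nat.mul_le_mul_right _ hle
        _ = p ^ 4 := by ring
    have hcl : CfsgLib.Class3.SmallClass p M :=
      Or.inr ⟨h3, CfsgLib.SmallRank.class_three_of_card_le (hX.to_subgroup M) hMc⟩
    have hexpM : ∀ x ∈ M, x ^ p = 1 := by
      have h1 : M = Subgroup.closure {x : X | x ∈ M ∧ x ^ p = 1} := by
        refine le_antisymm ?_ ((Subgroup.closure_le _).2 fun x hx => hx.1)
        exact sup_le (fun a ha => Subgroup.subset_closure ⟨Subgroup.mem_sup_left ha, D.hexp a ha⟩)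
          (Subgroup.zpowers_le.2 (Subgroup.subset_closure
            ⟨Subgroup.mem_sup_right (Subgroup.mem_zpowers y), hy⟩))
      intro x hx
      suffices ∀ z ∈ Subgroup.closure {x : X | x ∈ M ∧ x ^ p = 1}, z ∈ M ∧ z ^ p = 1 from
        (this x (h1 ▸ hx)).2
      intro z hz
      induction hz using Subgroup.closure_induction with
      | mem c hc => exact hc
      | one => exact ⟨one_mem _, one_pow p⟩
      | mul c d _ _ ihc ihd =>
        exact ⟨mul_mem ihc.1 ihd.1, congrArg Subtype.val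
          (CfsgLib.Class3.mul_pow_eq_one hp.out hcl (x := ⟨c, ihc.1⟩) (y := ⟨d, ihd.1⟩)
            (Subtype.ext ihc.2) (Subtype.ext ihd.2))⟩
      | inv c _ ihc => exact ⟨inv_mem ihc.1, by rw [inv_pow, ihc.2, inv_one]⟩
    exact hvW (hno v (hexpM v (mul_mem (Subgroup.mem_sup_left (inv_mem (pow_mem D.he i)))
      (Subgroup.mem_sup_right (Subgroup.mem_zpowers y)))) hi)
  refine ⟨by have := hp.out.two_le; omega, ?_⟩
  set C := Subgroup.centralizer (E : Set X) with hC
  have hCZ : C ≤ D.Z := by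
    by_contra hle
    let q := QuotientGroup.mk' D.Z
    have hbar : C.map q ≠ ⊥ := fun h => hle (by
      have := (Subgroup.map_eq_bot_iff C).1 h
      rwa [QuotientGroup.ker_mk'] at this)
    obtain ⟨N, hNC, hNc, hN⟩ :=
      CfsgLib.OddOrder41.exists_central_order_p (hX.to_quotient D.Z) _ hbar
    haveI : Nontrivial N := Finite.one_lt_card_iff_nontrivial.1 (by rw [hN]; exact hp.out.one_lt)
    obtain ⟨⟨cb, hcb⟩, hcb1⟩ := exists_ne (1 : N)
    obtain ⟨c, hcC, rfl⟩ := hNC hcb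
    have hcZ : c ∉ D.Z := fun h => hcb1 (Subtype.ext ((QuotientGroup.eq_one_iff c).2 h))
    have hcp : c ^ p ∈ D.Z := by
      rw [← QuotientGroup.eq_one_iff]
      have := pow_card_eq_one' (x := (⟨q c, hcb⟩ : N))
      rw [hN] at this
      exact congrArg Subtype.val this
    have hcp1 : c ^ p ≠ 1 := fun h => hcZ (D.mem_Z_of_pow hrk hcC h)
    have hvZ : v ^ p ∈ D.Z := by
      have hvE : v ^ p ∈ E := by
        rw [← QuotientGroup.eq_one_iff]
        show QuotientGroup.mk' E (v ^ p) = 1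
        rw [map_pow, hv, map_mul, map_inv,
          show QuotientGroup.mk' E (D.e ^ i) = 1 from (QuotientGroup.eq_one_iff _).2 (pow_mem D.he i),
          inv_one, one_mul, ← map_pow, hy, map_one]
      exact D.hZE.le ⟨hvE, D.pow_mem_cent hi⟩
    obtain ⟨k, -, hk⟩ := D.exists_pow_eq hcp hcp1 (inv_mem hvZ)
    have hcom : ⁅c ^ k, v⁆ ∈ D.Z := by
      rw [← QuotientGroup.eq_one_iff]
      show q ⁅c ^ k, v⁆ = 1
      rw [map_commutatorElement, commutatorElement_eq_one_iff_mul_comm, map_pow]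
      exact (Commute.pow_left (Subgroup.mem_center_iff.1 (hNc hcb) (q v)).symm k)
    have hx : (v * c ^ k) ^ p = 1 := by
      rw [CfsgLib.PGroup.mul_pow_odd_of_central (hp.out.odd_of_ne_two hp2) (D.hZc hcom)
        (D.hexp _ (D.hWE (D.hZW hcom))), ← pow_mul, mul_comm, pow_mul, hk, mul_inv_cancel]
    have hxw : v * c ^ k * D.w = D.w * (v * c ^ k) :=
      (Commute.mul_left (show Commute v D.w from hi)
        ((show Commute c D.w from
          (Subgroup.mem_centralizer_iff.1 hcC D.w (D.hWE D.hw)).symm).pow_left k)).eq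
    refine hvEC ?_
    have h := hno _ hx hxw
    have := mul_mem (Subgroup.mem_sup_left (D.hWE h) : v * c ^ k ∈ E ⊔ C)
      (inv_mem (Subgroup.mem_sup_right (pow_mem hcC k) : c ^ k ∈ E ⊔ C))
    rwa [mul_inv_cancel_right] at this
  have hCE : E ⊔ C = E := sup_eq_left.2 (hCZ.trans (D.hZW.trans D.hWE))
  set A := D.Z ⊔ Subgroup.zpowers D.e with hA
  have hAE : A ≤ E := sup_le (D.hZW.trans D.hWE) (Subgroup.zpowers_le.2 D.he)
  have hcomm : ∀ a ∈ A, ∀ b ∈ A, a * b = b * a := by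
    have h1 : A ≤ Subgroup.centralizer ({D.e} : Set X) :=
      sup_le (fun z hz => Subgroup.mem_centralizer_singleton_iff.2 (D.central hz D.e).symm)
        (Subgroup.zpowers_le.2 (Subgroup.mem_centralizer_singleton_iff.2 rfl))
    intro a ha b hb
    have h2 : A ≤ Subgroup.centralizer ({a} : Set X) :=
      sup_le (fun z hz => Subgroup.mem_centralizer_singleton_iff.2 (D.central hz a).symm)
        (Subgroup.zpowers_le.2 (Subgroup.mem_centralizer_singleton_iff.2
          (Subgroup.mem_centralizer_singleton_iff.1 (h1 ha)).symm))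
    exact (Subgroup.mem_centralizer_singleton_iff.1 (h2 hb)).symm
  have hcard : Nat.card A = p ^ 2 := by
    haveI : IsMulCommutative A := ⟨⟨fun a b => Subtype.ext (hcomm a a.2 b b.2)⟩⟩
    refine le_antisymm (hrk A ‹_› fun a ha => D.hexp a (hAE ha)) ?_
    obtain ⟨j, hj⟩ := (hX.to_subgroup A).exists_card_eq
    have hlt : D.Z < A := lt_of_le_of_ne le_sup_left fun h => D.heW (D.hZW (h.symm ▸
      (Subgroup.mem_sup_right (Subgroup.mem_zpowers D.e) : D.e ∈ A)))
    have h1 : Nat.card D.Z < Nat.card A :=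
      lt_of_le_of_ne (Subgroup.card_le_of_le hlt.le) fun h => hlt.ne
        (Subgroup.eq_of_le_of_card_ge hlt.le h.ge)
    rw [D.hcardZ, hj] at h1
    rw [hj]
    refine Nat.pow_le_pow_right hp.out.pos ((Nat.pow_lt_pow_iff_right hp.out.one_lt).1 ?_)
    rwa [pow_one]
  refine ⟨A, hAE, fun a ha b hb => ?_, hcard, le_antisymm (fun g hg => ?_) fun a ha =>
    Subgroup.mem_centralizer_iff.2 fun b hb => hcomm b hb a ha⟩
  · have hZmem : ⁅a, b⁆ ∈ D.Z := D.comm_mem_Z ha (hAE hb)
    have := mul_mem (Subgroup.mem_sup_left hZmem : ⁅a, b⁆ ∈ A) hb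
    rwa [show ⁅a, b⁆ * b = a * b * a⁻¹ by simp [commutatorElement_def]] at this
  · have hge : g * D.e = D.e * g :=
      (Subgroup.mem_centralizer_iff.1 hg D.e (Subgroup.mem_sup_right (Subgroup.mem_zpowers _))).symm
    have hgE : g ∈ E := by
      rw [← hCE]
      exact D.mem_sup_of_comm (by rw [commutatorElement_eq_one_iff_mul_comm.2 hge]; exact one_mem _)
    exact mem_of_rank_two hrk A hcomm (fun a ha => D.hexp a (hAE ha)) hcard.ge (D.hexp g hgE)
      fun a ha => (Subgroup.mem_centralizer_iff.1 hg a ha).symm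

/-- The presentations when every element of order `p` lies in `E`. -/
theorem presentations [E.Normal] (hp2 : p ≠ 2) (n : ℕ) (hn : Nat.card X = p ^ n)
    (hrk : Cfsg.PRankLE p 2 X) (hΩ : ∀ x : X, x ^ p = 1 → x ∈ E) :
    (3 ≤ n ∧ ∃ x y z : X, Subgroup.closure ({x, y, z} : Set X) = ⊤ ∧ x ^ p = 1 ∧ y ^ p = 1 ∧
        z ^ p ^ (n - 2) = 1 ∧
        x * z = z * x ∧ y * z = z * y ∧ x⁻¹ * y * x = y * z ^ p ^ (n - 3)) ∨
    (4 ≤ n ∧ ∃ (s : ℕ) (x y z : X), (s = 1 ∨ ¬ IsSquare (s : ZMod p)) ∧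
        Subgroup.closure ({x, y, z} : Set X) = ⊤ ∧
        x ^ p = 1 ∧ y ^ p = 1 ∧ z ^ p ^ (n - 2) = 1 ∧ y * z = z * y ∧
        x⁻¹ * y * x = y * z ^ (s * p ^ (n - 3)) ∧
        x⁻¹ * z * x = y * z) := by
  classical
  have hX : IsPGroup p X := IsPGroup.of_card hn
  haveI : D.W.Normal := D.hWn
  set C := Subgroup.centralizer (E : Set X) with hC
  haveI hCn : C.Normal := inferInstance
  have hZC : D.Z ≤ C := fun z hz => D.mem_cent_Z hz
  have hEC : C.map (MonoidHom.id X) = C := Subgroup.map_id C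
  -- `|E C : C| = p ^ 2`
  have hquot : Nat.card ((E ⊔ C).map (QuotientGroup.mk' C)) = p ^ 2 := by
    rw [Subgroup.map_sup, QuotientGroup.map_mk'_self, sup_bot_eq]
    have h2 := Subgroup.card_eq_card_quotient_mul_card_subgroup (C.subgroupOf E)
    have h3 : ((QuotientGroup.mk' C).comp E.subtype).ker = C.subgroupOf E := by
      rw [← MonoidHom.comap_ker, QuotientGroup.ker_mk']; rfl
    have h4 : Nat.card (C.subgroupOf E) = p := by
      rw [← Subgroup.inf_subgroupOf_right, inf_comm, D.hZE,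
        Nat.card_congr (Subgroup.subgroupOfEquivOfLe (D.hZW.trans D.hWE)).toEquiv, D.hcardZ]
    rw [h4, D.hcardE, D.hcardW] at h2
    rw [← h3, ← Subgroup.index_eq_card, Subgroup.index_ker, MonoidHom.range_comp,
      Subgroup.range_subtype] at h2
    exact (Nat.eq_of_mul_eq_mul_right hp.out.pos (by rw [← h2]; ring))
  have hidxC : C.index = p ^ 2 * (E ⊔ C).index := by
    rw [← hquot, ← Subgroup.relIndex_mul_index (le_sup_right : C ≤ E ⊔ C)]
    congr 1
    rw [Subgroup.relIndex, Subgroup.index_eq_card]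
    have h3 : ((QuotientGroup.mk' C).comp (E ⊔ C).subtype).ker = C.subgroupOf (E ⊔ C) := by
      rw [← MonoidHom.comap_ker, QuotientGroup.ker_mk']; rfl
    rw [← h3, ← Subgroup.index_eq_card, Subgroup.index_ker, MonoidHom.range_comp,
      Subgroup.range_subtype]
  obtain ⟨m, hm⟩ := (hX.to_subgroup C).exists_card_eq
  have hm1 : 1 ≤ m := by
    have := Subgroup.card_le_of_le hZC
    rw [D.hcardZ, hm] at this
    by_contra h
    obtain rfl : m = 0 := by omega
    rw [pow_zero] at this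
    exact absurd this (not_le.2 hp.out.one_lt)
  obtain ⟨⟨c, hcC⟩, hc⟩ := (D.cent_isCyclic hp2 hX hrk).exists_generator
  have hcz : Subgroup.zpowers c = C := by
    refine le_antisymm (Subgroup.zpowers_le.2 hcC) fun a ha => ?_
    obtain ⟨j, hj⟩ := hc ⟨a, ha⟩
    exact ⟨j, congrArg Subtype.val hj⟩
  have hco : orderOf c = p ^ m := by rw [← Nat.card_zpowers, hcz, hm]
  have hord : ∀ {z : X} {l : ℕ}, 1 ≤ l → orderOf z = p ^ l → orderOf (z ^ p ^ (l - 1)) = p := by
    intro z l hl hz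
    rw [orderOf_pow_of_dvd (pow_ne_zero _ hp.out.ne_zero) (hz ▸ pow_dvd_pow p (Nat.sub_le l 1)), hz,
      Nat.pow_div (Nat.sub_le l 1) hp.out.pos, show l - (l - 1) = 1 by omega, pow_one]
  have hne : ∀ {z : X}, orderOf z = p → z ≠ 1 := fun hz h1 => hp.out.ne_one (by
    rw [← hz, h1, orderOf_one])
  have hcard := C.card_mul_index
  rw [hn, hm, hidxC] at hcard
  by_cases htop : E ⊔ C = ⊤
  · left
    rw [htop, Subgroup.index_top, mul_one, ← pow_add] at hcard
    have hmn : m + 2 = n := Nat.pow_right_injective hp.out.two_le hcard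
    refine ⟨by omega, ?_⟩
    set ω := c ^ p ^ (m - 1) with hω
    have hωo : orderOf ω = p := hord hm1 hco
    have hωZ : ω ∈ D.Z :=
      D.mem_Z_of_pow hrk (pow_mem hcC _) (by rw [← hωo]; exact pow_orderOf_eq_one ω)
    obtain ⟨i, hip, hi⟩ := D.exists_pow_eq (D.hgw D.e) D.ew_ne_one hωZ
    have hi0 : 0 < i := Nat.pos_of_ne_zero fun h => hne hωo (by rw [← hi, h, pow_zero])
    have h1 := conj_pow_central (fun x => D.central (D.hgw D.e) x)
      (show D.e * D.w * D.e⁻¹ = ⁅D.e, D.w⁆ * D.w by simp [commutatorElement_def]) i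
    rw [hi] at h1
    refine ⟨(D.e ^ i)⁻¹, D.w, c, ?_, D.hexp _ (inv_mem (pow_mem D.he i)),
      D.hexp _ (D.hWE D.hw), ?_, ?_, Subgroup.mem_centralizer_iff.1 hcC _ (D.hWE D.hw), ?_⟩
    · set H := Subgroup.closure ({(D.e ^ i)⁻¹, D.w, c} : Set X) with hH
      have hCH : C ≤ H := hcz ▸ Subgroup.zpowers_le.2 (Subgroup.subset_closure (by simp))
      have hWH : D.W ≤ H := D.W_le (hZC.trans hCH) D.hw D.hwZ (Subgroup.subset_closure (by simp))
      have heH : E ≤ H := by
        refine D.E_le hWH (inv_mem (pow_mem D.he i)) (fun h => D.heW ?_)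
          (Subgroup.subset_closure (by simp))
        have hcop : Nat.Coprime (orderOf D.e) i := by
          rw [orderOf_eq_prime (D.hexp _ D.he) fun h1 => D.heW (h1 ▸ one_mem _)]
          exact (hp.out.coprime_iff_not_dvd).2 fun hd => absurd (Nat.le_of_dvd hi0 hd) (not_le.2 hip)
        obtain ⟨r, hr⟩ := exists_pow_eq_self_of_coprime hcop.symm
        rw [← hr]
        exact pow_mem (inv_mem_iff.1 h) r
      exact top_le_iff.1 (htop ▸ sup_le heH hCH)
    · rw [show n - 2 = m by omega, ← hco]; exact pow_orderOf_eq_one c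
    · exact Subgroup.mem_centralizer_iff.1 hcC _ (inv_mem (pow_mem D.he i))
    · rw [show n - 3 = m - 1 by omega, inv_inv, h1]
      exact (D.central hωZ D.w).symm
  right
  have hidx : (E ⊔ C).index = p := by
    obtain ⟨j, hj⟩ := hX.index (E ⊔ C)
    have h1 := D.index_sup_le
    rw [hj] at h1
    have h2 : j ≠ 0 := fun h => htop (Subgroup.index_eq_one.1 (by rw [hj, h, pow_zero]))
    have h3 : j ≤ 1 := (Nat.pow_le_pow_iff_right hp.out.one_lt).1 (by rwa [pow_one])
    rw [hj, show j = 1 by omega, pow_one]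
  rw [hidx, ← pow_succ, ← pow_add] at hcard
  have hmn : m + 3 = n := Nat.pow_right_injective hp.out.two_le hcard
  refine ⟨by omega, ?_⟩
  obtain ⟨u₀, hu₀⟩ : ∃ u₀ : X, u₀ ∉ E ⊔ C := SetLike.exists_not_mem_of_ne_top _ htop rfl
  obtain ⟨i₀, hi₀⟩ := D.exists_adjust u₀
  set v := (D.e ^ i₀)⁻¹ * u₀ with hv
  have hvEC : v ∉ E ⊔ C := fun h => hu₀ (by
    have := mul_mem (Subgroup.mem_sup_left (pow_mem D.he i₀) : D.e ^ i₀ ∈ E ⊔ C) h
    rwa [hv, mul_inv_cancel_left] at this)
  have hvC : v ^ p ∈ C := D.pow_mem_cent hi₀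
  set A := C ⊔ Subgroup.zpowers v with hA
  have hAC : ∀ a ∈ A, ∃ j : ℕ, ∃ c' ∈ C, a = c' * v ^ j ∧ (a ∈ E ⊔ C → p ∣ j) := by
    intro a ha
    obtain ⟨c', hc', b, hb, rfl⟩ := Subgroup.mem_sup_of_normal_left.1 ha
    obtain ⟨j, rfl⟩ := mem_powers_iff_mem_zpowers.2 hb
    refine ⟨j, c', hc', rfl, fun h => ?_⟩
    have hvj : v ^ j ∈ E ⊔ C := by
      have := mul_mem (inv_mem (Subgroup.mem_sup_right hc' : c' ∈ E ⊔ C)) h
      rwa [inv_mul_cancel_left] at this
    by_contra hd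
    refine hvEC ?_
    obtain ⟨l, hl⟩ := IsPGroup.iff_orderOf.1 hX v
    obtain ⟨r, hr⟩ := exists_pow_eq_self_of_coprime (x := v) (n := j) (by
      rw [hl]; exact Nat.Coprime.pow_right l ((hp.out.coprime_iff_not_dvd.2 hd).symm))
    rw [← hr]
    exact pow_mem hvj r
  have hAΩ : ∀ a ∈ A, a ^ p = 1 → a ∈ D.Z := by
    intro a ha hap
    obtain ⟨j, c', hc', rfl, hj⟩ := hAC a ha
    obtain ⟨r, rfl⟩ := hj (Subgroup.mem_sup_left (hΩ _ hap))
    refine D.mem_Z_of_pow hrk (mul_mem hc' ?_) hap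
    rw [pow_mul]
    exact pow_mem hvC r
  haveI hAcyc : IsCyclic A := by
    refine CfsgLib.ConstStab.isCyclic_of_unique_prime_subgroup hp2 (hX.to_subgroup A)
      fun x y hx1 hx hy => ?_
    obtain ⟨i, -, hi⟩ := D.exists_pow_eq (hAΩ x x.2 (congrArg Subtype.val hx))
      (fun h => hx1 (Subtype.ext h)) (hAΩ y y.2 (congrArg Subtype.val hy))
    exact ⟨i, Subtype.ext (by simpa using hi)⟩
  have hvA : Subgroup.zpowers v = A := by
    obtain ⟨⟨a, haA⟩, ha⟩ := hAcyc.exists_generator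
    obtain ⟨l, hl'⟩ := mem_powers_iff_mem_zpowers.2
      (ha ⟨v, Subgroup.mem_sup_right (Subgroup.mem_zpowers v)⟩)
    have hl : a ^ l = v := congrArg Subtype.val hl'
    have hap : a ^ p ∈ E ⊔ C := by
      have hq : ((a : X) : X ⧸ (E ⊔ C)) ^ p = 1 := by
        apply orderOf_dvd_iff_pow_eq_one.1
        have := orderOf_dvd_natCard ((a : X) : X ⧸ (E ⊔ C))
        rwa [← Subgroup.index_eq_card, hidx] at this
      rwa [← QuotientGroup.mk_pow, QuotientGroup.eq_one_iff] at hq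
    have hlp : ¬ p ∣ l := by
      rintro ⟨r, rfl⟩
      exact hvEC (by rw [← hl, pow_mul]; exact pow_mem hap r)
    obtain ⟨k, hk⟩ := IsPGroup.iff_orderOf.1 hX a
    obtain ⟨r, hr⟩ := exists_pow_eq_self_of_coprime (x := a) (n := l) (by
      rw [hk]; exact Nat.Coprime.pow_right k ((hp.out.coprime_iff_not_dvd.2 hlp).symm))
    refine le_antisymm (Subgroup.zpowers_le.2 (Subgroup.mem_sup_right (Subgroup.mem_zpowers v)))
      fun b hb => ?_
    obtain ⟨t, ht⟩ := ha ⟨b, hb⟩
    have ht' : a ^ t = b := congrArg Subtype.val ht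
    rw [← ht', ← hr, hl]
    exact zpow_mem (pow_mem (Subgroup.mem_zpowers v) r) t
  have hvCeq : Subgroup.zpowers (v ^ p) = C := by
    refine le_antisymm (Subgroup.zpowers_le.2 hvC) fun a ha => ?_
    obtain ⟨j, hj'⟩ := mem_powers_iff_mem_zpowers.2
      (hvA.ge (Subgroup.mem_sup_left ha : a ∈ A))
    change v ^ j = a at hj'
    have hd : p ∣ j := by
      by_contra hd
      refine hvEC ?_
      obtain ⟨l, hl⟩ := IsPGroup.iff_orderOf.1 hX v
      obtain ⟨r, hr⟩ := exists_pow_eq_self_of_coprime (x := v) (n := j) (by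
        rw [hl]; exact Nat.Coprime.pow_right l ((hp.out.coprime_iff_not_dvd.2 hd).symm))
      rw [← hr, hj']
      exact pow_mem (Subgroup.mem_sup_right ha) r
    obtain ⟨r, rfl⟩ := hd
    rw [← hj', pow_mul]
    exact Subgroup.pow_mem _ (Subgroup.mem_zpowers _) r
  have hvp : orderOf (v ^ p) = p ^ m := by rw [← Nat.card_zpowers, hvCeq, hm]
  have hvo : orderOf v = p ^ (m + 1) := by
    obtain ⟨l, hl⟩ := IsPGroup.iff_orderOf.1 hX v
    have hl0 : l ≠ 0 := by
      rintro rfl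
      rw [pow_zero, orderOf_eq_one_iff] at hl
      exact hvEC (hl ▸ one_mem _)
    rw [orderOf_pow_of_dvd hp.out.ne_zero (hl ▸ dvd_pow_self p hl0), hl] at hvp
    have : p ^ l = p * p ^ m := by
      rw [← hvp, Nat.mul_div_cancel' (dvd_pow_self p hl0)]
    rw [hl, this, ← pow_succ']
  set ω := v ^ p ^ m with hω
  have hωo : orderOf ω = p := by
    have := hord (Nat.le_add_left 1 m) hvo
    rwa [Nat.add_sub_cancel] at this
  have hωZ : ω ∈ D.Z := by
    refine D.mem_Z_of_pow hrk ?_ (by rw [← hωo]; exact pow_orderOf_eq_one ω)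
    rw [hω, show m = (m - 1) + 1 by omega, pow_succ', pow_mul]
    exact pow_mem hvC _
  -- `t = [e, v]`
  set t := ⁅D.e, v⁆ with ht
  have htW : t ∈ D.W := by
    rw [ht, ← commutatorElement_inv]; exact inv_mem (D.hge v)
  have htZ : t ∉ D.Z := fun h => hvEC (D.mem_sup_of_comm (by
    rw [← commutatorElement_inv]; exact inv_mem h))
  have hev : D.e * v * D.e⁻¹ = t * v := by rw [ht]; simp [commutatorElement_def]
  have hζZ : ⁅D.e, t⁆ ∈ D.Z := D.comm_mem_Z D.he (D.hWE htW)
  have hζ1 : ⁅D.e, t⁆ ≠ 1 := fun h => htZ (D.hZE.le ⟨D.hWE htW,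
    D.mem_centralizer (D.W_comm t htW D.w D.hw) (commutatorElement_eq_one_iff_mul_comm.1 h).symm⟩)
  set ζ := ⁅D.e, t⁆ with hζ
  have het : D.e * t * D.e⁻¹ = ζ * t := by rw [hζ]; simp [commutatorElement_def]
  obtain ⟨k, hkp, hk⟩ := D.exists_pow_eq hωZ (hne hωo) hζZ
  have hk0 : (k : ZMod p) ≠ 0 := by
    rw [Ne, ZMod.natCast_eq_zero_iff]
    intro hd
    refine hζ1 ?_
    rw [← hk]
    exact orderOf_dvd_iff_pow_eq_one.1 (hωo.symm ▸ hd)
  obtain ⟨i, s, hs, hsk, hi⟩ : ∃ i s : ℕ, (s = 1 ∨ ¬ IsSquare (s : ZMod p)) ∧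
      ((k * i * i : ℕ) : ZMod p) = (s : ZMod p) ∧ (i : ZMod p) ≠ 0 := by
    by_cases hsq : IsSquare (k : ZMod p)
    · obtain ⟨r, hr⟩ := hsq
      have hr0 : r ≠ 0 := fun h => hk0 (by rw [hr, h, mul_zero])
      refine ⟨r⁻¹.val, 1, Or.inl rfl, ?_, by rw [ZMod.natCast_zmod_val]; exact inv_ne_zero hr0⟩
      push_cast
      rw [ZMod.natCast_zmod_val, hr]
      field_simp
    · exact ⟨1, k, Or.inr hsq, by simp, by simp⟩
  have hstep : ∀ j : ℕ, ∃ z' ∈ D.Z, D.e ^ j * v * (D.e ^ j)⁻¹ = z' * (t ^ j * v) := by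
    intro j
    induction j with
    | zero => exact ⟨1, one_mem _, by simp⟩
    | succ j ih =>
      obtain ⟨z', hz', hj⟩ := ih
      have htj : D.e * t ^ j * D.e⁻¹ = ζ ^ j * t ^ j := by
        rw [← conj_pow, het]
        exact (show Commute ζ t from (D.central hζZ t).symm).mul_pow j
      refine ⟨z' * ζ ^ j, mul_mem hz' (pow_mem hζZ j), ?_⟩
      calc D.e ^ (j + 1) * v * (D.e ^ (j + 1))⁻¹
          = D.e * (D.e ^ j * v * (D.e ^ j)⁻¹) * D.e⁻¹ := by rw [pow_succ']; group
        _ = D.e * z' * D.e⁻¹ * ((D.e * t ^ j * D.e⁻¹) * (D.e * v * D.e⁻¹)) := by rw [hj]; group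
        _ = z' * ((ζ ^ j * t ^ j) * (t * v)) := by
            rw [D.central hz' D.e, mul_inv_cancel_right, htj, hev]
        _ = z' * ζ ^ j * (t ^ (j + 1) * v) := by rw [pow_succ t j]; group
  obtain ⟨z', hz', hz'i⟩ := hstep i
  set y := z' * t ^ i with hy
  have hyW : y ∈ D.W := mul_mem (D.hZW hz') (pow_mem htW i)
  have hay : D.e ^ i * y * (D.e ^ i)⁻¹ = ω ^ s * y := by
    have h1 := conj_pow_central (fun x => D.central hζZ x) het i
    have hωs : ω ^ (k * i * i) = ω ^ s := by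
      rw [pow_eq_pow_iff_modEq, hωo]
      exact (ZMod.natCast_eq_natCast_iff _ _ _).1 hsk
    calc D.e ^ i * y * (D.e ^ i)⁻¹
        = D.e ^ i * z' * (D.e ^ i)⁻¹ * (D.e ^ i * t ^ i * (D.e ^ i)⁻¹) := by rw [hy]; group
      _ = z' * ((ζ ^ i) ^ i * t ^ i) := by
          rw [D.central hz' (D.e ^ i), mul_inv_cancel_right, ← conj_pow, h1]
          rw [(show Commute (ζ ^ i) t from
            ((D.central (pow_mem hζZ i) t).symm)).mul_pow]
      _ = ω ^ s * y := by
          rw [hy, ← hk, ← pow_mul, ← pow_mul, ← mul_assoc k i i, hωs, ← mul_assoc, ← mul_assoc,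
            D.central (pow_mem hωZ s) z']
  have hωs1 : ω ^ s ≠ 1 := by
    intro h
    have hd := orderOf_dvd_of_pow_eq_one h
    rw [hωo, ← ZMod.natCast_eq_zero_iff, ← hsk] at hd
    push_cast at hd
    simp only [mul_eq_zero] at hd
    tauto
  refine ⟨s, (D.e ^ i)⁻¹, y, v, hs, ?_, D.hexp _ (inv_mem (pow_mem D.he i)),
    D.hexp _ (D.hWE hyW), ?_, (D.comm_W hi₀ y hyW).symm, ?_, ?_⟩
  · set H := Subgroup.closure ({(D.e ^ i)⁻¹, y, v} : Set X) with hH
    have hvH : v ∈ H := Subgroup.subset_closure (by simp)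
    have hCH : C ≤ H := hvCeq ▸ Subgroup.zpowers_le.2 (pow_mem hvH p)
    have hyZ : y ∉ D.Z := fun h => hωs1 (by
      rw [D.central h (D.e ^ i), mul_inv_cancel_right] at hay
      exact right_eq_mul.1 hay)
    have hWH : D.W ≤ H := D.W_le (hZC.trans hCH) hyW hyZ (Subgroup.subset_closure (by simp))
    have heW' : (D.e ^ i)⁻¹ ∉ D.W := fun h => hωs1 (by
      rw [D.W_comm _ (inv_mem_iff.1 h) y hyW, mul_inv_cancel_right] at hay
      exact right_eq_mul.1 hay)
    have heH : E ≤ H := D.E_le hWH (inv_mem (pow_mem D.he i)) heW' (Subgroup.subset_closure (by simp))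
    have hle : E ⊔ C ≤ H := sup_le heH hCH
    refine Subgroup.index_eq_one.1 ?_
    rcases (Nat.dvd_prime hp.out).1 (hidx ▸ Subgroup.index_dvd_of_le hle) with h | h
    · exact h
    · exfalso
      have h1 := (E ⊔ C).card_mul_index
      rw [hidx, ← H.card_mul_index, h] at h1
      have := Subgroup.eq_of_le_of_card_ge hle (Nat.eq_of_mul_eq_mul_right hp.out.pos h1).ge
      exact hvEC (this ▸ hvH)
  · rw [show n - 2 = m + 1 by omega, ← hvo]; exact pow_orderOf_eq_one v
  · rw [inv_inv, hay, show n - 3 = m by omega, mul_comm s, pow_mul, ← hω]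
    exact (D.central (pow_mem hωZ s) y).symm
  · rw [inv_inv, hz'i, hy, mul_assoc]

end HeisData

end CfsgLib.Struct76
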