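import Mathlib.GroupTheory.Sylow
import Mathlib.GroupTheory.Index
import Mathlib.Tactic.Group

set_option autoImplicit false

/-! Small general lemmas used by the statements S3837-S3896. -/

namespace CfsgLib.Struct76

variable {G : Type*} [Group G]

/-- The intersection of a Sylow subgroup with a normal subgroup is Sylow in the latter. -/
theorem exists_sylow_inf_normal [Finite G] {p : ℕ} [Fact p.Prime] (P : Sylow p G) (T : Subgroup G)
    [T.Normal] : ∃ Q : Sylow p T, (Q : Subgroup T) = (P : Subgroup G).subgroupOf T := by
  have hp : IsPGroup p ((P : Subgroup G).subgroupOf T) :=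
    P.2.comap_subtype
  have hidx : ¬ p ∣ ((P : Subgroup G).subgroupOf T).index := by
    intro h
    apply P.not_dvd_index
    refine h.trans ?_
    change (P : Subgroup G).relIndex T ∣ _
    have h1 : (P : Subgroup G).relIndex T = (P : Subgroup G).relIndex ((P : Subgroup G) ⊔ T) := by
      have e1 := Subgroup.relIndex_mul_relIndex (H := (P : Subgroup G) ⊓ T)
        (K := T) (L := (P : Subgroup G) ⊔ T) inf_le_right le_sup_right
      have e2 := Subgroup.relIndex_mul_relIndex (H := (P : Subgroup G) ⊓ T)
        (K := (P : Subgroup G)) (L := (P : Subgroup G) ⊔ T) inf_le_left le_sup_left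
      rw [Subgroup.inf_relIndex_right, Subgroup.relIndex_sup_right] at e1
      rw [Subgroup.inf_relIndex_left] at e2
      have hne : T.relIndex (P : Subgroup G) ≠ 0 := Subgroup.FiniteIndex.index_ne_zero
      exact Nat.eq_of_mul_eq_mul_right (Nat.pos_of_ne_zero hne) (by rw [e1, ← e2, mul_comm])
    rw [h1]
    exact Subgroup.relIndex_dvd_index_of_le le_sup_left
  exact ⟨hp.toSylow hidx, IsPGroup.toSylow_coe hp hidx⟩

end CfsgLib.Struct76
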