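import Mathlib
import Cfsg.Agent.Lib.H82.HallPetrescu

/-!
# The Lie ring of the lower central series
-/

set_option autoImplicit false

namespace CfsgLib.LowerCentralLie76

open scoped commutatorElement

variable {G : Type*} [Group G]

/-- A term of the lower central series. -/
abbrev lcs (G : Type*) [Group G] (i : ℕ) : Subgroup G := (⊤ : Subgroup G).lowerCentralSeries i

theorem comm_mem {i j : ℕ} {x y : G} (hx : x ∈ lcs G i) (hy : y ∈ lcs G j) :
    ⁅x, y⁆ ∈ lcs G (i + j + 1) :=
  CfsgLib.HallPetrescu82.lcs_commutator i j (Subgroup.commutator_mem_commutator hx hy)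

theorem lcs_le {i j : ℕ} (h : i ≤ j) : lcs G j ≤ lcs G i :=
  (⊤ : Subgroup G).lowerCentralSeries_antitone h

theorem conj_mem {i : ℕ} (g : G) {x : G} (hx : x ∈ lcs G i) : g * x * g⁻¹ ∈ lcs G i :=
  ((inferInstance : ((⊤ : Subgroup G).lowerCentralSeries i).Normal)).conj_mem x hx g

instance instNormalLcsNext (i : ℕ) : ((lcs G (i + 1)).subgroupOf (lcs G i)).Normal :=
  inferInstance

noncomputable instance instCommGroupLayer (i : ℕ) :
    CommGroup (↥(lcs G i) ⧸ (lcs G (i + 1)).subgroupOf (lcs G i)) :=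
  { (inferInstance : Group (↥(lcs G i) ⧸ (lcs G (i + 1)).subgroupOf (lcs G i))) with
    mul_comm := by
      rintro a b
      induction a using QuotientGroup.induction_on with
      | _ a =>
      induction b using QuotientGroup.induction_on with
      | _ b =>
      refine QuotientGroup.eq.2 ?_
      have h : ⁅(b : G)⁻¹, (a : G)⁻¹⁆ ∈ lcs G (i + 1) :=
        lcs_le (by omega) (comm_mem (inv_mem b.2) (inv_mem a.2))
      rw [Subgroup.mem_subgroupOf]
      convert h using 1
      simp [commutatorElement_def, mul_assoc] }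

/-- A layer of the lower central series, written additively. -/
abbrev Gr (G : Type*) [Group G] (i : ℕ) : Type _ :=
  Additive (↥(lcs G i) ⧸ (lcs G (i + 1)).subgroupOf (lcs G i))

/-- The underlying group of the Lie ring. -/
abbrev LCL (G : Type*) [Group G] : Type _ := DirectSum ℕ (Gr G)

open scoped Classical in
/-- The class of an element of the `i`-th term. -/
noncomputable def toL (i : ℕ) (x : G) : LCL G :=
  if h : x ∈ lcs G i then
    DirectSum.of (Gr G) i (Additive.ofMul (QuotientGroup.mk (⟨x, h⟩ : lcs G i)))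
  else 0

theorem toL_of_mem {i : ℕ} {x : G} (h : x ∈ lcs G i) :
    toL i x = DirectSum.of (Gr G) i (Additive.ofMul (QuotientGroup.mk (⟨x, h⟩ : lcs G i))) :=
  dif_pos h

theorem toL_mul {i : ℕ} {x y : G} (hx : x ∈ lcs G i) (hy : y ∈ lcs G i) :
    toL i (x * y) = toL i x + toL i y := by
  rw [toL_of_mem hx, toL_of_mem hy, toL_of_mem (mul_mem hx hy), ← map_add]
  rfl

theorem toL_one (i : ℕ) : toL i (1 : G) = 0 := by
  rw [toL_of_mem (one_mem _)]
  exact map_zero _

theorem toL_inv {i : ℕ} {x : G} (hx : x ∈ lcs G i) : toL i x⁻¹ = -toL i x := by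
  have := toL_mul (inv_mem hx) hx
  rw [inv_mul_cancel, toL_one] at this
  exact eq_neg_of_add_eq_zero_left this.symm

theorem toL_eq_zero {i : ℕ} {x : G} (hx : x ∈ lcs G (i + 1)) : toL i x = 0 := by
  have h : x ∈ lcs G i := lcs_le (Nat.le_succ i) hx
  rw [toL_of_mem h, (QuotientGroup.eq_one_iff (N := (lcs G (i + 1)).subgroupOf (lcs G i)) ⟨x, h⟩).2
    (Subgroup.mem_subgroupOf.2 hx)]
  exact map_zero _

theorem mem_of_toL_eq_zero {i : ℕ} {x : G} (hx : x ∈ lcs G i) (h : toL i x = 0) :
    x ∈ lcs G (i + 1) := by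
  rw [toL_of_mem hx, ← map_zero (DirectSum.of (Gr G) i)] at h
  have h' := congrArg Additive.toMul (DirectSum.of_injective i h)
  exact Subgroup.mem_subgroupOf.1 ((QuotientGroup.eq_one_iff _).1 h')

theorem toL_conj {i : ℕ} (g : G) {x : G} (hx : x ∈ lcs G i) :
    toL i (g * x * g⁻¹) = toL i x := by
  have h : ⁅g, x⁆ ∈ lcs G (i + 1) := by
    have := comm_mem (i := 0) (x := g) (Subgroup.mem_top g) hx
    rwa [Nat.zero_add] at this
  rw [show g * x * g⁻¹ = ⁅g, x⁆ * x by simp [commutatorElement_def],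
    toL_mul (lcs_le (Nat.le_succ i) h) hx, toL_eq_zero h, zero_add]

theorem toL_congr {i : ℕ} {x y : G} (hx : x ∈ lcs G i) (hy : y ∈ lcs G i)
    (h : x⁻¹ * y ∈ lcs G (i + 1)) : toL i y = toL i x := by
  rw [show y = x * (x⁻¹ * y) by group, toL_mul hx (lcs_le (Nat.le_succ i) h), toL_eq_zero h,
    add_zero]

/-- A representative of an element of a layer. -/
noncomputable def rep {i : ℕ} (a : Gr G i) : G := ((Quotient.out (Additive.toMul a) : lcs G i) : G)

theorem rep_mem {i : ℕ} (a : Gr G i) : rep a ∈ lcs G i := (Quotient.out (Additive.toMul a)).2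

theorem mk_rep {i : ℕ} (a : Gr G i) :
    Additive.ofMul (QuotientGroup.mk (⟨rep a, rep_mem a⟩ : lcs G i)) = a :=
  congrArg Additive.ofMul (Quotient.out_eq (Additive.toMul a))

theorem toL_rep {i : ℕ} (a : Gr G i) : toL i (rep a) = DirectSum.of (Gr G) i a := by
  rw [toL_of_mem (rep_mem a), mk_rep]

theorem rep_spec {i : ℕ} {a : Gr G i} {x : G} (hx : x ∈ lcs G i)
    (h : Additive.ofMul (QuotientGroup.mk (⟨x, hx⟩ : lcs G i)) = a) :
    x⁻¹ * rep a ∈ lcs G (i + 1) := by
  have h' : (QuotientGroup.mk (⟨x, hx⟩ : lcs G i) :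
      ↥(lcs G i) ⧸ (lcs G (i + 1)).subgroupOf (lcs G i)) =
      QuotientGroup.mk ⟨rep a, rep_mem a⟩ :=
    Additive.ofMul.injective (h.trans (mk_rep a).symm)
  exact Subgroup.mem_subgroupOf.1 (QuotientGroup.eq.1 h')

theorem gr_induction {P : LCL G → Prop} (h0 : P 0) (hadd : ∀ u v, P u → P v → P (u + v))
    (hgen : ∀ i, ∀ x ∈ lcs G i, P (toL i x)) (u : LCL G) : P u := by
  induction u using DirectSum.induction_on with
  | zero => exact h0
  | of i a => rw [← toL_rep a]; exact hgen i _ (rep_mem a)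
  | add u v hu hv => exact hadd u v hu hv

/-- The bracket of classes only depends on the classes. -/
theorem toL_comm_mul_left {i j : ℕ} {x x' y : G} (hx : x ∈ lcs G i) (hx' : x' ∈ lcs G i)
    (hy : y ∈ lcs G j) :
    toL (i + j + 1) ⁅x * x', y⁆ = toL (i + j + 1) ⁅x, y⁆ + toL (i + j + 1) ⁅x', y⁆ := by
  rw [commutatorElement_mul_left_eq_conj_mul, toL_mul (conj_mem _ (comm_mem hx' hy)) (comm_mem hx hy),
    toL_conj _ (comm_mem hx' hy), add_comm]

theorem toL_comm_mul_right {i j : ℕ} {x y y' : G} (hx : x ∈ lcs G i) (hy : y ∈ lcs G j)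
    (hy' : y' ∈ lcs G j) :
    toL (i + j + 1) ⁅x, y * y'⁆ = toL (i + j + 1) ⁅x, y⁆ + toL (i + j + 1) ⁅x, y'⁆ := by
  rw [commutatorElement_mul_right_eq_mul_conj, mul_assoc, mul_assoc, ← mul_assoc y,
    toL_mul (comm_mem hx hy) (conj_mem _ (comm_mem hx hy')), toL_conj _ (comm_mem hx hy')]

theorem toL_comm_congr {i j : ℕ} {x x' y y' : G} (hx : x ∈ lcs G i) (hy : y ∈ lcs G j)
    (hx' : x⁻¹ * x' ∈ lcs G (i + 1)) (hy' : y⁻¹ * y' ∈ lcs G (j + 1)) :
    toL (i + j + 1) ⁅x', y'⁆ = toL (i + j + 1) ⁅x, y⁆ := by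
  have hxx : x' ∈ lcs G i := by
    have := mul_mem hx (lcs_le (Nat.le_succ i) hx')
    rwa [mul_inv_cancel_left] at this
  have hyy : y' ∈ lcs G j := by
    have := mul_mem hy (lcs_le (Nat.le_succ j) hy')
    rwa [mul_inv_cancel_left] at this
  have h1 : toL (i + j + 1) ⁅x⁻¹ * x', y'⁆ = 0 :=
    toL_eq_zero (lcs_le (by omega) (comm_mem hx' hyy))
  have h2 : toL (i + j + 1) ⁅x, y⁻¹ * y'⁆ = 0 :=
    toL_eq_zero (lcs_le (by omega) (comm_mem hx hy'))
  rw [← mul_inv_cancel_left x x', toL_comm_mul_left hx (lcs_le (Nat.le_succ i) hx') hyy, h1,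
    add_zero]
  nth_rewrite 1 [← mul_inv_cancel_left y y']
  rw [toL_comm_mul_right hx hy (lcs_le (Nat.le_succ j) hy'), h2, add_zero]

theorem rep_add {i : ℕ} (a b : Gr G i) : (rep a * rep b)⁻¹ * rep (a + b) ∈ lcs G (i + 1) := by
  refine rep_spec (mul_mem (rep_mem a) (rep_mem b)) ?_
  conv_rhs => rw [← mk_rep a, ← mk_rep b]
  rfl

/-- The bracket of two layers. -/
noncomputable def brLayer (i j : ℕ) : Gr G i →+ Gr G j →+ LCL G :=
  AddMonoidHom.mk' (fun a => AddMonoidHom.mk' (fun b => toL (i + j + 1) ⁅rep a, rep b⁆)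
      fun b b' => by
        rw [toL_comm_congr (rep_mem a) (mul_mem (rep_mem b) (rep_mem b'))
          (by rw [inv_mul_cancel]; exact one_mem _) (rep_add b b'),
          toL_comm_mul_right (rep_mem a) (rep_mem b) (rep_mem b')])
    fun a a' => by
      refine AddMonoidHom.ext fun b => ?_
      show toL (i + j + 1) ⁅rep (a + a'), rep b⁆ =
        toL (i + j + 1) ⁅rep a, rep b⁆ + toL (i + j + 1) ⁅rep a', rep b⁆
      rw [toL_comm_congr (mul_mem (rep_mem a) (rep_mem a')) (rep_mem b) (rep_add a a')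
          (by rw [inv_mul_cancel]; exact one_mem _),
        toL_comm_mul_left (rep_mem a) (rep_mem a') (rep_mem b)]

/-- The bracket. -/
noncomputable def br : LCL G →+ LCL G →+ LCL G :=
  DirectSum.toAddMonoid fun i =>
    AddMonoidHom.flip (DirectSum.toAddMonoid fun j => (brLayer (G := G) i j).flip)

theorem br_toL {i j : ℕ} {x y : G} (hx : x ∈ lcs G i) (hy : y ∈ lcs G j) :
    br (toL i x) (toL j y) = toL (i + j + 1) ⁅x, y⁆ := by
  rw [toL_of_mem hx, toL_of_mem hy, br, DirectSum.toAddMonoid_of, AddMonoidHom.flip_apply,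
    DirectSum.toAddMonoid_of, AddMonoidHom.flip_apply]
  exact toL_comm_congr hx hy (rep_spec hx rfl) (rep_spec hy rfl)

theorem br_skew (u v : LCL G) : br u v + br v u = 0 := by
  induction u using gr_induction with
  | h0 => simp
  | hadd u u' hu hu' => rw [map_add, AddMonoidHom.add_apply, map_add, add_add_add_comm, hu, hu', add_zero]
  | hgen i x hx =>
    induction v using gr_induction with
    | h0 => simp
    | hadd v v' hv hv' => rw [map_add, map_add, AddMonoidHom.add_apply, add_add_add_comm, hv, hv', add_zero]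
    | hgen j y hy =>
      rw [br_toL hx hy, br_toL hy hx, ← commutatorElement_inv x y, Nat.add_comm j i,
        toL_inv (comm_mem hx hy), add_neg_cancel]

theorem br_self (u : LCL G) : br u u = 0 := by
  induction u using gr_induction with
  | h0 => simp
  | hadd u v hu hv =>
    simp only [map_add, AddMonoidHom.add_apply]
    rw [hu, hv, zero_add, add_zero, add_comm, br_skew]
  | hgen i x hx => rw [br_toL hx hx, commutatorElement_self, toL_one]

theorem br_cyclic (u v w : LCL G) : br (br u v) w + br (br v w) u + br (br w u) v = 0 := by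
  induction u using gr_induction with
  | h0 => simp
  | hadd u u' hu hu' =>
    simp only [map_add, AddMonoidHom.add_apply]
    calc _ = (br (br u v) w + br (br v w) u + br (br w u) v) +
        (br (br u' v) w + br (br v w) u' + br (br w u') v) := by abel
      _ = 0 := by rw [hu, hu', add_zero]
  | hgen i a ha =>
  induction v using gr_induction with
  | h0 => simp
  | hadd v v' hv hv' =>
    simp only [map_add, AddMonoidHom.add_apply]
    calc _ = (br (br (toL i a) v) w + br (br v w) (toL i a) + br (br w (toL i a)) v) +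
        (br (br (toL i a) v') w + br (br v' w) (toL i a) + br (br w (toL i a)) v') := by abel
      _ = 0 := by rw [hv, hv', add_zero]
  | hgen j b hb =>
  induction w using gr_induction with
  | h0 => simp
  | hadd w w' hw hw' =>
    simp only [map_add, AddMonoidHom.add_apply]
    calc _ = (br (br (toL i a) (toL j b)) w + br (br (toL j b) w) (toL i a) +
          br (br w (toL i a)) (toL j b)) +
        (br (br (toL i a) (toL j b)) w' + br (br (toL j b) w') (toL i a) +
          br (br w' (toL i a)) (toL j b)) := by abel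
      _ = 0 := by rw [hw, hw', add_zero]
  | hgen k c hc =>
  have e1 : br (br (toL i a) (toL j b)) (toL k c) =
      toL (i + j + k + 2) ⁅⁅a, b⁆, b * c * b⁻¹⁆ := by
    rw [← toL_conj b hc, br_toL ha hb, br_toL (comm_mem ha hb) (conj_mem b hc)]
    congr 1; omega
  have e2 : br (br (toL j b) (toL k c)) (toL i a) =
      toL (i + j + k + 2) ⁅⁅b, c⁆, c * a * c⁻¹⁆ := by
    rw [← toL_conj c ha, br_toL hb hc, br_toL (comm_mem hb hc) (conj_mem c ha)]
    congr 1; omega
  have e3 : br (br (toL k c) (toL i a)) (toL j b) =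
      toL (i + j + k + 2) ⁅⁅c, a⁆, a * b * a⁻¹⁆ := by
    rw [← toL_conj a hb, br_toL hc ha, br_toL (comm_mem hc ha) (conj_mem a hb)]
    congr 1; omega
  have m1 : ⁅⁅a, b⁆, b * c * b⁻¹⁆ ∈ lcs G (i + j + k + 2) :=
    lcs_le (by omega) (comm_mem (comm_mem ha hb) (conj_mem b hc))
  have m2 : ⁅⁅b, c⁆, c * a * c⁻¹⁆ ∈ lcs G (i + j + k + 2) :=
    lcs_le (by omega) (comm_mem (comm_mem hb hc) (conj_mem c ha))
  have m3 : ⁅⁅c, a⁆, a * b * a⁻¹⁆ ∈ lcs G (i + j + k + 2) :=
    lcs_le (by omega) (comm_mem (comm_mem hc ha) (conj_mem a hb))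
  rw [e1, e2, e3, ← toL_mul m1 m2, ← toL_mul (mul_mem m1 m2) m3,
    commutatorElement_commutatorElement_conj_mul, toL_one]

noncomputable instance instLieRingLCL : LieRing (LCL G) where
  bracket u v := br u v
  add_lie u v w := by rw [map_add, AddMonoidHom.add_apply]
  lie_add u v w := map_add (br u) v w
  lie_self := br_self
  leibniz_lie u v w := by
    have hskew : ∀ s t : LCL G, br s t = -br t s := fun s t => eq_neg_of_add_eq_zero_left (br_skew s t)
    show br u (br v w) = br (br u v) w + br v (br u w)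
    rw [hskew u (br v w), hskew v (br u w), hskew u w, map_neg, AddMonoidHom.neg_apply, neg_neg]
    refine neg_eq_of_add_eq_zero_left ?_
    calc _ = br (br u v) w + br (br v w) u + br (br w u) v := by abel
      _ = 0 := br_cyclic u v w

theorem lie_toL {i j : ℕ} {x y : G} (hx : x ∈ lcs G i) (hy : y ∈ lcs G j) :
    ⁅toL i x, toL j y⁆ = toL (i + j + 1) ⁅x, y⁆ := br_toL hx hy

theorem map_mem_lcs (φ : G →* G) {i : ℕ} {x : G} (hx : x ∈ lcs G i) : φ x ∈ lcs G i :=
  Subgroup.lowerCentralSeries.map φ i |>.trans ((⊤ : Subgroup G).lowerCentralSeries_mono i le_top)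
    (Subgroup.mem_map_of_mem φ hx)

/-- The map of a layer induced by an endomorphism of the group. -/
noncomputable def grMap (φ : G →* G) (i : ℕ) : Gr G i →+ Gr G i :=
  MonoidHom.toAdditive (QuotientGroup.map _ _ ((φ.domRestrict (lcs G i)).codRestrict (lcs G i)
    fun x => map_mem_lcs φ x.2) fun x hx => Subgroup.mem_comap.2
      (Subgroup.mem_subgroupOf.2 (map_mem_lcs φ (Subgroup.mem_subgroupOf.1 hx))))

/-- The map of the Lie ring induced by an endomorphism of the group. -/
noncomputable def lclMap (φ : G →* G) : LCL G →+ LCL G := DirectSum.map (grMap φ)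

theorem lclMap_toL (φ : G →* G) {i : ℕ} {x : G} (hx : x ∈ lcs G i) :
    lclMap φ (toL i x) = toL i (φ x) := by
  rw [toL_of_mem hx, toL_of_mem (map_mem_lcs φ hx), lclMap, DirectSum.map_of]
  rfl

theorem lclMap_lie (φ : G →* G) (u v : LCL G) : lclMap φ ⁅u, v⁆ = ⁅lclMap φ u, lclMap φ v⁆ := by
  induction u using gr_induction with
  | h0 => simp
  | hadd u u' hu hu' => simp [add_lie, hu, hu']
  | hgen i x hx =>
    induction v using gr_induction with
    | h0 => simp
    | hadd v v' hv hv' => simp [lie_add, hv, hv']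
    | hgen j y hy =>
      rw [lie_toL hx hy, lclMap_toL φ (comm_mem hx hy), lclMap_toL φ hx, lclMap_toL φ hy,
        lie_toL (map_mem_lcs φ hx) (map_mem_lcs φ hy), map_commutatorElement]

theorem eq_zero_of_layers {u : LCL G}
    (h : ∀ i, ∀ x ∈ lcs G i, toL i x = DirectSum.of (Gr G) i (u i) → x ∈ lcs G (i + 1)) : u = 0 := by
  refine DFinsupp.ext fun i => ?_
  have := toL_eq_zero (h i _ (rep_mem (u i)) (toL_rep (u i)))
  rw [toL_rep] at this
  exact DirectSum.of_injective i (this.trans (map_zero _).symm)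

/-- A fixed-point-free action on the layers gives a fixed-point-free action on the Lie ring. -/
theorem lclMap_eq_self (φ : G →* G)
    (h : ∀ i, ∀ x ∈ lcs G i, (φ x)⁻¹ * x ∈ lcs G (i + 1) → x ∈ lcs G (i + 1)) {u : LCL G}
    (hu : lclMap φ u = u) : u = 0 := by
  refine eq_zero_of_layers fun i x hx hxu => h i x hx ?_
  have h1 : lclMap φ (toL i x) = toL i x := by
    rw [hxu, lclMap, DirectSum.map_of, ← DirectSum.map_apply]
    exact congrArg (DirectSum.of (Gr G) i) (DFunLike.congr_fun hu i)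
  rw [lclMap_toL φ hx] at h1
  refine mem_of_toL_eq_zero (mul_mem (inv_mem (map_mem_lcs φ hx)) hx) ?_
  rw [toL_mul (inv_mem (map_mem_lcs φ hx)) hx, toL_inv (map_mem_lcs φ hx), h1, neg_add_cancel]

theorem eq_zero_of_nsmul {n : ℕ} (h : ∀ i, ∀ x ∈ lcs G i, x ^ n ∈ lcs G (i + 1) → x ∈ lcs G (i + 1))
    {u : LCL G} (hu : n • u = 0) : u = 0 := by
  refine eq_zero_of_layers fun i x hx hxu => h i x hx ?_
  refine mem_of_toL_eq_zero (pow_mem hx n) ?_
  have hpow : ∀ m : ℕ, toL i (x ^ m) = m • toL i x := by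
    intro m
    induction m with
    | zero => rw [pow_zero, toL_one, zero_smul]
    | succ m ih => rw [pow_succ, toL_mul (pow_mem hx m) hx, ih, succ_nsmul]
  rw [hpow, hxu, ← map_nsmul, show n • u i = 0 by
    rw [← DFinsupp.smul_apply, hu]; rfl, map_zero]

end CfsgLib.LowerCentralLie76
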