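import Mathlib

/-!
# The theorems of Higman, Kreknin and Kostrikin for graded Lie rings

Lie rings graded by `ZMod p`, with trivial component in degree zero.
-/

set_option autoImplicit false

namespace CfsgLib.Kreknin76

variable {p : ℕ} {L : Type*} [LieRing L]

/-- A family of subgroups indexed by `ZMod p` that is compatible with the bracket. -/
def IsGraded (A : ZMod p → AddSubgroup L) : Prop :=
  ∀ a b : ZMod p, ∀ x ∈ A a, ∀ y ∈ A b, ⁅x, y⁆ ∈ A (a + b)

/-- The brackets of two families. -/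
def brk (A B : ZMod p → AddSubgroup L) (t : ZMod p) : AddSubgroup L :=
  AddSubgroup.closure {z | ∃ a b : ZMod p, a + b = t ∧ ∃ x ∈ A a, ∃ y ∈ B b, ⁅x, y⁆ = z}

theorem mem_brk {A B : ZMod p → AddSubgroup L} {a b : ZMod p} {x y : L} (hx : x ∈ A a)
    (hy : y ∈ B b) : ⁅x, y⁆ ∈ brk A B (a + b) :=
  AddSubgroup.subset_closure ⟨a, b, rfl, x, hx, y, hy, rfl⟩

theorem brk_le {A B : ZMod p → AddSubgroup L} {t : ZMod p} {Z : AddSubgroup L}
    (h : ∀ a b, a + b = t → ∀ x ∈ A a, ∀ y ∈ B b, ⁅x, y⁆ ∈ Z) : brk A B t ≤ Z := by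
  refine (AddSubgroup.closure_le _).2 ?_
  rintro _ ⟨a, b, hab, x, hx, y, hy, rfl⟩
  exact h a b hab x hx y hy

theorem brk_mono {A A' B B' : ZMod p → AddSubgroup L} (hA : A ≤ A') (hB : B ≤ B') :
    brk A B ≤ brk A' B' := fun t => brk_le fun a b hab x hx y hy => hab ▸ mem_brk (hA a hx) (hB b hy)

theorem IsGraded.brk_self_le {A : ZMod p → AddSubgroup L} (hA : IsGraded A) : brk A A ≤ A :=
  fun _ => brk_le fun a b hab x hx y hy => hab ▸ hA a b x hx y hy

theorem IsGraded.brk {A : ZMod p → AddSubgroup L} (hA : IsGraded A) : IsGraded (brk A A) :=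
  fun _ _ _ hx _ hy => mem_brk (hA.brk_self_le _ hx) (hA.brk_self_le _ hy)

/-- One step of the derived series. -/
def derived (A : ZMod p → AddSubgroup L) : ZMod p → AddSubgroup L := Kreknin76.brk A A

/-- The derived series of a family. -/
def derivedSer (n : ℕ) (A : ZMod p → AddSubgroup L) : ZMod p → AddSubgroup L := derived^[n] A

theorem derivedSer_graded {A : ZMod p → AddSubgroup L} (hA : IsGraded A) :
    ∀ n, IsGraded (derivedSer n A) ∧ derivedSer n A ≤ A
  | 0 => ⟨hA, le_rfl⟩
  | n + 1 => by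
    obtain ⟨h1, h2⟩ := derivedSer_graded hA n
    have e : derivedSer (n + 1) A = derived (derivedSer n A) := Function.iterate_succ_apply' _ _ _
    rw [e]
    exact ⟨h1.brk, h1.brk_self_le.trans h2⟩

variable [hp : Fact p.Prime]

/-- Kreknin: the derived series drops below the subring generated by the high degrees. -/
theorem derivedSer_le (k : ℕ) : ∀ (A : ZMod p → AddSubgroup L), IsGraded A → A 0 = ⊥ →
    ∀ B : ZMod p → AddSubgroup L, IsGraded B → (∀ t : ZMod p, k < t.val → A t ≤ B t) →
      derivedSer (2 ^ k - 1) A ≤ B := by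
  induction k with
  | zero =>
    intro A _ h0 B _ hAB t
    rcases eq_or_ne t 0 with rfl | ht
    · exact le_trans (le_of_eq h0) bot_le
    · exact hAB t (Nat.pos_of_ne_zero fun h => ht ((ZMod.val_eq_zero t).1 h))
  | succ k ih =>
    intro A hA h0 B hB hAB
    set d := 2 ^ k - 1 with hd
    have hsplit : derivedSer (2 ^ (k + 1) - 1) A = derivedSer d (derived (derivedSer d A)) := by
      rw [show 2 ^ (k + 1) - 1 = d + (d + 1) by
        rw [hd, pow_succ]; have := Nat.two_pow_pos k; omega]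
      unfold derivedSer
      rw [Function.iterate_add_apply, Function.iterate_succ_apply']
    obtain ⟨hM, hMA⟩ := derivedSer_graded hA d
    have hM1A : derived (derivedSer d A) ≤ A := hM.brk_self_le.trans hMA
    have hM10 : derived (derivedSer d A) 0 = ⊥ := le_bot_iff.1 ((hM1A 0).trans h0.le)
    rw [hsplit]
    refine ih _ hM.brk hM10 B hB fun s hs => ?_
    rcases Nat.lt_or_ge (k + 1) s.val with hs1 | hs1
    · exact (hM1A s).trans (hAB s hs1)
    have hsv : s.val = k + 1 := le_antisymm hs1 hs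
    refine brk_le fun a b hab x hx y hy => ?_
    -- the elements of `A b` whose brackets into degree `k + 1` lie in `B`
    let B' : ZMod p → AddSubgroup L := fun b =>
      { carrier := {y | y ∈ A b ∧ ∀ a : ZMod p, a + b = s → ∀ x ∈ A a, ⁅x, y⁆ ∈ B s}
        zero_mem' := ⟨zero_mem _, fun a _ x _ => by rw [lie_zero]; exact zero_mem _⟩
        add_mem' := fun {u v} hu hv => ⟨add_mem hu.1 hv.1, fun a ha x hx => by
          rw [lie_add]; exact add_mem (hu.2 a ha x hx) (hv.2 a ha x hx)⟩
        neg_mem' := fun {u} hu => ⟨neg_mem hu.1, fun a ha x hx => by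
          rw [lie_neg]; exact neg_mem (hu.2 a ha x hx)⟩ }
    have hB' : IsGraded B' := by
      rintro b₁ b₂ y₁ ⟨hy₁, hy₁'⟩ y₂ ⟨hy₂, hy₂'⟩
      refine ⟨hA b₁ b₂ y₁ hy₁ y₂ hy₂, fun a ha x hx => ?_⟩
      rw [leibniz_lie x y₁ y₂]
      refine add_mem (hy₂' (a + b₁) (by rw [← ha]; abel) _ (hA a b₁ x hx y₁ hy₁)) ?_
      rw [← lie_skew]
      exact neg_mem (hy₁' (a + b₂) (by rw [← ha]; abel) _ (hA a b₂ x hx y₂ hy₂))
    have hAB' : ∀ c : ZMod p, k < c.val → A c ≤ B' c := by
      intro c hc y hy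
      refine ⟨hy, fun a ha x hx => ?_⟩
      rcases eq_or_ne a 0 with rfl | ha0
      · rw [h0, AddSubgroup.mem_bot] at hx
        rw [hx, zero_lie]; exact zero_mem _
      have hav : a.val < p := ZMod.val_lt a
      have hcv : c.val < p := ZMod.val_lt c
      have ha' : 0 < a.val := Nat.pos_of_ne_zero fun h => ha0 ((ZMod.val_eq_zero a).1 h)
      have hadd : (a + c).val = (a.val + c.val) % p := ZMod.val_add a c
      rw [ha, hsv] at hadd
      have hlt : k + 1 < a.val ∧ k + 1 < c.val := by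
        rcases Nat.lt_or_ge (a.val + c.val) p with h | h
        · rw [Nat.mod_eq_of_lt h] at hadd; omega
        · rw [Nat.mod_eq_sub_mod h, Nat.mod_eq_of_lt (by omega)] at hadd; omega
      rw [← ha]
      exact hB a c x (hAB a hlt.1 hx) y (hAB c hlt.2 hy)
    exact (ih A hA h0 B' hB' hAB' b hy).2 a hab x (hMA a hx)

/-- Kreknin's solubility theorem for a prime. -/
theorem derivedSer_eq_bot (A : ZMod p → AddSubgroup L) (hA : IsGraded A) (h0 : A 0 = ⊥) :
    derivedSer (2 ^ (p - 1) - 1) A = fun _ => ⊥ := by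
  funext t
  refine le_bot_iff.1 (derivedSer_le (p - 1) A hA h0 (fun _ => ⊥) ?_ ?_ t)
  · intro a b x hx y _
    rw [AddSubgroup.mem_bot] at hx ⊢
    rw [hx, zero_lie]
  · intro t ht
    have := ZMod.val_lt t
    omega

/-- The lower central series of a family. -/
def lowerSer (A : ZMod p → AddSubgroup L) : ℕ → ZMod p → AddSubgroup L
  | 0 => A
  | n + 1 => brk (lowerSer A n) A

theorem lowerSer_le {A : ZMod p → AddSubgroup L} (hA : IsGraded A) :
    ∀ n, lowerSer A n ≤ A
  | 0 => le_rfl
  | n + 1 => (brk_mono (lowerSer_le hA n) le_rfl).trans hA.brk_self_le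

theorem lowerSer_anti {A : ZMod p → AddSubgroup L} (hA : IsGraded A) :
    ∀ n, lowerSer A (n + 1) ≤ lowerSer A n
  | 0 => hA.brk_self_le
  | n + 1 => brk_mono (lowerSer_anti hA n) le_rfl

/-- The terms of the lower central series of the derived family are ideals. -/
theorem lowerSer_derived_ideal {A : ZMod p → AddSubgroup L} (hA : IsGraded A) :
    ∀ (i : ℕ) (a b : ZMod p), ∀ x ∈ lowerSer (derived A) i a, ∀ y ∈ A b,
      ⁅x, y⁆ ∈ lowerSer (derived A) i (a + b) := by
  intro i
  induction i with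
  | zero => exact fun a b x hx y hy => mem_brk (hA.brk_self_le a hx) hy
  | succ i ih =>
    intro a b x hx y hy
    induction hx using AddSubgroup.closure_induction with
    | mem z hz =>
      obtain ⟨c, d, rfl, u, hu, v, hv, rfl⟩ := hz
      rw [lie_lie]
      refine sub_mem ?_ ?_
      · have : ⁅v, y⁆ ∈ derived A (d + b) := mem_brk (hA.brk_self_le d hv) hy
        rw [add_assoc]
        exact mem_brk hu this
      · rw [← lie_skew]
        refine neg_mem ?_
        rw [add_assoc, add_comm d b, ← add_assoc]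
        exact mem_brk (ih c b u hu y hy) hv
    | zero => rw [zero_lie]; exact zero_mem _
    | add u v _ _ hu hv => rw [add_lie]; exact add_mem hu hv
    | neg u _ hu => rw [neg_lie]; exact neg_mem hu

/-- The iterated product with a list of elements of prescribed degree. -/
def prod : L → List (ZMod p × L) → L
  | x, [] => x
  | x, u :: l => prod ⁅x, u.2⁆ l

/-- The degree of an iterated product. -/
def degs : List (ZMod p × L) → ZMod p
  | [] => 0
  | u :: l => u.1 + degs l

/-- The sums of the sublists of the degrees. -/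
def sums : List (ZMod p × L) → Finset (ZMod p)
  | [] => {0}
  | u :: l => sums l ∪ (sums l).image (u.1 + ·)

theorem zero_mem_sums : ∀ l : List (ZMod p × L), (0 : ZMod p) ∈ sums l
  | [] => Finset.mem_singleton_self _
  | _ :: l => Finset.mem_union_left _ (zero_mem_sums l)

theorem card_sums : ∀ l : List (ZMod p × L), (∀ u ∈ l, u.1 ≠ 0) →
    min p (l.length + 1) ≤ (sums l).card
  | [], _ => by simp [sums]
  | u :: l, h => by
    have ih := card_sums l fun v hv => h v (List.mem_cons_of_mem _ hv)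
    have hu : u.1 ≠ 0 := h u List.mem_cons_self
    by_cases hsub : (sums l).image (u.1 + ·) ⊆ sums l
    · have hall : ∀ z : ZMod p, z ∈ sums l := by
        have hn : ∀ n : ℕ, (n : ZMod p) * u.1 ∈ sums l := by
          intro n
          induction n with
          | zero => simpa using zero_mem_sums l
          | succ n ih' =>
            have := hsub (Finset.mem_image_of_mem _ ih')
            rwa [Nat.cast_succ, add_mul, one_mul, add_comm]
        intro z
        have := hn (z * u.1⁻¹).val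
        rwa [ZMod.natCast_zmod_val, mul_assoc, inv_mul_cancel₀ hu, mul_one] at this
      have : sums l = Finset.univ := Finset.eq_univ_of_forall hall
      calc min p ((u :: l).length + 1) ≤ p := min_le_left _ _
        _ = (sums l).card := by rw [this, Finset.card_univ, ZMod.card]
        _ ≤ _ := Finset.card_le_card Finset.subset_union_left
    · have h2 : (sums l).card < (sums (u :: l)).card :=
        Finset.card_lt_card ⟨Finset.subset_union_left, fun h' =>
          hsub (Finset.subset_union_right.trans h')⟩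
      simp only [List.length_cons]
      omega

variable {A X Y : ZMod p → AddSubgroup L}

/-- The assumptions on a layer `X` over `Y`. -/
structure Layer (A X Y : ZMod p → AddSubgroup L) : Prop where
  yx : Y ≤ X
  xa : X ≤ A
  idX : ∀ a b, ∀ x ∈ X a, ∀ y ∈ A b, ⁅x, y⁆ ∈ X (a + b)
  idY : ∀ a b, ∀ x ∈ Y a, ∀ y ∈ A b, ⁅x, y⁆ ∈ Y (a + b)
  triv : ∀ a b c, ∀ x ∈ X a, ∀ u ∈ A b, ∀ v ∈ A c, ⁅x, ⁅u, v⁆⁆ ∈ Y (a + b + c)

theorem prod_mem_Y (h : Layer A X Y) : ∀ (l : List (ZMod p × L)), (∀ u ∈ l, u.2 ∈ A u.1) →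
    ∀ a, ∀ x ∈ Y a, prod x l ∈ Y (a + degs l)
  | [], _, a, x, hx => by simpa [prod, degs] using hx
  | u :: l, hl, a, x, hx => by
    rw [degs, ← add_assoc]
    exact prod_mem_Y h l (fun v hv => hl v (List.mem_cons_of_mem _ hv)) _ _
      (h.idY a u.1 x hx u.2 (hl u List.mem_cons_self))

theorem prod_add : ∀ (l : List (ZMod p × L)) (x y : L), prod (x + y) l = prod x l + prod y l
  | [], _, _ => rfl
  | u :: l, x, y => by simp only [prod]; rw [add_lie, prod_add l]

theorem prod_shift (h : Layer A X Y) : ∀ (l : List (ZMod p × L)), (∀ u ∈ l, u.2 ∈ A u.1) →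
    ∀ a, ∀ x ∈ X a, ∀ b, ∀ w ∈ A b, prod ⁅x, w⁆ l - ⁅prod x l, w⁆ ∈ Y (a + b + degs l)
  | [], _, a, x, _, b, w, _ => by simp [prod, degs]
  | u :: l, hl, a, x, hx, b, w, hw => by
    have hu := hl u List.mem_cons_self
    have hl' : ∀ v ∈ l, v.2 ∈ A v.1 := fun v hv => hl v (List.mem_cons_of_mem _ hv)
    have ih := prod_shift h l hl' (a + u.1) ⁅x, u.2⁆ (h.idX a u.1 x hx u.2 hu) b w hw
    have he : ⁅⁅x, w⁆, u.2⁆ = ⁅⁅x, u.2⁆, w⁆ + ⁅x, ⁅w, u.2⁆⁆ := by
      rw [leibniz_lie x w u.2, ← lie_skew w ⁅x, u.2⁆]; abel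
    simp only [prod]
    rw [he, prod_add, add_sub_right_comm]
    refine add_mem ?_ ?_
    · rw [degs, ← add_assoc, add_right_comm a b u.1]
      exact ih
    · have := prod_mem_Y h l hl' _ _ (h.triv a b u.1 x hx w hw u.2 hu)
      rw [degs, ← add_assoc]
      exact this

theorem prod_mem_of_sums (h : Layer A X Y) (h0 : A 0 = ⊥) : ∀ (l : List (ZMod p × L)),
    (∀ u ∈ l, u.2 ∈ A u.1) → ∀ a, ∀ x ∈ X a, -a ∈ sums l → prod x l ∈ Y (a + degs l)
  | [], _, a, x, hx, hm => by
    rw [sums, Finset.mem_singleton, neg_eq_zero] at hm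
    subst hm
    have := h.xa 0 hx
    rw [h0, AddSubgroup.mem_bot] at this
    simp [prod, this]
  | u :: l, hl, a, x, hx, hm => by
    have hu := hl u List.mem_cons_self
    have hl' : ∀ v ∈ l, v.2 ∈ A v.1 := fun v hv => hl v (List.mem_cons_of_mem _ hv)
    rw [degs, ← add_assoc]
    rcases Finset.mem_union.1 hm with hm | hm
    · have h1 := prod_mem_of_sums h h0 l hl' a x hx hm
      have h2 := h.idY _ u.1 _ h1 u.2 hu
      have h3 := prod_shift h l hl' a x hx u.1 u.2 hu
      rw [add_right_comm a (degs l) u.1] at h2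
      have h4 := add_mem h3 h2
      rw [sub_add_cancel] at h4
      exact h4
    · obtain ⟨z, hz, hza⟩ := Finset.mem_image.1 hm
      refine prod_mem_of_sums h h0 l hl' (a + u.1) _ (h.idX a u.1 x hx u.2 hu) ?_
      have : z = -(a + u.1) := by linear_combination hza
      exact this ▸ hz

/-- The elements all whose products of length `r` lie in `Y`. -/
def good (A X Y : ZMod p → AddSubgroup L) : ℕ → ZMod p → AddSubgroup L
  | 0, a => Y a
  | r + 1, a =>
    { carrier := {x | x ∈ X a ∧ ∀ b, ∀ u ∈ A b, ⁅x, u⁆ ∈ good A X Y r (a + b)}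
      zero_mem' := ⟨zero_mem _, fun b u _ => by rw [zero_lie]; exact zero_mem _⟩
      add_mem' := fun {x y} hx hy => ⟨add_mem hx.1 hy.1, fun b u hu => by
        rw [add_lie]; exact add_mem (hx.2 b u hu) (hy.2 b u hu)⟩
      neg_mem' := fun {x} hx => ⟨neg_mem hx.1, fun b u hu => by
        rw [neg_lie]; exact neg_mem (hx.2 b u hu)⟩ }

theorem mem_good_of_forall (h : Layer A X Y) (h0 : A 0 = ⊥) : ∀ (r : ℕ) (a : ZMod p) (x : L),
    x ∈ X a → (∀ l : List (ZMod p × L), l.length = r → (∀ u ∈ l, u.1 ≠ 0 ∧ u.2 ∈ A u.1) →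
      prod x l ∈ Y (a + degs l)) → x ∈ good A X Y r a
  | 0, a, x, _, hl => by simpa [prod, degs, good] using hl [] rfl (by simp)
  | r + 1, a, x, hx, hl => by
    refine ⟨hx, fun b u hu => ?_⟩
    rcases eq_or_ne b 0 with rfl | hb
    · rw [h0, AddSubgroup.mem_bot] at hu
      rw [hu, lie_zero]; exact zero_mem _
    refine mem_good_of_forall h h0 r (a + b) _ (h.idX a b x hx u hu) fun l hlen hl' => ?_
    have := hl ((b, u) :: l) (by simp [hlen]) (by
      rintro v (_ | ⟨_, hv⟩)
      · exact ⟨hb, hu⟩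
      · exact hl' v hv)
    rwa [degs, ← add_assoc] at this

/-- Higman's lemma: `p - 1` brackets push a layer into the next one. -/
theorem le_good (h : Layer A X Y) (h0 : A 0 = ⊥) : X ≤ good A X Y (p - 1) := by
  intro a x hx
  refine mem_good_of_forall h h0 (p - 1) a x hx fun l hlen hl =>
    prod_mem_of_sums h h0 l (fun u hu => (hl u hu).2) a x hx ?_
  have h1 := card_sums l fun u hu => (hl u hu).1
  rw [hlen, Nat.sub_add_cancel hp.out.one_le, min_self] at h1
  have : sums l = Finset.univ := Finset.eq_univ_of_card _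
    (le_antisymm (Finset.card_le_univ _) (by rwa [ZMod.card]))
  rw [this]
  exact Finset.mem_univ _

theorem lowerSer_add_le (h : Layer A X Y) (h0 : A 0 = ⊥) {j : ℕ} (hj : lowerSer A j ≤ X) :
    lowerSer A (j + (p - 1)) ≤ Y := by
  suffices ∀ i r, i + r = p - 1 → lowerSer A (j + i) ≤ good A X Y r from this (p - 1) 0 rfl
  intro i
  induction i with
  | zero =>
    intro r hr
    rw [zero_add] at hr
    subst hr
    exact hj.trans (le_good h h0)
  | succ i ih =>
    intro r hr t
    refine brk_le fun a b hab x hx y hy => ?_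
    have := (ih (r + 1) (by omega) a hx).2 b y hy
    rwa [hab] at this

/-- The bound of Kostrikin and Kreknin. -/
def xi (q n : ℕ) : ℕ := ∑ i ∈ Finset.range n, q ^ i

/-- Kostrikin–Kreknin: a soluble graded Lie ring is nilpotent. -/
theorem lowerSer_eq_bot : ∀ (n : ℕ) (A : ZMod p → AddSubgroup L), IsGraded A → A 0 = ⊥ →
    (derivedSer n A = fun _ => ⊥) → ∀ t, lowerSer A (xi (p - 1) n) t = ⊥
  | 0, A, _, _, hn, t => by
    simpa [xi, lowerSer, derivedSer] using congrFun hn t
  | n + 1, A, hA, h0, hn, t => by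
    have hD0 : derived A 0 = ⊥ := le_bot_iff.1 ((hA.brk_self_le 0).trans h0.le)
    have ih := lowerSer_eq_bot n (derived A) hA.brk hD0 (by
      rw [← hn]; exact (Function.iterate_succ_apply _ _ _).symm)
    have key : ∀ i, lowerSer A (1 + (p - 1) * i) ≤ lowerSer (derived A) i := by
      intro i
      induction i with
      | zero => exact le_rfl
      | succ i hi =>
        rw [Nat.mul_succ, ← add_assoc]
        refine lowerSer_add_le (X := lowerSer (derived A) i) ⟨lowerSer_anti hA.brk i,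
          (lowerSer_le hA.brk i).trans hA.brk_self_le, lowerSer_derived_ideal hA i,
          lowerSer_derived_ideal hA (i + 1), fun a b c x hx u hu v hv => ?_⟩ h0 hi
        rw [add_assoc]
        exact mem_brk hx (mem_brk hu hv)
    rw [xi, geom_sum_succ, add_comm]
    exact le_bot_iff.1 ((key _ t).trans (ih t).le)

theorem two_cases : ∀ a b : ZMod 2, a = 0 ∨ b = 0 ∨ a + b = 0 := by decide

theorem three_cases : ∀ a b d : ZMod 3, a = 0 ∨ b = 0 ∨ d = 0 ∨ a + b = 0 ∨ a + b + d = 0 ∨
    (a + d = 0 ∧ b + d = 0) := by decide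

/-- The case `p = 2`. -/
theorem lowerSer_one_eq_bot (hp2 : p = 2) (A : ZMod p → AddSubgroup L) (hA : IsGraded A)
    (h0 : A 0 = ⊥) : ∀ t, lowerSer A 1 t = ⊥ := by
  subst hp2
  refine fun t => le_bot_iff.1 (brk_le fun a b _ x hx y hy => ?_)
  change x ∈ A a at hx
  rw [AddSubgroup.mem_bot]
  rcases two_cases a b with rfl | rfl | h
  · rw [h0, AddSubgroup.mem_bot] at hx; rw [hx, zero_lie]
  · rw [h0, AddSubgroup.mem_bot] at hy; rw [hy, lie_zero]
  · have := hA a b x hx y hy
    rwa [h, h0, AddSubgroup.mem_bot] at this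

/-- The case `p = 3`. -/
theorem lowerSer_two_eq_bot (hp3 : p = 3) (A : ZMod p → AddSubgroup L) (hA : IsGraded A)
    (h0 : A 0 = ⊥) : ∀ t, lowerSer A 2 t = ⊥ := by
  subst hp3
  have hz : ∀ a b, a + b = 0 → ∀ x ∈ A a, ∀ y ∈ A b, ⁅x, y⁆ = 0 := fun a b hab x hx y hy => by
    have := hA a b x hx y hy
    rwa [hab, h0, AddSubgroup.mem_bot] at this
  refine fun t => le_bot_iff.1 (brk_le fun c d _ z hz' w hw => ?_)
  rw [AddSubgroup.mem_bot]
  change z ∈ brk A A c at hz'
  induction hz' using AddSubgroup.closure_induction with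
  | mem z hz' =>
    obtain ⟨a, b, rfl, x, hx, y, hy, rfl⟩ := hz'
    rcases three_cases a b d with h | h | h | h | h | ⟨h, h'⟩
    · subst h; rw [h0, AddSubgroup.mem_bot] at hx; rw [hx, zero_lie, zero_lie]
    · subst h; rw [h0, AddSubgroup.mem_bot] at hy; rw [hy, lie_zero, zero_lie]
    · subst h; rw [h0, AddSubgroup.mem_bot] at hw; rw [hw, lie_zero]
    · rw [hz a b h x hx y hy, zero_lie]
    · exact hz (a + b) d h _ (hA a b x hx y hy) w hw
    · rw [lie_lie, hz b d h' y hy w hw, hz a d h x hx w hw, lie_zero, lie_zero, sub_zero]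
  | zero => rw [zero_lie]
  | add u v _ _ hu hv => rw [add_lie, hu, hv, add_zero]
  | neg u _ hu => rw [neg_lie, hu, neg_zero]

end CfsgLib.Kreknin76
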