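import Mathlib
import Cfsg.Agent.Lib.Struct76.Kreknin

/-!
# Lie rings with a fixed-point-free automorphism of prime order
-/

set_option autoImplicit false

open scoped TensorProduct
open AddMonoidAlgebra (single)

noncomputable section

namespace CfsgLib.Kreknin76

variable {p : ℕ} [hp : Fact p.Prime] {L : Type*} [LieRing L]

/-- The lower central series of a Lie ring, as additive subgroups. -/
def lcsAdd (L : Type*) [LieRing L] : ℕ → AddSubgroup L
  | 0 => ⊤
  | n + 1 => AddSubgroup.closure {z | ∃ x ∈ lcsAdd L n, ∃ y : L, ⁅x, y⁆ = z}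

/-- The coefficient ring. -/
abbrev Co (p : ℕ) : Type := AddMonoidAlgebra ℤ (ZMod p)

/-- The `t`-th coordinate of an element of the scalar extension. -/
def coord (t : ZMod p) : Co p ⊗[ℤ] L →ₗ[ℤ] L :=
  TensorProduct.lift ((LinearMap.lsmul ℤ L).comp
    ((Finsupp.lapply t).comp (AddMonoidAlgebra.coeffLinearEquiv ℤ).toLinearMap))

theorem coord_tmul (t : ZMod p) (r : Co p) (x : L) : coord t (r ⊗ₜ[ℤ] x) = r.coeff t • x := rfl

theorem eq_sum_coord (f : Co p ⊗[ℤ] L) :
    f = ∑ t : ZMod p, single t (1 : ℤ) ⊗ₜ[ℤ] coord t f := by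
  induction f using TensorProduct.induction_on with
  | zero => simp
  | add f g hf hg =>
    simp only [map_add, TensorProduct.tmul_add, Finset.sum_add_distrib]
    rw [← hf, ← hg]
  | tmul r x =>
    simp only [coord_tmul, TensorProduct.tmul_smul, TensorProduct.smul_tmul', ← TensorProduct.sum_tmul]
    congr 1
    apply AddMonoidAlgebra.coeff_injective
    rw [AddMonoidAlgebra.coeff_sum]
    refine Finsupp.ext fun u => ?_
    simp [Finsupp.finset_sum_apply, Finsupp.single_apply]

/-- The weight space of degree `i` in the scalar extension. -/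
def weight (β : Co p ⊗[ℤ] L →ₗ[ℤ] Co p ⊗[ℤ] L) (i : ZMod p) : AddSubgroup (Co p ⊗[ℤ] L) where
  carrier := {f | β f = single i (1 : ℤ) • f}
  zero_mem' := by simp
  add_mem' := fun {f g} (hf : β f = _) (hg : β g = _) => by
    show β (f + g) = _
    rw [map_add, hf, hg, smul_add]
  neg_mem' := fun {f} (hf : β f = _) => by
    show β (-f) = _
    rw [map_neg, hf, smul_neg]

theorem tlie_add (f g h : Co p ⊗[ℤ] L) : ⁅f, g + h⁆ = ⁅f, g⁆ + ⁅f, h⁆ := lie_add f g h

theorem tadd_lie (f g h : Co p ⊗[ℤ] L) : ⁅f + g, h⁆ = ⁅f, h⁆ + ⁅g, h⁆ := add_lie f g h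

theorem tlie_zero (f : Co p ⊗[ℤ] L) : ⁅f, (0 : Co p ⊗[ℤ] L)⁆ = 0 := lie_zero f

theorem tzero_lie (f : Co p ⊗[ℤ] L) : ⁅(0 : Co p ⊗[ℤ] L), f⁆ = 0 := zero_lie f

theorem tsmul_lie (r s : Co p) (f g : Co p ⊗[ℤ] L) : ⁅r • f, s • g⁆ = (r * s) • ⁅f, g⁆ :=
  (smul_lie r f (s • g)).trans ((congrArg (r • ·) (lie_smul s f g)).trans (mul_smul r s _).symm)

variable (a : L →ₗ[ℤ] L)

theorem ltensor_lie (ha : ∀ x y : L, a ⁅x, y⁆ = ⁅a x, a y⁆) (f g : Co p ⊗[ℤ] L) :
    LinearMap.lTensor (Co p) a ⁅f, g⁆ = ⁅LinearMap.lTensor (Co p) a f, LinearMap.lTensor (Co p) a g⁆ := by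
  induction f using TensorProduct.induction_on with
  | zero => rw [tzero_lie, map_zero, tzero_lie]
  | add f f' hf hf' => rw [tadd_lie, map_add, map_add, tadd_lie, hf, hf']
  | tmul r x =>
    induction g using TensorProduct.induction_on with
    | zero => rw [tlie_zero, map_zero, tlie_zero]
    | add g g' hg hg' => rw [tlie_add, map_add, map_add, tlie_add, hg, hg']
    | tmul s y =>
      simp only [LieAlgebra.ExtendScalars.bracket_tmul, LinearMap.lTensor_tmul, ha]

theorem weight_graded (ha : ∀ x y : L, a ⁅x, y⁆ = ⁅a x, a y⁆) :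
    IsGraded (weight (p := p) (LinearMap.lTensor (Co p) a)) := by
  intro i j f (hf : _ = _) g (hg : _ = _)
  show LinearMap.lTensor (Co p) a ⁅f, g⁆ = _
  refine (ltensor_lie a ha f g).trans ?_
  erw [hf, hg]
  exact (tsmul_lie _ _ f g).trans (by rw [AddMonoidAlgebra.single_mul_single, mul_one])

theorem weight_zero (hfix : ∀ x, a x = x → x = 0) :
    weight (p := p) (LinearMap.lTensor (Co p) a) 0 = ⊥ := by
  refine (AddSubgroup.eq_bot_iff_forall _).2 fun f (hf : _ = _) => ?_
  rw [← AddMonoidAlgebra.one_def, one_smul] at hf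
  have hc : ∀ t (g : Co p ⊗[ℤ] L), coord t (LinearMap.lTensor (Co p) a g) = a (coord t g) := by
    intro t g
    induction g using TensorProduct.induction_on with
    | zero => simp
    | add g g' hg hg' => simp only [map_add, hg, hg']
    | tmul r x => rw [LinearMap.lTensor_tmul, coord_tmul, coord_tmul, map_smul]
  rw [eq_sum_coord f]
  refine Finset.sum_eq_zero fun t _ => ?_
  rw [hfix (coord t f) ((hc t f).symm.trans (congrArg (coord t) hf)), TensorProduct.tmul_zero]

/-- The weight vector attached to `x`. -/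
def vec (i : ZMod p) (x : L) : Co p ⊗[ℤ] L :=
  ∑ m : ZMod p, single (-(i * m)) (1 : ℤ) ⊗ₜ[ℤ] (a ^ m.val) x

theorem pow_val_succ (hpow : a ^ p = 1) (m : ZMod p) : a ^ (m + 1).val = a * a ^ m.val := by
  rw [← pow_succ', ZMod.val_add, ZMod.val_one, ← pow_eq_pow_mod _ hpow]

theorem vec_mem (hpow : a ^ p = 1) (i : ZMod p) (x : L) :
    vec a i x ∈ weight (p := p) (LinearMap.lTensor (Co p) a) i := by
  show LinearMap.lTensor (Co p) a (vec a i x) = _
  rw [vec, map_sum, Finset.smul_sum]
  refine Fintype.sum_equiv (Equiv.addRight (1 : ZMod p)) _ _ fun m => ?_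
  rw [LinearMap.lTensor_tmul, TensorProduct.smul_tmul', smul_eq_mul, Equiv.coe_addRight,
    AddMonoidAlgebra.single_mul_single, mul_one, pow_val_succ a hpow, Module.End.mul_apply]
  congr 2
  ring

theorem trace_eq_zero (hfix : ∀ x, a x = x → x = 0) (hpow : a ^ p = 1) (x : L) :
    ∑ m : ZMod p, (a ^ m.val) x = 0 := by
  refine hfix _ ?_
  rw [map_sum]
  exact Fintype.sum_equiv (Equiv.addRight (1 : ZMod p)) _ _ fun m => by
    rw [Equiv.coe_addRight, pow_val_succ a hpow, Module.End.mul_apply]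

/-- The scalar that all weight vectors add up to. -/
def cst (p : ℕ) [NeZero p] : Co p := (p : Co p) - ∑ t : ZMod p, single t (1 : ℤ)

theorem sum_vec (hfix : ∀ x, a x = x → x = 0) (hpow : a ^ p = 1) (x : L) :
    ∑ i ∈ Finset.univ.erase (0 : ZMod p), vec a i x = cst p ⊗ₜ[ℤ] x := by
  classical
  have h0 : vec a (0 : ZMod p) x = 0 := by
    simp only [vec, zero_mul, neg_zero, ← TensorProduct.tmul_sum, trace_eq_zero a hfix hpow,
      TensorProduct.tmul_zero]
  rw [Finset.sum_erase (f := fun i => vec a i x) Finset.univ h0]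
  set N : Co p := ∑ t : ZMod p, single t (1 : ℤ) with hN
  have hm : ∀ m : ZMod p, (∑ i : ZMod p, single (-(i * m)) (1 : ℤ)) =
      if m = 0 then (p : Co p) else N := by
    intro m
    split_ifs with h
    · subst h
      simp [AddMonoidAlgebra.natCast_def]
    · exact Fintype.sum_equiv ((Equiv.mulRight₀ m h).trans (Equiv.neg _)) _ _ fun i => rfl
  simp only [vec]
  rw [Finset.sum_comm]
  simp only [← TensorProduct.sum_tmul, hm]
  rw [← Finset.add_sum_erase _ _ (Finset.mem_univ (0 : ZMod p)),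
    Finset.sum_congr rfl (g := fun m => N ⊗ₜ[ℤ] (a ^ m.val) x)
      (fun m hm' => by rw [if_neg (Finset.ne_of_mem_erase hm')]),
    ← TensorProduct.tmul_sum, if_pos rfl, ZMod.val_zero, pow_zero, Module.End.one_apply]
  have h1 : ∑ m ∈ Finset.univ.erase (0 : ZMod p), (a ^ m.val) x = -x := by
    have := Finset.add_sum_erase Finset.univ (fun m : ZMod p => (a ^ m.val) x) (Finset.mem_univ 0)
    rw [trace_eq_zero a hfix hpow, ZMod.val_zero, pow_zero, Module.End.one_apply] at this
    exact eq_neg_of_add_eq_zero_right this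
  rw [h1, TensorProduct.tmul_neg, ← sub_eq_add_neg, ← TensorProduct.sub_tmul]
  rfl

theorem cst_sq (p : ℕ) [NeZero p] : cst p * cst p = (p : Co p) * cst p := by
  set N : Co p := ∑ t : ZMod p, single t (1 : ℤ) with hN
  have hNN : N * N = (p : Co p) * N := by
    conv_lhs => arg 1; rw [hN]
    rw [Finset.sum_mul, Finset.sum_congr rfl (g := fun _ => N) (fun s _ => by
      rw [hN, Finset.mul_sum]
      exact Fintype.sum_equiv (Equiv.addLeft s) _ _ fun t => by
        rw [AddMonoidAlgebra.single_mul_single, mul_one]; rfl)]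
    rw [Finset.sum_const, Finset.card_univ, ZMod.card, nsmul_eq_mul]
  rw [cst, ← hN]
  linear_combination hNN

theorem cst_pow (p : ℕ) [NeZero p] : ∀ n : ℕ, cst p ^ (n + 1) = (p : Co p) ^ n * cst p
  | 0 => by simp
  | n + 1 => by rw [pow_succ, cst_pow p n, mul_assoc, cst_sq]; ring

theorem eq_zero_of_cst {n : ℕ} (htor : ∀ x : L, p • x = 0 → x = 0) {x : L}
    (h : (cst p ^ (n + 1)) ⊗ₜ[ℤ] x = 0) : x = 0 := by
  have hd : (cst p).coeff 0 - (cst p).coeff 1 = (p : ℤ) := by
    simp [cst, AddMonoidAlgebra.natCast_def, AddMonoidAlgebra.coeff_sum, Finsupp.single_apply,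
      Finsupp.finset_sum_apply]
  have e : ((p : Co p) ^ n * cst p) = p ^ n • cst p := by rw [← Nat.cast_pow, nsmul_eq_mul]
  rw [cst_pow, e] at h
  have h2 := congrArg (fun z => coord 0 z - coord 1 z) h
  simp only [coord_tmul, map_zero, sub_zero, ← sub_smul, AddMonoidAlgebra.coeff_smul,
    Finsupp.smul_apply] at h2
  rw [← smul_sub, hd, smul_assoc, natCast_zsmul, smul_smul, ← pow_succ] at h2
  have : ∀ (k : ℕ) (y : L), p ^ k • y = 0 → y = 0 := by
    intro k
    induction k with
    | zero => intro y hy; simpa using hy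
    | succ k ih => intro y hy; exact ih _ (htor _ (by rwa [smul_smul, ← pow_succ']))
  exact this _ _ h2

theorem lcsAdd_mem (hfix : ∀ x, a x = x → x = 0) (hpow : a ^ p = 1) :
    ∀ (n : ℕ), ∀ x ∈ lcsAdd L n, (cst p ^ (n + 1)) ⊗ₜ[ℤ] x ∈
      ⨆ t, lowerSer (weight (p := p) (LinearMap.lTensor (Co p) a)) n t
  | 0, x, _ => by
    rw [zero_add, pow_one, ← sum_vec a hfix hpow x]
    exact sum_mem fun i _ => AddSubgroup.mem_iSup_of_mem i (vec_mem a hpow i x)
  | n + 1, x, hx => by
    induction hx using AddSubgroup.closure_induction with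
    | mem z hz =>
      obtain ⟨u, hu, v, rfl⟩ := hz
      have hv := lcsAdd_mem hfix hpow 0 v (AddSubgroup.mem_top v)
      rw [zero_add, pow_one] at hv
      rw [pow_succ, ← LieAlgebra.ExtendScalars.bracket_tmul]
      have hmul : ∀ f ∈ ⨆ t, lowerSer (weight (p := p) (LinearMap.lTensor (Co p) a)) n t,
          ∀ g ∈ ⨆ t, lowerSer (weight (p := p) (LinearMap.lTensor (Co p) a)) 0 t,
          ⁅f, g⁆ ∈ ⨆ t, lowerSer (weight (p := p) (LinearMap.lTensor (Co p) a)) (n + 1) t := by
        intro f hf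
        induction hf using AddSubgroup.iSup_induction' with
        | hp i f hf =>
          intro g hg
          induction hg using AddSubgroup.iSup_induction' with
          | hp j g hg => exact AddSubgroup.mem_iSup_of_mem (i + j) (mem_brk hf hg)
          | h1 => rw [tlie_zero]; exact zero_mem _
          | hadd g g' _ _ h h' => rw [tlie_add]; exact add_mem h h'
        | h1 => intro g _; rw [tzero_lie]; exact zero_mem _
        | hadd f f' _ _ h h' => intro g hg; rw [tadd_lie]; exact add_mem (h g hg) (h' g hg)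
      exact hmul _ (lcsAdd_mem hfix hpow n u hu) _ hv
    | zero => rw [TensorProduct.tmul_zero]; exact zero_mem _
    | add u v _ _ hu hv => rw [TensorProduct.tmul_add]; exact add_mem hu hv
    | neg u _ hu => rw [TensorProduct.tmul_neg]; exact neg_mem hu

/-- Higman, Kreknin, Kostrikin: Lie rings with a fixed-point-free automorphism of prime order. -/
theorem lcsAdd_eq_bot (ha : ∀ x y : L, a ⁅x, y⁆ = ⁅a x, a y⁆) (hfix : ∀ x, a x = x → x = 0)
    (hpow : a ^ p = 1) (htor : ∀ x : L, p • x = 0 → x = 0) :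
    (p = 2 → lcsAdd L 1 = ⊥) ∧ (p = 3 → lcsAdd L 2 = ⊥) ∧
      lcsAdd L (xi (p - 1) (2 ^ (p - 1) - 1)) = ⊥ := by
  have hA := weight_graded (p := p) a ha
  have h0 := weight_zero (p := p) a hfix
  have key : ∀ n, (∀ t, lowerSer (weight (p := p) (LinearMap.lTensor (Co p) a)) n t = ⊥) →
      lcsAdd L n = ⊥ := by
    intro n hn
    refine (AddSubgroup.eq_bot_iff_forall _).2 fun x hx => eq_zero_of_cst (n := n) htor ?_
    have := lcsAdd_mem a hfix hpow n x hx
    rwa [iSup_congr hn, iSup_bot, AddSubgroup.mem_bot] at this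
  exact ⟨fun h => key 1 (lowerSer_one_eq_bot h _ hA h0),
    fun h => key 2 (lowerSer_two_eq_bot h _ hA h0),
    key _ (lowerSer_eq_bot _ _ hA h0 (derivedSer_eq_bot _ hA h0))⟩

end CfsgLib.Kreknin76
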