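import Mathlib
import Cfsg.Prelude.Def_OddOrderLocal
import Cfsg.Agent.Lib.PGroup.Class2
import Cfsg.Agent.Lib.PGroup.MaximalClass
import Cfsg.Agent.Lib.PGroup.HuppertMetacyclic
import Cfsg.Agent.Lib.PLocal.NormalSq
import Cfsg.Agent.Lib.ConstStab.Basic

/-!
# `p`-groups (`p` odd) without a subgroup of exponent `p` and order `p ^ 3`

They are metacyclic or of maximal class.
-/

set_option autoImplicit false

open scoped commutatorElement

namespace CfsgLib.Struct76

universe u

variable {p : ℕ} [hp : Fact p.Prime]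

/-- If all elements of order `p` are central, equal `p`-th powers differ by an element of order
dividing `p`. -/
theorem pow_inj_of_omega_central (hp2 : p ≠ 2) :
    ∀ (n : ℕ) (C : Type u) [Group C] [Finite C], Nat.card C = n → IsPGroup p C →
      (∀ x : C, x ^ p = 1 → x ∈ Subgroup.center C) →
      ∀ x y : C, x ^ p = y ^ p → (x⁻¹ * y) ^ p = 1 := by
  intro n
  induction n using Nat.strong_induction_on with
  | _ n ih =>
  intro C _ _ hn hC hcen x y hxy
  -- recursion into proper subgroups
  have hrec : ∀ H : Subgroup C, H ≠ ⊤ → ∀ a ∈ H, ∀ b ∈ H, a ^ p = b ^ p →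
      (a⁻¹ * b) ^ p = 1 := by
    intro H hH a ha b hb hab
    have hlt : Nat.card H < n := by
      rw [← hn]
      exact lt_of_le_of_ne (Subgroup.card_le_card_group H) fun e =>
        hH (Subgroup.eq_top_of_card_eq _ e)
    have := ih _ hlt H rfl (hC.to_subgroup H) (fun z hz => Subgroup.mem_center_iff.2 fun w =>
        Subtype.ext (Subgroup.mem_center_iff.1 (hcen z (congrArg Subtype.val hz)) w))
      ⟨a, ha⟩ ⟨b, hb⟩ (Subtype.ext hab)
    exact congrArg Subtype.val this
  set H := Subgroup.closure ({x, y} : Set C) with hH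
  have hxH : x ∈ H := Subgroup.subset_closure (by simp)
  have hyH : y ∈ H := Subgroup.subset_closure (by simp)
  by_cases hHtop : H = ⊤
  swap
  · exact hrec H hHtop x hxH y hyH hxy
  by_cases hxtop : Subgroup.zpowers x = ⊤
  · obtain ⟨i, rfl⟩ := Subgroup.mem_zpowers_iff.1 (hxtop ▸ Subgroup.mem_top y)
    rw [((Commute.refl x).inv_left.zpow_right i).mul_pow, inv_pow, hxy, inv_mul_cancel]
  have hpc : x ^ p ∈ Subgroup.center C := by
    rw [Subgroup.mem_center_iff]
    intro w
    have hle : H ≤ Subgroup.centralizer ({x ^ p} : Set C) := by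
      rw [hH, Subgroup.closure_le]
      rintro a (rfl | rfl) <;> rw [SetLike.mem_coe, Subgroup.mem_centralizer_singleton_iff]
      · exact ((Commute.refl a).pow_right p).eq
      · rw [hxy]; exact ((Commute.refl a).pow_right p).eq
    exact Subgroup.mem_centralizer_singleton_iff.1 (hle (hHtop ▸ Subgroup.mem_top w))
  obtain ⟨M, hM, hxM⟩ := (eq_top_or_exists_le_coatom (Subgroup.zpowers x)).resolve_left hxtop
  haveI : Group.IsNilpotent C := hC.isNilpotent
  have hMn : M.Normal :=
    Subgroup.NormalizerCondition.normal_of_coatom M Group.normalizerCondition_of_isNilpotent hM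
  have hx0 : x ∈ M := hxM (Subgroup.mem_zpowers x)
  have hz := hrec M hM.1 x hx0 _ (hMn.conj_mem x hx0 y) (by
    rw [conj_pow, Subgroup.mem_center_iff.1 hpc y, mul_inv_cancel_right])
  have hcm : ⁅y, x⁻¹⁆ ∈ Subgroup.center C ∧ ⁅y, x⁻¹⁆ ^ p = 1 := by
    have hzc := hcen _ hz
    have e : ⁅y, x⁻¹⁆ = (x⁻¹ * (y * x * y⁻¹))⁻¹ := by
      simp only [commutatorElement_def]; group
    rw [e]
    exact ⟨inv_mem hzc, by rw [inv_pow, hz, inv_one]⟩
  rw [CfsgLib.PGroup.mul_pow_odd_of_central (hp.out.odd_of_ne_two hp2) hcm.1 hcm.2, inv_pow, hxy,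
    inv_mul_cancel]

omit hp in
/-- Counting `p`-th powers. -/
theorem card_le_card_powers {C : Type u} [Group C] [Finite C] (U : Subgroup C)
    (hinj : ∀ x y : C, x ^ p = y ^ p → x⁻¹ * y ∈ U) :
    Nat.card C ≤ {z : C | ∃ x : C, x ^ p = z}.ncard * Nat.card U := by
  classical
  let f : C → {z : C | ∃ x : C, x ^ p = z} × U := fun x =>
    (⟨x ^ p, x, rfl⟩,
      ⟨(Classical.choose (⟨x, rfl⟩ : ∃ a : C, a ^ p = x ^ p))⁻¹ * x, hinj _ _
        (Classical.choose_spec (⟨x, rfl⟩ : ∃ a : C, a ^ p = x ^ p))⟩)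
  have hf : Function.Injective f := by
    intro x y h
    have h1 : x ^ p = y ^ p := congrArg (fun t => ((t.1 : {z : C | ∃ x : C, x ^ p = z}) : C)) h
    have h2 := congrArg (fun t => ((t.2 : U) : C)) h
    simp only [f] at h2
    have key : ∀ a b : C, a = b → ∀ (ha : ∃ c : C, c ^ p = a) (hb : ∃ c : C, c ^ p = b),
        Classical.choose ha = Classical.choose hb := by
      intro a b e; subst e; intros; rfl
    rw [key _ _ h1 ⟨x, rfl⟩ ⟨y, rfl⟩] at h2
    exact mul_left_cancel h2
  have := Nat.card_le_card_of_injective f hf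
  rwa [Nat.card_prod, Nat.card_coe_set_eq] at this

/-- `p` odd, no subgroup of exponent `p` and order `p ^ 3`: metacyclic or of maximal class. -/
theorem metacyclic_or_maxClass {G : Type u} [Group G] [Finite G] (hp2 : p ≠ 2) (n : ℕ)
    (hG : Nat.card G = p ^ n)
    (hno : ∀ S : Subgroup G, (∀ x ∈ S, x ^ p = 1) → Nat.card S < p ^ 3) :
    Cfsg.IsMetacyclic G ∨ (p = 3 ∧ 2 ≤ n ∧ Group.nilpotencyClass G = n - 1) := by
  classical
  have hGp : IsPGroup p G := IsPGroup.of_card hG
  by_cases hcyc : IsCyclic G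
  · left
    haveI : Subsingleton (G ⧸ (⊤ : Subgroup G)) := QuotientGroup.subsingleton_quotient_top
    exact ⟨⊤, inferInstance, Subgroup.topEquiv.isCyclic.2 hcyc, isCyclic_of_subsingleton⟩
  haveI : Nontrivial G := by
    by_contra h
    rw [not_nontrivial_iff_subsingleton] at h
    exact hcyc isCyclic_of_subsingleton
  -- a central subgroup of order `p` and a normal elementary abelian subgroup of order `p ^ 2`
  obtain ⟨Z0, -, hZ0c, hZ0⟩ := CfsgLib.OddOrder41.exists_central_order_p hGp (⊤ : Subgroup G) top_ne_bot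
  haveI : Z0.Normal := ⟨fun z hz g => by
    rw [Subgroup.mem_center_iff.1 (hZ0c hz) g]; simpa using hz⟩
  obtain ⟨x₀, hx₀p, hx₀⟩ : ∃ x₀ : G, x₀ ^ p = 1 ∧ x₀ ∉ Z0 := by
    by_contra! hall
    refine hcyc (CfsgLib.ConstStab.isCyclic_of_unique_prime_subgroup hp2 hGp fun x y hx1 hx hy => ?_)
    have hle : Subgroup.zpowers x ≤ Z0 := Subgroup.zpowers_le.2 (hall x hx)
    have := Subgroup.eq_of_le_of_card_ge hle (by rw [Nat.card_zpowers, orderOf_eq_prime hx hx1, hZ0])
    exact this ▸ hall y hy
  have hZ0el : Cfsg.IsElementaryAbelian p Z0 := by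
    refine ⟨⟨⟨fun a b => Subtype.ext (Subgroup.mem_center_iff.1 (hZ0c b.2) a)⟩⟩, fun a ha => ?_⟩
    have := pow_card_eq_one' (x := (⟨a, ha⟩ : Z0))
    rw [hZ0] at this
    exact congrArg Subtype.val this
  obtain ⟨U, -, hUn, hUel, hUc⟩ := CfsgLib.PLocal.exists_normal_elementary_sq_le hp2 hGp Z0 hZ0el
    ⊤ le_top hZ0 x₀ (Subgroup.mem_top _)
    (Subgroup.mem_centralizer_iff.2 fun z hz => (Subgroup.mem_center_iff.1 (hZ0c hz) x₀).symm)
    hx₀p hx₀
  haveI := hUn
  have hUcomm : ∀ a ∈ U, ∀ b ∈ U, a * b = b * a := fun a ha b hb =>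
    congrArg Subtype.val (hUel.1.is_comm.comm ⟨a, ha⟩ ⟨b, hb⟩)
  set C := Subgroup.centralizer (U : Set G) with hC
  have hCn : C.Normal := inferInstance
  have hUC : U ≤ C := fun a ha => Subgroup.mem_centralizer_iff.2 fun b hb => hUcomm b hb a ha
  -- no element of order `p` outside `U`
  have hOmega : ∀ x : G, x ^ p = 1 → x ∈ U := by
    intro x hx
    by_contra hxU
    set S := U ⊔ Subgroup.zpowers x with hS
    have hx1 : x ≠ 1 := fun e => hxU (e ▸ U.one_mem)
    have hxo : Nat.card (Subgroup.zpowers x) = p := by rw [Nat.card_zpowers, orderOf_eq_prime hx hx1]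
    -- `[x, U]` is central of order at most `p`
    have hcom : ∀ a ∈ U, ∀ b : G, b ∈ Subgroup.zpowers x → ⁅b, a⁆ ^ p = 1 ∧
        (∀ w ∈ S, w * ⁅b, a⁆ = ⁅b, a⁆ * w) := by
      intro a ha b hb
      have hab : ⁅b, a⁆ ∈ U := by
        rw [commutatorElement_def]
        exact mul_mem (hUn.conj_mem a ha b) (inv_mem ha)
      refine ⟨hUel.2 _ hab, ?_⟩
      suffices hS' : S ≤ Subgroup.centralizer ({⁅b, a⁆} : Set G) by
        exact fun w hw => Subgroup.mem_centralizer_singleton_iff.1 (hS' hw)
      refine sup_le (fun w hw => Subgroup.mem_centralizer_singleton_iff.2 (hUcomm w hw _ hab)) ?_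
      -- the image of `U` in `U / Z0` is fixed
      obtain ⟨u, hu, hu0⟩ : ∃ u ∈ U, u ∉ Z0 := by
        refine SetLike.not_le_iff_exists.1 fun hle => ?_
        have := Subgroup.card_le_of_le hle
        rw [hUc, hZ0, pow_two] at this
        exact absurd this (not_le.2 (lt_mul_of_one_lt_left hp.out.pos hp.out.one_lt))
      let q := QuotientGroup.mk' (U ⊓ Subgroup.center G)
      have hUZ : U ⊓ Subgroup.center G ≠ ⊥ := by
        intro e
        haveI := hGp.isNilpotent
        obtain ⟨N, hNU, hNc, hN⟩ := CfsgLib.OddOrder41.exists_central_order_p hGp U (fun e' => by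
          rw [e', Subgroup.card_bot] at hUc
          exact absurd hUc (Nat.one_lt_pow two_ne_zero hp.out.one_lt).ne)
        have : N ≤ ⊥ := e ▸ le_inf hNU hNc
        rw [le_bot_iff.1 this, Subgroup.card_bot] at hN
        exact hp.out.ne_one hN.symm
      by_cases hUle : U ≤ Subgroup.center G
      · exact Subgroup.zpowers_le.2 (Subgroup.mem_centralizer_singleton_iff.2
          (Subgroup.mem_center_iff.1 (hUle hab) x))
      have hUbar : Nat.card (U.map q) = p := by
        have hsub : Nat.card ↥(U ⊓ Subgroup.center G) = p := by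
          obtain ⟨i, hi2, hi⟩ := (Nat.dvd_prime_pow hp.out).1
            (hUc ▸ Subgroup.card_dvd_of_le (inf_le_left : U ⊓ Subgroup.center G ≤ U))
          rcases i with _ | _ | i
          · exact absurd (Subgroup.card_eq_one.1 (hi.trans (pow_zero p))) hUZ
          · simpa using hi
          · exfalso
            obtain rfl : i = 0 := by omega
            exact hUle ((Subgroup.eq_of_le_of_card_ge inf_le_left (by rw [hUc, hi])).ge.trans
              inf_le_right)
        have h1 := Subgroup.card_eq_card_quotient_mul_card_subgroup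
          ((U ⊓ Subgroup.center G).subgroupOf U)
        rw [Nat.card_congr (Subgroup.subgroupOfEquivOfLe
          (inf_le_left : U ⊓ Subgroup.center G ≤ U)).toEquiv, hsub, hUc, pow_two] at h1
        have h2 : (q.comp U.subtype).ker = (U ⊓ Subgroup.center G).subgroupOf U := by
          rw [← MonoidHom.comap_ker, QuotientGroup.ker_mk']; rfl
        rw [← h2, ← Subgroup.index_eq_card, Subgroup.index_ker, MonoidHom.range_comp,
          Subgroup.range_subtype] at h1
        exact (Nat.eq_of_mul_eq_mul_right hp.out.pos h1).symm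
      haveI : (U.map q).Normal := hUn.map q (QuotientGroup.mk'_surjective _)
      have hc := CfsgLib.MaxClass.mem_center_of_card (hGp.to_quotient _) (U.map q) hUbar
        (Subgroup.mem_map_of_mem q ha)
      have hz : ⁅b, a⁆ ∈ U ⊓ Subgroup.center G := by
        rw [← QuotientGroup.eq_one_iff]
        show q ⁅b, a⁆ = 1
        rw [map_commutatorElement, commutatorElement_eq_one_iff_mul_comm]
        exact Subgroup.mem_center_iff.1 hc (q b)
      exact Subgroup.zpowers_le.2 (Subgroup.mem_centralizer_singleton_iff.2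
        (Subgroup.mem_center_iff.1 hz.2 x))
    have hexp : ∀ w ∈ S, w ^ p = 1 := by
      intro w hw
      obtain ⟨a, ha, b, hb, rfl⟩ := Subgroup.mem_sup_of_normal_left.1 hw
      obtain ⟨h1, h2⟩ := hcom a ha b hb
      have haS : a ∈ S := Subgroup.mem_sup_left ha
      have hbS : b ∈ S := Subgroup.mem_sup_right hb
      have hbp : b ^ p = 1 := by
        obtain ⟨i, rfl⟩ := Subgroup.mem_zpowers_iff.1 hb
        rw [← zpow_natCast, ← zpow_mul, mul_comm, zpow_mul, zpow_natCast, hx, one_zpow]
      have hcS : ⁅b, a⁆ ∈ S := Subgroup.mem_sup_left (by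
        rw [commutatorElement_def]; exact mul_mem (hUn.conj_mem a ha b) (inv_mem ha))
      have := CfsgLib.PGroup.mul_pow_odd_of_central (G := S) (x := ⟨a, haS⟩) (y := ⟨b, hbS⟩)
        (hp.out.odd_of_ne_two hp2) (Subgroup.mem_center_iff.2 fun w => Subtype.ext (h2 w w.2))
        (Subtype.ext h1)
      have e : (a * b) ^ p = a ^ p * b ^ p := congrArg Subtype.val this
      rw [e, hUel.2 a ha, hbp, one_mul]
    have hlt := hno S hexp
    have hUS : U < S := lt_of_le_of_ne le_sup_left fun e =>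
      hxU (e.symm ▸ (Subgroup.mem_sup_right (Subgroup.mem_zpowers x) : x ∈ S))
    obtain ⟨j, hj⟩ := (hGp.to_subgroup S).exists_card_eq
    have hcd : Nat.card U < Nat.card S := by
      refine lt_of_le_of_ne (Subgroup.card_le_of_le hUS.le) fun e => hUS.ne ?_
      exact Subgroup.eq_of_le_of_card_ge hUS.le e.ge
    rw [hj, hUc, Nat.pow_lt_pow_iff_right hp.out.one_lt] at hcd
    rw [hj, Nat.pow_lt_pow_iff_right hp.out.one_lt] at hlt
    omega
  by_cases hp3 : 3 < p
  · left
    exact CfsgLib.PGroup.Huppert.isMetacyclic_of_powClosure_index hp2 _ G rfl hGp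
      (CfsgLib.OddOrder41.index_powClosure_le hp3 _ G rfl hGp hno)
  -- the powers of `C`
  have hinj : ∀ x ∈ C, ∀ y ∈ C, x ^ p = y ^ p → x⁻¹ * y ∈ U := by
    intro x hx y hy hxy
    refine hOmega _ ?_
    have := pow_inj_of_omega_central hp2 _ C rfl (hGp.to_subgroup C) (fun z hz =>
        Subgroup.mem_center_iff.2 fun w => Subtype.ext (by
          have hzU := hOmega _ (congrArg Subtype.val hz)
          exact (Subgroup.mem_centralizer_iff.1 w.2 _ hzU).symm))
      ⟨x, hx⟩ ⟨y, hy⟩ (Subtype.ext hxy)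
    exact congrArg Subtype.val this
  set V := (CfsgLib.OddOrder41.powClosure p C).map C.subtype with hV
  have hVG : V ≤ CfsgLib.OddOrder41.powClosure p G :=
    CfsgLib.PGroup.Huppert.powClosure_map_le C.subtype
  have hcount : Nat.card C ≤ {z : C | ∃ x : C, x ^ p = z}.ncard * p ^ 2 := by
    have := card_le_card_powers (p := p) (U.subgroupOf C) fun x y hxy =>
      hinj x x.2 y y.2 (congrArg Subtype.val hxy)
    rwa [Nat.card_congr (Subgroup.subgroupOfEquivOfLe hUC).toEquiv, hUc] at this
  have hpows : {z : C | ∃ x : C, x ^ p = z} ⊆ (CfsgLib.OddOrder41.powClosure p C : Set C) :=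
    fun z hz => Subgroup.subset_closure hz
  have hncard : {z : C | ∃ x : C, x ^ p = z}.ncard ≤ Nat.card (CfsgLib.OddOrder41.powClosure p C) := by
    exact (Set.ncard_le_ncard hpows (Set.toFinite _)).trans (Nat.card_coe_set_eq _).ge
  have hVidx : (CfsgLib.OddOrder41.powClosure p C).index ≤ p ^ 2 := by
    have h1 := (CfsgLib.OddOrder41.powClosure p C).card_mul_index
    refine Nat.le_of_mul_le_mul_left ?_
      (Nat.card_pos (α := CfsgLib.OddOrder41.powClosure p C))
    rw [h1]
    exact hcount.trans (Nat.mul_le_mul_right _ hncard)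
  have hVcard : V.index = (CfsgLib.OddOrder41.powClosure p C).index * C.index := by
    rw [hV, Subgroup.index_map_subtype]
  by_cases hle : (CfsgLib.OddOrder41.powClosure p G).index ≤ p ^ 2
  · exact Or.inl (CfsgLib.PGroup.Huppert.isMetacyclic_of_powClosure_index hp2 _ G rfl hGp hle)
  right
  have hVlow : p ^ 2 < V.index := lt_of_lt_of_le (not_le.1 hle)
    (Nat.le_of_dvd (Nat.pos_of_ne_zero Subgroup.index_ne_zero_of_finite)
      (Subgroup.index_dvd_of_le hVG))
  -- `C` has index at most `p`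
  have hCidx : C.index ≤ p := by
    -- a noncentral element of `U` has at most `p` conjugates modulo `Z0`
    obtain ⟨u, hu, hu0⟩ : ∃ u ∈ U, u ∉ Subgroup.center G := by
      refine SetLike.not_le_iff_exists.1 fun hUle => ?_
      have hCtop : C = ⊤ := top_le_iff.1 fun w _ => Subgroup.mem_centralizer_iff.2 fun a ha =>
        (Subgroup.mem_center_iff.1 (hUle ha) w).symm
      have h1 : C.index = 1 := by rw [hCtop, Subgroup.index_top]
      rw [hVcard, h1, mul_one] at hVlow
      have : (CfsgLib.OddOrder41.powClosure p C).index ≤ p ^ 2 := hVidx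
      omega
    obtain ⟨z0, hz0U, hz0c, hz0⟩ : ∃ N : Subgroup G, N ≤ U ∧ N ≤ Subgroup.center G ∧ Nat.card N = p :=
      CfsgLib.OddOrder41.exists_central_order_p hGp U (fun e => hu0 (by
        rw [e] at hu; exact (Subgroup.mem_bot.1 hu) ▸ one_mem _))
    haveI : z0.Normal := ⟨fun z hz g => by
      rw [Subgroup.mem_center_iff.1 (hz0c hz) g]; simpa using hz⟩
    set q := QuotientGroup.mk' z0
    have hUq : Nat.card (U.map q) = p := by
      have h1 := Subgroup.card_eq_card_quotient_mul_card_subgroup (z0.subgroupOf U)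
      rw [Nat.card_congr (Subgroup.subgroupOfEquivOfLe hz0U).toEquiv, hz0, hUc, pow_two] at h1
      have h2 : (q.comp U.subtype).ker = z0.subgroupOf U := by
        rw [← MonoidHom.comap_ker, QuotientGroup.ker_mk']; rfl
      rw [← h2, ← Subgroup.index_eq_card, Subgroup.index_ker, MonoidHom.range_comp,
        Subgroup.range_subtype] at h1
      exact (Nat.eq_of_mul_eq_mul_right hp.out.pos h1).symm
    haveI : (U.map q).Normal := hUn.map q (QuotientGroup.mk'_surjective _)
    have hcz : ∀ g : G, ⁅g, u⁆ ∈ z0 := by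
      intro g
      rw [← QuotientGroup.eq_one_iff]
      show q ⁅g, u⁆ = 1
      rw [map_commutatorElement, commutatorElement_eq_one_iff_mul_comm]
      exact Subgroup.mem_center_iff.1 (CfsgLib.MaxClass.mem_center_of_card (hGp.to_quotient _)
        (U.map q) hUq (Subgroup.mem_map_of_mem q hu)) (q g)
    let δ : G →* z0 := MonoidHom.mk' (fun g => ⟨⁅g, u⁆, hcz g⟩) fun g h => Subtype.ext (by
      show ⁅g * h, u⁆ = ⁅g, u⁆ * ⁅h, u⁆
      have e : ⁅g * h, u⁆ = g * ⁅h, u⁆ * g⁻¹ * ⁅g, u⁆ := by
        simp only [commutatorElement_def]; group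
      rw [e, Subgroup.mem_center_iff.1 (hz0c (hcz h)) g, mul_inv_cancel_right,
        Subgroup.mem_center_iff.1 (hz0c (hcz h)) ⁅g, u⁆])
    have hker : δ.ker ≤ C := by
      intro g hg
      have hgu : g * u = u * g :=
        commutatorElement_eq_one_iff_mul_comm.1 (congrArg Subtype.val hg)
      have hgen : z0 ⊔ Subgroup.zpowers u = U := by
        have hlt : z0 < z0 ⊔ Subgroup.zpowers u := lt_of_le_of_ne le_sup_left fun e =>
          hu0 (hz0c (e.symm ▸ (Subgroup.mem_sup_right (Subgroup.mem_zpowers u) :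
            u ∈ z0 ⊔ Subgroup.zpowers u)))
        have hle' : z0 ⊔ Subgroup.zpowers u ≤ U := sup_le hz0U (Subgroup.zpowers_le.2 hu)
        refine Subgroup.eq_of_le_of_card_ge hle' ?_
        obtain ⟨j, hj⟩ := (hGp.to_subgroup (z0 ⊔ Subgroup.zpowers u)).exists_card_eq
        have h3 : Nat.card z0 < Nat.card ↥(z0 ⊔ Subgroup.zpowers u) := by
          refine lt_of_le_of_ne (Subgroup.card_le_of_le hlt.le) fun e => hlt.ne ?_
          exact Subgroup.eq_of_le_of_card_ge hlt.le e.ge
        rw [hz0, hj] at h3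
        rw [hUc, hj]
        have : 1 < j := by
          by_contra hj1
          have := Nat.pow_le_pow_right hp.out.pos (not_lt.1 hj1)
          rw [pow_one] at this
          omega
        exact Nat.pow_le_pow_right hp.out.pos this
      have hUle : U ≤ Subgroup.centralizer ({g} : Set G) := hgen ▸ sup_le
        (fun w hw => Subgroup.mem_centralizer_singleton_iff.2
          (Subgroup.mem_center_iff.1 (hz0c hw) g).symm)
        (Subgroup.zpowers_le.2 (Subgroup.mem_centralizer_singleton_iff.2 hgu.symm))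
      exact Subgroup.mem_centralizer_iff.2 fun a ha =>
        Subgroup.mem_centralizer_singleton_iff.1 (hUle ha)
    calc C.index ≤ δ.ker.index := Nat.le_of_dvd
            (Nat.pos_of_ne_zero Subgroup.index_ne_zero_of_finite) (Subgroup.index_dvd_of_le hker)
      _ = Nat.card δ.range := Subgroup.index_ker δ
      _ ≤ p := hz0 ▸ Subgroup.card_le_card_group _
  obtain ⟨i, hi⟩ := (hGp.to_subgroup C).index (CfsgLib.OddOrder41.powClosure p C)
  obtain ⟨j, hj⟩ := hGp.index C
  have hij : i = 2 ∧ j = 1 := by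
    have h1 : i ≤ 2 := (Nat.pow_le_pow_iff_right hp.out.one_lt).1 (hi ▸ hVidx)
    have h2 : j ≤ 1 := (Nat.pow_le_pow_iff_right hp.out.one_lt).1 (by rw [pow_one, ← hj]; exact hCidx)
    have h3 : 2 < i + j := (Nat.pow_lt_pow_iff_right hp.out.one_lt).1 (by
      rw [pow_add, ← hi, ← hj, ← hVcard]; exact hVlow)
    omega
  -- all powers lie in `V`
  have hVeq : CfsgLib.OddOrder41.powClosure p G = V := by
    refine (Subgroup.eq_of_le_of_card_ge hVG ?_).symm
    by_contra hlt
    push Not at hlt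
    obtain ⟨k, hk⟩ := hGp.index (CfsgLib.OddOrder41.powClosure p G)
    have h3 : 2 < k := (Nat.pow_lt_pow_iff_right hp.out.one_lt).1 (hk ▸ not_le.1 hle)
    have h1 := V.card_mul_index
    have h2 := (CfsgLib.OddOrder41.powClosure p G).card_mul_index
    rw [hVcard, hi, hj, hij.1, hij.2, ← pow_add] at h1
    rw [hk] at h2
    have h4 : p ^ (2 + 1) ≤ p ^ k := Nat.pow_le_pow_right hp.out.pos h3
    have h5 := Nat.mul_lt_mul_of_pos_right hlt (pow_pos hp.out.pos (2 + 1))
    have h6 := Nat.mul_le_mul_left (Nat.card (CfsgLib.OddOrder41.powClosure p G)) h4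
    omega
  -- every element of `V` is the `p`-th power of an element of `C`
  have hroot : ∀ v ∈ V, ∃ c ∈ C, c ^ p = v := by
    rintro _ ⟨v, hv, rfl⟩
    have heq : {z : C | ∃ x : C, x ^ p = z} = (CfsgLib.OddOrder41.powClosure p C : Set C) := by
      refine Set.eq_of_subset_of_ncard_le hpows ?_ (Set.toFinite _)
      rw [← Nat.card_coe_set_eq (CfsgLib.OddOrder41.powClosure p C : Set C), SetLike.coe_sort_coe]
      refine Nat.le_of_mul_le_mul_right ?_ (pow_pos hp.out.pos 2)
      refine le_trans (le_of_eq ?_) hcount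
      rw [← hij.1, ← hi]
      exact (CfsgLib.OddOrder41.powClosure p C).card_mul_index
    obtain ⟨c, hc⟩ := (Set.ext_iff.1 heq v).2 hv
    exact ⟨c, c.2, congrArg Subtype.val hc⟩
  obtain ⟨g, hg⟩ : ∃ g : G, g ∉ C := by
    refine SetLike.exists_not_mem_of_ne_top C ?_ rfl
    intro e
    rw [e, Subgroup.index_top, hij.2, pow_one] at hj
    exact hp.out.ne_one hj.symm
  obtain ⟨c, hcC, hc⟩ := hroot (g ^ p) (hVeq ▸ Subgroup.subset_closure ⟨g, rfl⟩)
  -- `k = g * c⁻¹` has order `p ^ 2` and is self-centralising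
  set k := g * c⁻¹ with hk
  have hkC : k ∉ C := fun h => hg (by simpa [hk] using mul_mem h hcC)
  have hgc : g * c * g⁻¹ * c⁻¹ ∈ U := by
    have h := hinj c hcC _ (hCn.conj_mem c hcC g) (by
      rw [conj_pow, hc, (Commute.self_pow g p).eq, mul_inv_cancel_right])
    have := hUn.conj_mem _ h c
    rwa [show c * (c⁻¹ * (g * c * g⁻¹)) * c⁻¹ = g * c * g⁻¹ * c⁻¹ by group] at this
  have hkU : k ^ p ∈ U := by
    rw [← QuotientGroup.eq_one_iff]
    have hcomm : Commute ((QuotientGroup.mk' U) g) ((QuotientGroup.mk' U) c) := by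
      have h : (QuotientGroup.mk' U) (g * c * g⁻¹ * c⁻¹) = 1 := (QuotientGroup.eq_one_iff _).2 hgc
      rw [← commutatorElement_def, map_commutatorElement, commutatorElement_eq_one_iff_mul_comm] at h
      exact h
    show (QuotientGroup.mk' U) (k ^ p) = 1
    rw [map_pow, hk, map_mul, map_inv, hcomm.inv_right.mul_pow, inv_pow, ← map_pow, ← map_pow, hc,
      mul_inv_cancel]
  have hk2 : k ^ p ^ 2 = 1 := by rw [pow_two, pow_mul, hUel.2 _ hkU]
  have hko : orderOf k = p ^ 2 := by
    obtain ⟨i, hi2, hi'⟩ := (Nat.dvd_prime_pow hp.out).1 (orderOf_dvd_of_pow_eq_one hk2)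
    rcases Nat.lt_or_ge i 2 with hlt | hge
    · exfalso
      refine hkC (hUC (hOmega k ?_))
      exact orderOf_dvd_iff_pow_eq_one.1 (hi' ▸ (pow_dvd_pow p (by omega : i ≤ 1)).trans
        (dvd_of_eq (pow_one p)))
    · rw [hi', le_antisymm hi2 hge]
  have hA : Nat.card (Subgroup.zpowers k) = p ^ 2 := by rw [Nat.card_zpowers, hko]
  have hn2 : 2 ≤ n := by
    have := Subgroup.card_le_card_group (Subgroup.zpowers k)
    rw [hA, hG] at this
    exact (Nat.pow_le_pow_iff_right hp.out.one_lt).1 this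
  refine ⟨by have := hp.out.two_le; omega, hn2, CfsgLib.MaxClass.class_of_selfCentralizing n G hG _ hA ?_⟩
  set D := Subgroup.centralizer ((Subgroup.zpowers k : Subgroup G) : Set G) with hD
  have hkD : k ∈ D := Subgroup.mem_centralizer_iff.2 fun a ha => by
    obtain ⟨i, rfl⟩ := ha
    exact ((Commute.refl k).zpow_left i).eq
  have hDk : ∀ d ∈ D, k * d = d * k := fun d hd =>
    Subgroup.mem_centralizer_iff.1 hd k (Subgroup.mem_zpowers k)
  haveI hDcyc : IsCyclic D := by
    refine CfsgLib.ConstStab.isCyclic_of_unique_prime_subgroup hp2 (hGp.to_subgroup D)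
      fun x y hx1 hx hy => ?_
    -- both lie in the centraliser of `k` in `U`, of order `p`
    have hxU := hOmega _ (congrArg Subtype.val hx)
    have hyU := hOmega _ (congrArg Subtype.val hy)
    have hlt : Nat.card ↥(U ⊓ D) ≤ p := by
      obtain ⟨i, hi2, hi'⟩ := (Nat.dvd_prime_pow hp.out).1
        (hUc ▸ Subgroup.card_dvd_of_le (inf_le_left : U ⊓ D ≤ U))
      rcases Nat.lt_or_ge i 2 with h | h
      · rw [hi']
        calc p ^ i ≤ p ^ 1 := Nat.pow_le_pow_right hp.out.pos (by omega)
          _ = p := pow_one p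
      · exfalso
        have hUD : U ≤ D := (Subgroup.eq_of_le_of_card_ge inf_le_left (by
          rw [hUc, hi']; exact Nat.pow_le_pow_right hp.out.pos h)).ge.trans inf_le_right
        exact hkC (Subgroup.mem_centralizer_iff.2 fun a ha => (hDk a (hUD ha)).symm)
    have hle : Subgroup.zpowers (x : G) ≤ U ⊓ D := Subgroup.zpowers_le.2 ⟨hxU, x.2⟩
    have he := Subgroup.eq_of_le_of_card_ge hle (by
      rw [Nat.card_zpowers, Subgroup.orderOf_coe, orderOf_eq_prime hx hx1]; exact hlt)
    obtain ⟨i, hi'⟩ : (y : G) ∈ Subgroup.zpowers (x : G) := he ▸ (⟨hyU, y.2⟩ : (y : G) ∈ U ⊓ D)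
    exact ⟨i, Subtype.ext hi'⟩
  refine le_antisymm ?_ (Subgroup.zpowers_le.2 hkD)
  obtain ⟨h, hh⟩ := IsCyclic.exists_generator (α := D)
  have hcases : ∃ m : ℕ, k = (h : G) ^ m := by
    obtain ⟨m, hm⟩ := (mem_powers_iff_mem_zpowers (x := h)).2 (hh ⟨k, hkD⟩)
    exact ⟨m, (congrArg Subtype.val hm).symm⟩
  obtain ⟨m, hm⟩ := hcases
  have hmp : ¬ p ∣ m := by
    rintro ⟨t, rfl⟩
    refine hkC ?_
    rw [hm, pow_mul]
    refine pow_mem ?_ t
    have hmem : (h : G) ^ p ∈ C := by
      have hq : ((h : G) : G ⧸ C) ^ p = 1 := by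
        apply orderOf_dvd_iff_pow_eq_one.1
        have := orderOf_dvd_natCard ((h : G) : G ⧸ C)
        rwa [← Subgroup.index_eq_card, hj, hij.2, pow_one] at this
      rwa [← QuotientGroup.mk_pow, QuotientGroup.eq_one_iff] at hq
    exact hmem
  intro d hd
  obtain ⟨t, ht⟩ := hh ⟨d, hd⟩
  have ht' : (h : G) ^ t = d := congrArg Subtype.val ht
  obtain ⟨l, hl⟩ := IsPGroup.iff_orderOf.1 hGp (h : G)
  obtain ⟨r, hr⟩ := exists_pow_eq_self_of_coprime (x := (h : G)) (n := m) (by
    rw [hl]; exact Nat.Coprime.pow_right l ((hp.out.coprime_iff_not_dvd.2 hmp).symm))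
  rw [← ht', ← hr]
  exact zpow_mem (pow_mem (hm ▸ Subgroup.mem_zpowers k) r) t

end CfsgLib.Struct76
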