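import Mathlib
import Cfsg.Prelude.Def_PLocal
import Cfsg.Agent.Lib.H82.Regular
import Cfsg.Agent.Lib.PGroup.Frattini
import Cfsg.Agent.Lib.PGroup.NormalSquare

set_option autoImplicit false

/-! Minimal `p`-groups in which the elements of order dividing `p` do not form a subgroup. -/

namespace CfsgLib.Struct76

theorem exponentClosed_pGroup {G : Type*} [Group G] [Finite G] {p : ℕ} [Fact p.Prime]
    (hG : IsPGroup p G)
    (hreg : (⊤ : Subgroup G).lowerCentralSeries (p - 1) = ⊥ → Cfsg.IsRegularPGroup p G)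
    (hnc : ¬ ∃ H : Subgroup G, (H : Set G) = {g : G | g ^ p = 1})
    (hsub : ∀ K : Subgroup G, K ≠ ⊤ → ∃ H : Subgroup ↥K, (H : Set ↥K) = {g : ↥K | g ^ p = 1})
    (hquo : ∀ (N : Subgroup G) [N.Normal], N ≠ ⊥ →
      ∃ H : Subgroup (G ⧸ N), (H : Set (G ⧸ N)) = {g : (G ⧸ N) | g ^ p = 1}) :
    (∃ x y : G, Subgroup.closure ({x, y} : Set G) = ⊤) ∧
      (⊤ : Subgroup G).lowerCentralSeries (p - 1) ≠ ⊥ ∧
      Monoid.exponent G = p ^ 2 ∧ IsCyclic ↥(Subgroup.center G) ∧ p ^ (p + 1) ≤ Nat.card G := by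
  have hp := (Fact.out : p.Prime)
  obtain ⟨x, y, hx, hy, hxy⟩ : ∃ x y : G, x ^ p = 1 ∧ y ^ p = 1 ∧ (x * y) ^ p ≠ 1 := by
    by_contra! h
    refine hnc ⟨⟨⟨⟨{g : G | g ^ p = 1}, fun {a b} ha hb => h a b ha hb⟩, one_pow p⟩, ?_⟩, rfl⟩
    intro a (ha : a ^ p = 1)
    change a⁻¹ ^ p = 1
    rw [inv_pow, ha, inv_one]
  have hgen : Subgroup.closure ({x, y} : Set G) = ⊤ := by
    by_contra hne
    obtain ⟨H, hH⟩ := hsub _ hne
    have h1 : ∀ z (hz : z ∈ Subgroup.closure ({x, y} : Set G)), z ^ p = 1 →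
        (⟨z, hz⟩ : ↥(Subgroup.closure ({x, y} : Set G))) ∈ H := by
      intro z hz hzp
      rw [← SetLike.mem_coe, hH]
      exact Subtype.ext hzp
    have hxm : x ∈ Subgroup.closure ({x, y} : Set G) := Subgroup.subset_closure (by simp)
    have hym : y ∈ Subgroup.closure ({x, y} : Set G) := Subgroup.subset_closure (by simp)
    have h2 := H.mul_mem (h1 x hxm hx) (h1 y hym hy)
    rw [← SetLike.mem_coe, hH] at h2
    exact hxy (congrArg Subtype.val h2)
  have hnab : ∀ a b : G, Commute a b → a = x → b = y → False := by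
    rintro a b hab rfl rfl
    exact hxy (by rw [hab.mul_pow, hx, hy, one_mul])
  have hcl : (⊤ : Subgroup G).lowerCentralSeries (p - 1) ≠ ⊥ := by
    intro h
    have h1 := CfsgLib.Regular82.pow_mul_eq_one (hreg h) (n := 1) (x := x) (y := y)
      (by rwa [pow_one]) (by rwa [pow_one])
    rw [pow_one] at h1
    exact hxy h1
  -- a maximal subgroup containing `x`
  have hxtop : Subgroup.zpowers x ≠ ⊤ := fun h => by
    obtain ⟨k, hk⟩ := Subgroup.mem_zpowers_iff.mp (h ▸ Subgroup.mem_top y : y ∈ Subgroup.zpowers x)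
    exact hnab x y (hk ▸ (Commute.refl x).zpow_right k) rfl rfl
  obtain ⟨M, hM, hxM⟩ := (eq_top_or_exists_le_coatom _).resolve_left hxtop
  haveI := CfsgLib.PGroup.normal_of_isCoatom hG hM
  obtain ⟨H, hH⟩ := hsub M hM.1
  haveI : H.Characteristic := Subgroup.characteristic_iff_le_comap.mpr fun φ z hz => by
    have hz' : z ∈ (H : Set ↥M) := hz
    rw [hH] at hz'
    change φ z ∈ (H : Set ↥M)
    rw [hH]
    change φ z ^ p = 1
    rw [← map_pow, show z ^ p = 1 from hz', map_one]
  set HM := H.map M.subtype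
  have hHMp : ∀ z ∈ HM, z ^ p = 1 := by
    rintro _ ⟨z, hz, rfl⟩
    have hz' : z ∈ (H : Set ↥M) := hz
    rw [hH] at hz'
    exact congrArg Subtype.val hz'
  have hxH : x ∈ HM := by
    refine ⟨⟨x, hxM (Subgroup.mem_zpowers x)⟩, ?_, rfl⟩
    change _ ∈ (H : Set ↥M)
    rw [hH]
    exact Subtype.ext hx
  have hp2 : ∀ g : G, g ^ p ∈ HM := by
    intro g
    have h1 : (⊤ : Subgroup (G ⧸ HM)) ≤ Subgroup.zpowers (QuotientGroup.mk' HM y) := by
      rw [← Subgroup.map_top_of_surjective _ (QuotientGroup.mk'_surjective HM), ← hgen,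
        MonoidHom.map_closure, Subgroup.closure_le, Set.image_pair]
      rintro z (rfl | rfl)
      · rw [show QuotientGroup.mk' HM x = 1 from (QuotientGroup.eq_one_iff x).mpr hxH]
        exact one_mem _
      · exact Subgroup.mem_zpowers _
    obtain ⟨k, hk⟩ := Subgroup.mem_zpowers_iff.mp (h1 (Subgroup.mem_top (QuotientGroup.mk' HM g)))
    rw [← QuotientGroup.eq_one_iff]
    change QuotientGroup.mk' HM (g ^ p) = 1
    rw [map_pow, ← hk, ← zpow_natCast, ← zpow_mul, mul_comm, zpow_mul, zpow_natCast, ← map_pow, hy,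
      map_one, one_zpow]
  have hexp : Monoid.exponent G = p ^ 2 := by
    have h1 : Monoid.exponent G ∣ p ^ 2 := Monoid.exponent_dvd_of_forall_pow_eq_one fun g => by
      rw [pow_two, pow_mul]; exact hHMp _ (hp2 g)
    obtain ⟨k, hk, hk'⟩ := (Nat.dvd_prime_pow hp).mp h1
    rcases (show k ≤ 1 ∨ k = 2 by omega) with hk1 | hk1
    · refine absurd ?_ hxy
      rw [← orderOf_dvd_iff_pow_eq_one]
      refine ((Monoid.order_dvd_exponent (x * y)).trans (hk' ▸ Nat.pow_dvd_pow p hk1)).trans ?_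
      rw [pow_one]
    · rw [hk', hk1]
  have hZ : IsCyclic ↥(Subgroup.center G) := by
    have hquo' : ∀ N : Subgroup G, N.Normal → N ≠ ⊥ → ∀ g : G, g ^ p ∈ N := by
      intro N hN hne g
      haveI := hN
      obtain ⟨W, hW⟩ := hquo N hne
      have h1 : (⊤ : Subgroup G) ≤ W.comap (QuotientGroup.mk' N) := by
        rw [← hgen, Subgroup.closure_le]
        intro z hz
        change QuotientGroup.mk' N z ∈ (W : Set (G ⧸ N))
        rw [hW]
        change QuotientGroup.mk' N z ^ p = 1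
        rcases hz with rfl | rfl
        · rw [← map_pow, hx, map_one]
        · rw [← map_pow, hy, map_one]
      have h2 : QuotientGroup.mk' N g ∈ (W : Set (G ⧸ N)) := h1 (Subgroup.mem_top g)
      rw [hW] at h2
      rw [← QuotientGroup.eq_one_iff]
      exact h2
    haveI : Nontrivial G := ⟨⟨(x * y) ^ p, 1, hxy⟩⟩
    haveI := hG.center_nontrivial
    obtain ⟨k, hk0, hk⟩ := (hG.to_subgroup (Subgroup.center G)).nontrivial_iff_card.mp inferInstance
    obtain ⟨z, hz⟩ := exists_prime_orderOf_dvd_card' p (hk ▸ dvd_pow_self p hk0.ne')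
    letI : CommGroup ↥(Subgroup.center G) := { (inferInstance : Group ↥(Subgroup.center G)) with
      mul_comm := fun a b => Subtype.ext (Subgroup.mem_center_iff.mp b.2 a) }
    refine CfsgLib.PGroup39.isCyclic_of_omega_le (A := ↥(Subgroup.center G)) (p := p) (hG.to_subgroup (Subgroup.center G)) ?_
    calc Nat.card ↥(powMonoidHom p : ↥(Subgroup.center G) →* ↥(Subgroup.center G)).ker
        ≤ Nat.card (Subgroup.zpowers z) := Subgroup.card_le_of_le fun w hw => ?_
      _ = p := by rw [Nat.card_zpowers, hz]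
    by_contra hwz
    have hwp : w ^ p = 1 := hw
    have hw1 : w ≠ 1 := fun h => hwz (h ▸ one_mem _)
    have hnorm : ∀ c : ↥(Subgroup.center G), (Subgroup.zpowers (c : G)).Normal := fun c =>
      ⟨fun v hv g => by
        have hvc : v ∈ Subgroup.center G := (Subgroup.zpowers_le.mpr c.2) hv
        rwa [Subgroup.mem_center_iff.mp hvc g, mul_inv_cancel_right]⟩
    have hne : ∀ c : ↥(Subgroup.center G), c ≠ 1 → Subgroup.zpowers (c : G) ≠ ⊥ := fun c hc h =>
      hc (Subtype.ext (Subgroup.zpowers_eq_bot.mp h))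
    obtain ⟨i, hi⟩ := Subgroup.mem_zpowers_iff.mp
      (hquo' _ (hnorm z) (hne z (fun h => by rw [h, orderOf_one] at hz; exact hp.ne_one hz.symm)) (x * y))
    obtain ⟨l, hl⟩ := Subgroup.mem_zpowers_iff.mp (hquo' _ (hnorm w) (hne w hw1) (x * y))
    rw [← hl, ← Subgroup.coe_zpow, ← Subgroup.coe_zpow] at hi
    have h3 : w ^ l ∈ Subgroup.zpowers z := Subtype.ext hi ▸ Subgroup.zpow_mem_zpowers z i
    have h4 : w ^ l ≠ 1 := fun h => hxy (by rw [← hl, ← Subgroup.coe_zpow, h, Subgroup.coe_one])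
    have hwo : orderOf w = p := orderOf_eq_prime hwp hw1
    have hld : ¬ (p : ℤ) ∣ l := fun hd => h4 (orderOf_dvd_iff_zpow_eq_one.mp (hwo.symm ▸ hd))
    obtain ⟨u, v, huv⟩ : IsCoprime l (p : ℤ) :=
      ((Prime.coprime_iff_not_dvd (Nat.prime_iff_prime_int.mp hp)).mpr hld).symm
    apply hwz
    have : w = (w ^ l) ^ u := by
      conv_lhs => rw [← zpow_one w, ← huv]
      rw [zpow_add, mul_comm u l, zpow_mul, mul_comm v (p : ℤ), zpow_mul, zpow_natCast, hwp, one_zpow,
        mul_one]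
    rw [this]
    exact Subgroup.zpow_mem _ h3 u
  refine ⟨⟨x, y, hgen⟩, hcl, hexp, hZ, ?_⟩
  -- the order
  haveI := hG.isNilpotent
  set L := fun i => (⊤ : Subgroup G).lowerCentralSeries i
  obtain ⟨c, hc⟩ := Subgroup.nilpotent_iff_lowerCentralSeries.mp ‹Group.IsNilpotent G›
  have hstep : ∀ i, L i ≠ ⊥ → p * Nat.card (L (i + 1)) ≤ Nat.card (L i) := by
    intro i hi
    have hle : L (i + 1) ≤ L i := Subgroup.lowerCentralSeries_antitone (⊤ : Subgroup G) (Nat.le_succ i)
    have hlt : Nat.card (L (i + 1)) < Nat.card (L i) := by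
      refine lt_of_le_of_ne (Subgroup.card_le_of_le hle) fun h => hi ?_
      have he : L (i + 1) = L i := Subgroup.eq_of_le_of_card_ge hle h.ge
      have hall : ∀ j, i ≤ j → L j = L i := by
        intro j hj
        induction j, hj using Nat.le_induction with
        | base => rfl
        | succ j hj ih =>
          change ⁅L j, (⊤ : Subgroup G)⁆ = _
          rw [ih]; exact he
      rcases le_total i c with h' | h'
      · rw [← hall c h']; exact hc
      · exact le_bot_iff.mp (hc ▸ Subgroup.lowerCentralSeries_antitone (⊤ : Subgroup G) h')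
    obtain ⟨a, ha⟩ := IsPGroup.iff_card.mp (hG.to_subgroup (L i))
    obtain ⟨b, hb⟩ := IsPGroup.iff_card.mp (hG.to_subgroup (L (i + 1)))
    rw [ha, hb] at hlt ⊢
    rw [← pow_succ']
    exact Nat.pow_le_pow_right hp.pos ((Nat.pow_lt_pow_iff_right hp.one_lt).mp hlt)
  have h1 : ∀ k, k + 1 ≤ p - 1 → p ^ k * Nat.card (L (k + 1)) ≤ Nat.card (L 1) := by
    intro k hk
    induction k with
    | zero => simp
    | succ k ih =>
      have hne : L (k + 1) ≠ ⊥ := fun h => hcl
        (le_bot_iff.mp (h ▸ Subgroup.lowerCentralSeries_antitone (⊤ : Subgroup G) (show k + 1 ≤ p - 1 by omega)))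
      calc p ^ (k + 1) * Nat.card (L (k + 1 + 1)) = p ^ k * (p * Nat.card (L (k + 1 + 1))) := by ring
        _ ≤ p ^ k * Nat.card (L (k + 1)) := Nat.mul_le_mul_left _ (hstep _ hne)
        _ ≤ _ := ih (by omega)
  have h2 : p ^ (p - 1) ≤ Nat.card (L 1) := by
    have h3 := h1 (p - 2) (by have := hp.two_le; omega)
    rw [show p - 2 + 1 = p - 1 by have := hp.two_le; omega] at h3
    have h4 : p ≤ Nat.card (L (p - 1)) := by
      obtain ⟨a, ha⟩ := IsPGroup.iff_card.mp (hG.to_subgroup (L (p - 1)))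
      rcases a with - | a
      · exact absurd (Subgroup.card_eq_one.mp (by rw [ha, pow_zero])) hcl
      · rw [ha]; exact Nat.le_self_pow a.succ_ne_zero p
    calc p ^ (p - 1) = p ^ (p - 2) * p := by
          rw [← pow_succ]; congr 1; have := hp.two_le; omega
      _ ≤ p ^ (p - 2) * Nat.card (L (p - 1)) := Nat.mul_le_mul_left _ h4
      _ ≤ _ := h3
  have h5 : p ^ 2 ≤ (L 1).index := by
    simp only [L, Subgroup.top_lowerCentralSeries_one]
    obtain ⟨k, hk⟩ := IsPGroup.iff_card.mp (hG.to_quotient (commutator G))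
    rw [Subgroup.index_eq_card, hk]
    refine Nat.pow_le_pow_right hp.pos ?_
    by_contra hlt
    haveI : IsCyclic (G ⧸ commutator G) := by
      rcases (show k = 0 ∨ k = 1 by omega) with rfl | rfl
      · haveI : Subsingleton (G ⧸ commutator G) :=
          (Nat.card_eq_one_iff_unique.mp (by rw [hk, pow_zero])).1
        exact isCyclic_of_subsingleton
      · exact isCyclic_of_prime_card (p := p) (by rw [hk, pow_one])
    obtain ⟨g, hg⟩ := IsCyclic.exists_generator (α := G ⧸ commutator G)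
    obtain ⟨g, rfl⟩ := QuotientGroup.mk_surjective g
    have hgt : Subgroup.zpowers g = ⊤ := frattini_nongenerating (top_unique fun z _ => by
      obtain ⟨i, hi⟩ := Subgroup.mem_zpowers_iff.mp (hg (z : G ⧸ commutator G))
      have : (g ^ i)⁻¹ * z ∈ commutator G := QuotientGroup.eq.mp (by rw [QuotientGroup.mk_zpow, hi])
      rw [show z = g ^ i * ((g ^ i)⁻¹ * z) by group]
      exact Subgroup.mul_mem_sup (Subgroup.zpow_mem_zpowers g i)
        (CfsgLib.PGroup.commutator_le_frattini hG this))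
    obtain ⟨i, hi⟩ := Subgroup.mem_zpowers_iff.mp (hgt ▸ Subgroup.mem_top x : x ∈ Subgroup.zpowers g)
    obtain ⟨j, hj⟩ := Subgroup.mem_zpowers_iff.mp (hgt ▸ Subgroup.mem_top y : y ∈ Subgroup.zpowers g)
    exact hnab x y (hi ▸ hj ▸ Commute.zpow_zpow_self g i j) rfl rfl
  calc p ^ (p + 1) = p ^ 2 * p ^ (p - 1) := by
        rw [← pow_add]; congr 1; have := hp.two_le; omega
    _ ≤ (L 1).index * Nat.card (L 1) := Nat.mul_le_mul h5 h2
    _ = _ := Subgroup.index_mul_card _

end CfsgLib.Struct76
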