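import Mathlib
import Cfsg.Prelude.Def_HallClasses

set_option autoImplicit false

/-! Symmetric groups without Hall subgroups. -/

namespace CfsgLib.Struct76

/-- A group of order `p ^ a * q` (`p ≠ q` primes) without nontrivial normal `p`-subgroup has a normal
subgroup of order `q`. -/
theorem normal_of_card_eq_pow_mul {H : Type*} [Group H] [Finite H] {p q : ℕ} [Fact p.Prime]
    [Fact q.Prime] (hpq : p ≠ q) (a : ℕ) (hcard : Nat.card H = p ^ a * q)
    (hno : ∀ N : Subgroup H, N.Normal → IsPGroup p N → N = ⊥) :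
    ∃ Q : Subgroup H, Q.Normal ∧ Nat.card Q = q := by
  classical
  have hp := (Fact.out : p.Prime)
  have hq := (Fact.out : q.Prime)
  have hcop : Nat.Coprime (p ^ a) q := ((Nat.coprime_primes hp hq).mpr hpq).pow_left a
  obtain ⟨Q⟩ := (inferInstance : Nonempty (Sylow q H))
  have hQc : ∀ Q : Sylow q H, Nat.card (Q : Subgroup H) = q := fun Q => by
    rw [Q.card_eq_multiplicity, hcard, Nat.factorization_mul (pow_ne_zero _ hp.ne_zero) hq.ne_zero]
    simp [hp.factorization_pow, hq.factorization_self, Ne.symm hpq, hpq]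
  have hPc : ∀ P : Sylow p H, Nat.card (P : Subgroup H) = p ^ a := fun P => by
    rw [P.card_eq_multiplicity, hcard, Nat.factorization_mul (pow_ne_zero _ hp.ne_zero) hq.ne_zero]
    simp [hp.factorization_self, hpq, hq.factorization]
  by_cases hTI : ∀ P P' : Sylow p H, P ≠ P' → (P : Subgroup H) ⊓ (P' : Subgroup H) = ⊥
  · refine ⟨Q, ?_, hQc Q⟩
    rcases Nat.eq_zero_or_pos a with rfl | ha
    · have : (Q : Subgroup H) = ⊤ := Subgroup.eq_top_of_card_eq _ (by rw [hQc, hcard]; simp)
      rw [this]; infer_instance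
    haveI : Fintype H := Fintype.ofFinite H
    haveI : Fintype (Sylow p H) := Fintype.ofFinite _
    haveI : Fintype (Sylow q H) := Fintype.ofFinite _
    -- the number of Sylow `p`-subgroups is `q`
    obtain ⟨P⟩ := (inferInstance : Nonempty (Sylow p H))
    have hidx : (P : Subgroup H).index = q := by
      have := (P : Subgroup H).index_mul_card
      rw [hPc, hcard, mul_comm (p ^ a)] at this
      exact Nat.eq_of_mul_eq_mul_right (pow_pos hp.pos a) this
    have hnp : Fintype.card (Sylow p H) = q := by
      rw [← Nat.card_eq_fintype_card]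
      refine (hq.eq_one_or_self_of_dvd _ (hidx ▸ P.card_dvd_index)).resolve_left fun h1 => ?_
      haveI := (Nat.card_eq_one_iff_unique.mp h1).1
      have := hno _ P.normal_of_subsingleton P.2
      have h2 := hPc P
      rw [this, Subgroup.card_bot] at h2
      exact (Nat.one_lt_pow ha.ne' hp.one_lt).ne h2
    -- counting elements
    let A : Finset H := (Finset.univ : Finset (Sylow p H)).biUnion
      fun P => ((P : Subgroup H) : Set H).toFinset.erase 1
    let B : Finset H := (Finset.univ : Finset (Sylow q H)).biUnion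
      fun P => ((P : Subgroup H) : Set H).toFinset.erase 1
    have hA : A.card = q * (p ^ a - 1) := by
      rw [Finset.card_biUnion, Finset.sum_const_nat (m := p ^ a - 1)]
      · rw [Finset.card_univ, hnp]
      · intro P _
        rw [Finset.card_erase_of_mem (by simp), Set.toFinset_card, ← Nat.card_eq_fintype_card,
          SetLike.coe_sort_coe, hPc]
      · intro P _ P' _ hne
        rw [Function.onFun, Finset.disjoint_left]
        intro x hx hx'
        simp only [Finset.mem_erase, Set.mem_toFinset, SetLike.mem_coe] at hx hx'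
        exact hx.1 (Subgroup.mem_bot.mp (hTI P P' hne ▸ ⟨hx.2, hx'.2⟩))
    have hB : B.card = Fintype.card (Sylow q H) * (q - 1) := by
      rw [Finset.card_biUnion, Finset.sum_const_nat (m := q - 1)]
      · rw [Finset.card_univ]
      · intro P _
        rw [Finset.card_erase_of_mem (by simp), Set.toFinset_card, ← Nat.card_eq_fintype_card,
          SetLike.coe_sort_coe, hQc]
      · intro P _ P' _ hne
        rw [Function.onFun, Finset.disjoint_left]
        intro x hx hx'
        simp only [Finset.mem_erase, Set.mem_toFinset, SetLike.mem_coe] at hx hx'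
        apply hne
        have hxo : Subgroup.zpowers x = (P : Subgroup H) := by
          refine Subgroup.eq_of_le_of_card_ge (Subgroup.zpowers_le.mpr hx.2) ?_
          rw [hQc, Nat.card_zpowers]
          refine ((hq.eq_one_or_self_of_dvd _ (hQc P ▸ Subgroup.orderOf_dvd_natCard _ hx.2)).resolve_left
            fun h => hx.1 (orderOf_eq_one_iff.mp h)).ge
        have hxo' : Subgroup.zpowers x = (P' : Subgroup H) := by
          refine Subgroup.eq_of_le_of_card_ge (Subgroup.zpowers_le.mpr hx'.2) ?_
          rw [hQc, Nat.card_zpowers]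
          refine ((hq.eq_one_or_self_of_dvd _ (hQc P' ▸ Subgroup.orderOf_dvd_natCard _ hx'.2)).resolve_left
            fun h => hx'.1 (orderOf_eq_one_iff.mp h)).ge
        exact Sylow.ext (hxo.symm.trans hxo')
    have hAB : Disjoint A B := by
      rw [Finset.disjoint_left]
      intro x hx hx'
      simp only [A, B, Finset.mem_biUnion, Finset.mem_erase, Set.mem_toFinset, SetLike.mem_coe,
        Finset.mem_univ, true_and] at hx hx'
      obtain ⟨P, hx1, hxP⟩ := hx
      obtain ⟨Q, -, hxQ⟩ := hx'
      exact hx1 (orderOf_eq_one_iff.mp (Nat.eq_one_of_dvd_coprimes hcop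
        (hPc P ▸ Subgroup.orderOf_dvd_natCard _ hxP) (hQc Q ▸ Subgroup.orderOf_dvd_natCard _ hxQ)))
    have hle : (A ∪ B).card ≤ ((Finset.univ : Finset H).erase 1).card := by
      refine Finset.card_le_card fun x hx => ?_
      simp only [A, B, Finset.mem_union, Finset.mem_biUnion, Finset.mem_erase] at hx
      rcases hx with ⟨P, -, h, -⟩ | ⟨P, -, h, -⟩ <;> exact Finset.mem_erase.mpr ⟨h, Finset.mem_univ x⟩
    rw [Finset.card_union_of_disjoint hAB, hA, hB, Finset.card_erase_of_mem (Finset.mem_univ _),
      Finset.card_univ, ← Nat.card_eq_fintype_card (α := H), hcard, Nat.mul_sub, mul_one,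
      mul_comm q (p ^ a)] at hle
    have h1 : Fintype.card (Sylow q H) * (q - 1) ≤ 1 * (q - 1) := by
      have h2 : q ≤ p ^ a * q := Nat.le_mul_of_pos_left _ (pow_pos hp.pos a)
      have h3 : 1 ≤ q := hq.one_le
      omega
    have h4 := Nat.le_of_mul_le_mul_right h1 (by have := hq.two_le; omega)
    haveI : Subsingleton (Sylow q H) := Fintype.card_le_one_iff_subsingleton.mp h4
    exact Q.normal_of_subsingleton
  · exfalso
    push Not at hTI
    obtain ⟨D, hD, hDmax⟩ := Set.Finite.exists_maximalFor id
      {D : Subgroup H | D ≠ ⊥ ∧ ∃ P P' : Sylow p H, P ≠ P' ∧ (P : Subgroup H) ⊓ P' = D}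
      (Set.toFinite _) (by obtain ⟨P, P', h1, h2⟩ := hTI; exact ⟨_, h2, P, P', h1, rfl⟩)
    obtain ⟨hD0, P, P', hne, rfl⟩ := hD
    set N := Subgroup.normalizer (((P : Subgroup H) ⊓ P' : Subgroup H) : Set H)
    -- `q` divides the order of `N(D)`
    obtain ⟨y, hyN, hyo⟩ : ∃ y ∈ N, orderOf y = q := by
      by_cases hqN : q ∣ Nat.card N
      · obtain ⟨y, hy⟩ := exists_prime_orderOf_dvd_card' q hqN
        exact ⟨y, y.2, (Subgroup.orderOf_coe y).trans hy⟩
      exfalso
      have hNp : IsPGroup p N := by
        obtain ⟨k, -, hk⟩ : ∃ k ≤ a, Nat.card N = p ^ k := (Nat.dvd_prime_pow hp).mp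
          (((hq.coprime_iff_not_dvd.mpr hqN).symm).dvd_of_dvd_mul_right (hcard ▸ N.card_subgroup_dvd_card))
        exact IsPGroup.of_card hk
      obtain ⟨T, hT⟩ := hNp.exists_le_sylow
      have hbig : ∀ R : Sylow p H, (P : Subgroup H) ⊓ P' ≤ R → (P : Subgroup H) ⊓ P' ≠ R → R = T := by
        intro R hle hne
        by_contra hRT
        haveI := R.2.isNilpotent
        have hlt : ((P : Subgroup H) ⊓ P').subgroupOf R < ⊤ :=
          lt_top_iff_ne_top.mpr fun h => hne (le_antisymm hle (Subgroup.subgroupOf_eq_top.mp h))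
        obtain ⟨z, hz, hz'⟩ := SetLike.exists_of_lt
          (Group.normalizerCondition_of_isNilpotent (G := ↥(R : Subgroup H)) _ hlt)
        have hzN : (z : H) ∈ N := by
          rw [Subgroup.mem_normalizer_iff]
          intro g
          rw [Subgroup.mem_normalizer_iff] at hz
          constructor
          · intro hg
            exact ((hz ⟨g, hle hg⟩).mp hg : _)
          · intro hg
            have hgR : g ∈ (R : Subgroup H) := by
              have := mul_mem (mul_mem (inv_mem z.2) (hle hg)) z.2
              simpa [mul_assoc] using this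
            exact (hz ⟨g, hgR⟩).mpr hg
        apply hz'
        have h1 : (P : Subgroup H) ⊓ P' ≤ (R : Subgroup H) ⊓ T :=
          le_inf hle (Subgroup.le_normalizer.trans hT)
        exact hDmax ⟨ne_bot_of_le_ne_bot hD0 h1, R, T, hRT, rfl⟩ h1 ⟨z.2, hT hzN⟩
      refine hne ((hbig P inf_le_left ?_).trans (hbig P' inf_le_right ?_).symm)
      · intro h
        exact hne (Sylow.ext (P.3 P'.2 (h ▸ inf_le_right)).symm)
      · intro h
        exact hne (Sylow.ext (P'.3 P.2 (h ▸ inf_le_left)))
    -- every element is a product of an element of `P` and a power of `y`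
    have hbij : Function.Bijective
        (fun uv : ↥(P : Subgroup H) × ↥(Subgroup.zpowers y) => (uv.1 : H) * (uv.2 : H)) := by
      refine (Nat.bijective_iff_injective_and_card _).mpr ⟨?_, ?_⟩
      · rintro ⟨u, v⟩ ⟨u', v'⟩ h
        change (u : H) * v = u' * v' at h
        have h1 : ((u' : H)⁻¹ * u) = (v' : H) * (v : H)⁻¹ := by
          rw [eq_mul_inv_iff_mul_eq, mul_assoc, h, inv_mul_cancel_left]
        have h2 : (u' : H)⁻¹ * u = 1 := by
          rw [← orderOf_eq_one_iff]
          refine Nat.eq_one_of_dvd_coprimes hcop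
            (hPc P ▸ Subgroup.orderOf_dvd_natCard _ (mul_mem (inv_mem u'.2) u.2)) ?_
          rw [h1, ← hyo]
          exact (Subgroup.orderOf_dvd_natCard _ (mul_mem v'.2 (inv_mem v.2))).trans
            (Nat.card_zpowers y).dvd
        have h3 : (u : H) = u' := (inv_mul_eq_one.mp h2).symm
        rw [h3, mul_right_inj] at h
        exact Prod.ext (Subtype.ext h3) (Subtype.ext h)
      · rw [Nat.card_prod, hPc, Nat.card_zpowers, hyo, hcard]
    have hM : Subgroup.normalClosure (((P : Subgroup H) ⊓ P' : Subgroup H) : Set H) ≤ (P : Subgroup H) := by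
      rw [Subgroup.normalClosure, Subgroup.closure_le]
      intro x hx
      obtain ⟨d, hd, hdx⟩ := Group.mem_conjugatesOfSet_iff.mp hx
      obtain ⟨g, rfl⟩ := isConj_iff.mp hdx
      obtain ⟨⟨u, v⟩, huv⟩ := hbij.2 g
      have hv : (v : H) ∈ N := Subgroup.zpowers_le.mpr hyN v.2
      have h1 := (Subgroup.mem_normalizer_iff.mp hv d).mp hd
      have e : g * d * g⁻¹ = (u : H) * ((v : H) * d * (v : H)⁻¹) * (u : H)⁻¹ := by
        rw [← huv]; group
      rw [e]
      exact mul_mem (mul_mem u.2 h1.1) (inv_mem u.2)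
    have := hno _ inferInstance (P.2.to_le hM)
    exact hD0 (le_bot_iff.mp (Subgroup.le_normalClosure.trans this.le))

/-- `Sym(q)` has no Hall subgroup for a set of primes meeting `[1, q]` only in `p` and `q`,
unless `q ≤ p + 1`. -/
theorem no_hall_sym_prime (π : Set ℕ) {p q : ℕ} [Fact p.Prime] [Fact q.Prime] (hp : p ∈ π)
    (hq : q ∈ π) (hpq : p + 1 < q) (honly : ∀ r ∈ π, r.Prime → r ≤ q → r = p ∨ r = q) :
    ¬ Cfsg.IsEPiGroup π (Equiv.Perm (Fin q)) := by
  rintro ⟨H, hπ, hidx⟩
  have hpp := (Fact.out : p.Prime)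
  have hqp := (Fact.out : q.Prime)
  have hG : Nat.card (Equiv.Perm (Fin q)) = q.factorial := by
    rw [Nat.card_perm, Nat.card_fin]
  have hfac : q.factorial = (q - 1).factorial * q := by
    rw [mul_comm, Nat.mul_factorial_pred hqp.ne_zero]
  have hq1 : ¬ q ∣ (q - 1).factorial := by
    rw [hqp.dvd_factorial]; omega
  have hne1 : (q - 1).factorial ≠ 0 := Nat.factorial_ne_zero _
  -- the order of `H`
  set a := (q - 1).factorial.factorization p
  have hfacπ : ∀ r : ℕ, r.Prime → r ∈ π → (Nat.card H).factorization r = q.factorial.factorization r := by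
    intro r hr hrπ
    rw [← hG, ← H.index_mul_card, Nat.factorization_mul H.index_ne_zero_of_finite Nat.card_pos.ne']
    simp [Nat.factorization_eq_zero_of_not_dvd (hidx r hr hrπ)]
  have hHc : Nat.card H = p ^ a * q := by
    refine Nat.eq_of_factorization_eq Nat.card_pos.ne'
      (mul_ne_zero (pow_ne_zero _ hpp.ne_zero) hqp.ne_zero) fun r => ?_
    rw [Nat.factorization_mul (pow_ne_zero _ hpp.ne_zero) hqp.ne_zero, hpp.factorization_pow,
      hqp.factorization]
    simp only [Finsupp.coe_add, Pi.add_apply, Finsupp.single_apply]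
    by_cases hr : r ∣ Nat.card H ∧ r.Prime
    · have hrq : r ≤ q := by
        have h := hr.1.trans H.card_subgroup_dvd_card
        rwa [hG, hr.2.dvd_factorial] at h
      rw [hfacπ r hr.2 (hπ r hr.2 hr.1), hfac, Nat.factorization_mul hne1 hqp.ne_zero, hqp.factorization]
      rcases honly r (hπ r hr.2 hr.1) hr.2 hrq with rfl | rfl
      · simp [show q ≠ r by omega, a]
      · simp [show p ≠ r by omega, Nat.factorization_eq_zero_of_not_dvd hq1]
    · have h0 : (Nat.card H).factorization r = 0 := by
        by_cases h : r.Prime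
        · exact Nat.factorization_eq_zero_of_not_dvd fun hd => hr ⟨hd, h⟩
        · exact Nat.factorization_eq_zero_of_not_prime _ h
      rw [h0]
      have hp' : r = p → a = 0 := by
        rintro rfl
        have := hfacπ r hpp hp
        rw [h0, hfac, Nat.factorization_mul hne1 hqp.ne_zero, hqp.factorization] at this
        simpa [show q ≠ r by omega] using this.symm
      have hq' : q ≠ r := by
        rintro rfl
        have := hfacπ q hqp hq
        rw [h0, hfac, Nat.factorization_mul hne1 hqp.ne_zero, hqp.factorization] at this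
        simp at this
      by_cases hrp : p = r <;> simp_all
  -- a `q`-cycle in `H`
  obtain ⟨σ, hσ⟩ := exists_prime_orderOf_dvd_card' q (G := H) (hHc ▸ dvd_mul_left _ _)
  have hσo : orderOf (σ : Equiv.Perm (Fin q)) = q := (Subgroup.orderOf_coe σ).trans hσ
  have hcyc : (σ : Equiv.Perm (Fin q)).IsCycle :=
    Equiv.Perm.isCycle_of_prime_order'' (by simpa using hqp) (by simpa using hσo)
  have hsupp : (σ : Equiv.Perm (Fin q)).support = Finset.univ := Finset.eq_univ_of_card _ (by
    rw [← hcyc.orderOf, hσo, Fintype.card_fin])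
  have htrans : ∀ x y : Fin q, ∃ k : ℤ, ((σ : Equiv.Perm (Fin q)) ^ k) x = y := fun x y =>
    hcyc.exists_zpow_eq (Equiv.Perm.mem_support.mp (hsupp ▸ Finset.mem_univ x))
      (Equiv.Perm.mem_support.mp (hsupp ▸ Finset.mem_univ y))
  -- no nontrivial normal `p`-subgroup
  have hno : ∀ N : Subgroup H, N.Normal → IsPGroup p N → N = ⊥ := by
    intro N hN hNp
    have hmod := hNp.card_modEq_card_fixedPoints (Fin q)
    rw [Nat.card_fin] at hmod
    obtain ⟨x, hx⟩ : (MulAction.fixedPoints N (Fin q)).Nonempty := by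
      by_contra h
      rw [Set.not_nonempty_iff_eq_empty] at h
      rw [h, Nat.card_eq_zero.mpr (Or.inl inferInstance), Nat.modEq_zero_iff_dvd,
        Nat.prime_dvd_prime_iff_eq hpp hqp] at hmod
      omega
    rw [eq_bot_iff]
    intro n hn
    rw [Subgroup.mem_bot]
    apply Subtype.ext
    apply Equiv.ext
    intro y
    obtain ⟨k, hk⟩ := htrans x y
    have h1 := hx ⟨_, hN.conj_mem n hn (σ ^ k)⁻¹⟩
    change (((σ ^ k)⁻¹ * n * ((σ ^ k)⁻¹)⁻¹ : H) : Equiv.Perm (Fin q)) x = x at h1
    rw [inv_inv, Subgroup.coe_mul, Subgroup.coe_mul, Subgroup.coe_inv, Subgroup.coe_zpow,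
      Equiv.Perm.mul_apply, Equiv.Perm.mul_apply, hk] at h1
    have h2 := congrArg ((σ : Equiv.Perm (Fin q)) ^ k) h1
    rw [hk, ← Equiv.Perm.mul_apply, mul_inv_cancel, Equiv.Perm.one_apply] at h2
    exact h2
  obtain ⟨Q, hQn, hQc⟩ := normal_of_card_eq_pow_mul (by omega) a hHc hno
  haveI := hQn
  -- its centralizer is small
  obtain ⟨τ, hτ⟩ := exists_prime_orderOf_dvd_card' q (G := Q) (by rw [hQc])
  have hτo : orderOf ((τ : H) : Equiv.Perm (Fin q)) = q := by
    rw [Subgroup.orderOf_coe, Subgroup.orderOf_coe, hτ]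
  have hcyc' : ((τ : H) : Equiv.Perm (Fin q)).IsCycle :=
    Equiv.Perm.isCycle_of_prime_order'' (by simpa using hqp) (by simpa using hτo)
  have hsupp' : ((τ : H) : Equiv.Perm (Fin q)).support = Finset.univ := Finset.eq_univ_of_card _ (by
    rw [← hcyc'.orderOf, hτo, Fintype.card_fin])
  have hC : Nat.card (Subgroup.centralizer (Q : Set H)) ≤ q := by
    refine (Nat.card_le_card_of_injective
      (fun c : Subgroup.centralizer (Q : Set H) => ((c : H) : Equiv.Perm (Fin q)) ⟨0, hqp.pos⟩) ?_).trans
      (Nat.card_fin q).le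
    intro c d hcd
    apply Subtype.ext
    apply Subtype.ext
    apply Equiv.ext
    intro y
    have hc : ∀ c : Subgroup.centralizer (Q : Set H), ∀ (k : ℤ) x,
        ((c : H) : Equiv.Perm (Fin q)) ((((τ : H) : Equiv.Perm (Fin q)) ^ k) x) =
          (((τ : H) : Equiv.Perm (Fin q)) ^ k) (((c : H) : Equiv.Perm (Fin q)) x) := by
      intro c k x
      have h := congrArg Subtype.val (Subgroup.mem_centralizer_iff.mp c.2 (τ : H) τ.2)
      have h' : Commute ((c : H) : Equiv.Perm (Fin q)) ((τ : H) : Equiv.Perm (Fin q)) := h.symm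
      rw [← Equiv.Perm.mul_apply, (h'.zpow_right k).eq, Equiv.Perm.mul_apply]
    obtain ⟨k, hk⟩ := hcyc'.exists_zpow_eq
      (Equiv.Perm.mem_support.mp (hsupp' ▸ Finset.mem_univ (⟨0, hqp.pos⟩ : Fin q)))
      (Equiv.Perm.mem_support.mp (hsupp' ▸ Finset.mem_univ y))
    rw [← hk, hc c k, hc d k]
    exact congrArg _ hcd
  let φ : H →* MulAut Q := MulAut.conjNormal
  have hker : φ.ker ≤ Subgroup.centralizer (Q : Set H) := by
    intro g hg
    rw [Subgroup.mem_centralizer_iff]
    intro x hx
    have := congrArg (fun e : MulAut Q => ((e ⟨x, hx⟩ : Q) : H)) (MonoidHom.mem_ker.mp hg)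
    simp only [φ, MulAut.conjNormal_apply, MulAut.one_apply] at this
    exact (mul_inv_eq_iff_eq_mul.mp this).symm
  haveI : IsCyclic Q := isCyclic_of_prime_card hQc
  have hQk : Q ≤ φ.ker := by
    intro g hg
    rw [MonoidHom.mem_ker]
    ext x
    have := (IsCyclic.commGroup (α := Q)).mul_comm ⟨g, hg⟩ x
    have h2 : g * (x : H) = (x : H) * g := congrArg Subtype.val this
    simp [φ, MulAut.conjNormal_apply, h2]
  have hk : Nat.card φ.ker = q := le_antisymm ((Subgroup.card_le_of_le hker).trans hC)
    (hQc.ge.trans (Subgroup.card_le_of_le hQk))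
  have hdvd : p ^ a ∣ q - 1 := by
    have h1 := φ.ker.index_mul_card
    rw [Subgroup.index_ker, hk, hHc] at h1
    rw [← Nat.eq_of_mul_eq_mul_right hqp.pos h1]
    refine φ.range.card_subgroup_dvd_card.trans ?_
    rw [IsCyclic.card_mulAut, hQc, Nat.totient_prime hqp]
  -- but `(q - 1)!` has a larger `p`-part
  obtain ⟨m, rfl⟩ : ∃ m, q = m + 2 := ⟨q - 2, by omega⟩
  have e : (m + 2 - 1).factorial = (m + 1) * m.factorial := by
    rw [show m + 2 - 1 = m + 1 by omega, Nat.factorial_succ]
  rw [show m + 2 - 1 = m + 1 by omega, hpp.pow_dvd_iff_le_factorization (by omega)] at hdvd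
  have h1 : 1 ≤ m.factorial.factorization p :=
    hpp.factorization_pos_of_dvd (Nat.factorial_ne_zero m) (hpp.dvd_factorial.mpr (by omega))
  simp only [a, e, Nat.factorization_mul (Nat.succ_ne_zero m) (Nat.factorial_ne_zero m),
    Finsupp.coe_add, Pi.add_apply] at hdvd
  simp only [Nat.succ_eq_add_one] at hdvd
  omega

/-- `Sym(r + 1)` has no Hall subgroup when all primes below the prime `r ≥ 5` lie in `π` but `r` does not. -/
theorem no_hall_sym_succ (π : Set ℕ) {r : ℕ} (hr : r.Prime) (hr5 : 5 ≤ r) (hrπ : r ∉ π)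
    (hall : ∀ s : ℕ, s.Prime → s < r → s ∈ π) :
    ¬ Cfsg.IsEPiGroup π (Equiv.Perm (Fin (r + 1))) := by
  rintro ⟨H, hπ, hidx⟩
  have hG : Nat.card (Equiv.Perm (Fin (r + 1))) = (r + 1).factorial := by
    rw [Nat.card_perm, Nat.card_fin]
  have hi : H.index = r := by
    have hdvd : H.index ∣ (r + 1).factorial := hG ▸ H.index_dvd_card
    have hrH : ¬ r ∣ Nat.card H := fun h => hrπ (hπ r hr h)
    refine Nat.eq_of_factorization_eq H.index_ne_zero_of_finite hr.ne_zero fun s => ?_
    rw [hr.factorization]
    simp only [Finsupp.single_apply]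
    by_cases hs : r = s
    · subst hs
      rw [if_pos rfl]
      have h1 : (r + 1).factorial.factorization r = 1 := by
        have h2 : ¬ r ∣ r + 1 := fun h => hr.ne_one (Nat.dvd_one.mp ((Nat.dvd_add_right dvd_rfl).mp h))
        have h3 : ¬ r ∣ (r - 1).factorial := by rw [hr.dvd_factorial]; omega
        rw [Nat.factorial_succ, ← Nat.mul_factorial_pred hr.ne_zero,
          Nat.factorization_mul (Nat.succ_ne_zero r) (mul_ne_zero hr.ne_zero (Nat.factorial_ne_zero _)),
          Nat.factorization_mul hr.ne_zero (Nat.factorial_ne_zero _)]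
        simp [hr.factorization_self, Nat.factorization_eq_zero_of_not_dvd h2,
          Nat.factorization_eq_zero_of_not_dvd h3]
      rw [← hG, ← H.index_mul_card, Nat.factorization_mul H.index_ne_zero_of_finite Nat.card_pos.ne',
        Finsupp.coe_add, Pi.add_apply, Nat.factorization_eq_zero_of_not_dvd hrH, add_zero] at h1
      exact h1
    · rw [if_neg hs]
      by_cases hsp : s.Prime
      · refine Nat.factorization_eq_zero_of_not_dvd fun hd => ?_
        have hle : s ≤ r + 1 := hsp.dvd_factorial.mp (hd.trans hdvd)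
        have h1 : ¬ s = r + 1 := by
          rintro rfl
          have h2 := hsp.eq_two_or_odd
          have h3 := hr.eq_two_or_odd
          omega
        exact hidx s hsp (hall s hsp (by omega)) hd
      · exact Nat.factorization_eq_zero_of_not_prime _ hsp
  -- the core is trivial
  have hA : IsSimpleGroup (alternatingGroup (Fin (r + 1))) :=
    alternatingGroup.isSimpleGroup (by rw [Nat.card_fin]; omega)
  set K := H.normalCore
  haveI : Nontrivial (Fin (r + 1)) := Fin.nontrivial_iff_two_le.mpr (by omega)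
  have h2 : (alternatingGroup (Fin (r + 1))).index = 2 := alternatingGroup.index_eq_two
  have hK : Nat.card K ≤ 2 := by
    rcases hA.eq_bot_or_eq_top_of_normal (K.subgroupOf (alternatingGroup (Fin (r + 1))))
      inferInstance with h | h
    · rw [Subgroup.subgroupOf_eq_bot, disjoint_iff] at h
      have h3 := (alternatingGroup (Fin (r + 1))).relIndex_dvd_index_of_normal (K := K)
      rw [← Subgroup.inf_relIndex_left] at h3
      rw [h,
        Subgroup.relIndex_bot_left, h2] at h3
      exact Nat.le_of_dvd two_pos h3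
    · exfalso
      have h3 := Nat.le_of_dvd two_pos
        (h2 ▸ Subgroup.index_dvd_of_le ((Subgroup.subgroupOf_eq_top.mp h).trans H.normalCore_le))
      omega
  have hcore : K.index ∣ r.factorial := by
    rw [show K = _ from H.normalCore_eq_ker, Subgroup.index_ker]
    refine (Subgroup.card_subgroup_dvd_card _).trans ?_
    rw [Nat.card_perm, ← Subgroup.index_eq_card, hi]
  have h4 := K.index_mul_card
  rw [hG, Nat.factorial_succ] at h4
  have h5 : (r + 1) * r.factorial ≤ r.factorial * 2 := h4 ▸
    Nat.mul_le_mul (Nat.le_of_dvd r.factorial_pos hcore) hK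
  nlinarith [r.factorial_pos]

end CfsgLib.Struct76
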