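import Cfsg.Agent.Lib.Struct76.VaughanLee
import Cfsg.Agent.Lib.Struct76.LowerCentralLie

/-!
# Breadth in the Lie ring of the lower central series
-/

set_option autoImplicit false

namespace CfsgLib.LowerCentralBreadth76

open CfsgLib.LowerCentralLie76 CfsgLib.VaughanLee76
open scoped commutatorElement

variable {G : Type*} [Group G]

/-- The `i`-th homogeneous component. -/
noncomputable def comp (G : Type*) [Group G] (i : ℕ) : AddSubgroup (LCL G) :=
  (DirectSum.of (Gr G) i).range

theorem toL_mem_comp {i : ℕ} {x : G} (hx : x ∈ lcs G i) : toL i x ∈ comp G i :=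
  ⟨_, (toL_of_mem hx).symm⟩

theorem exists_of_mem_comp {i : ℕ} {u : LCL G} (hu : u ∈ comp G i) :
    ∃ x ∈ lcs G i, toL i x = u := by
  obtain ⟨a, rfl⟩ := hu
  exact ⟨rep a, rep_mem a, toL_rep a⟩

theorem lie_zero_toL {i : ℕ} {g x : G} (hx : x ∈ lcs G i) :
    ⁅toL 0 g, toL i x⁆ = toL (i + 1) ⁅g, x⁆ := by
  rw [lie_toL (Subgroup.mem_top g) hx, Nat.zero_add]

theorem comm_mem_succ {i : ℕ} (g : G) {x : G} (hx : x ∈ lcs G i) : ⁅g, x⁆ ∈ lcs G (i + 1) := by
  have := comm_mem (i := 0) (Subgroup.mem_top g) hx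
  rwa [Nat.zero_add] at this

theorem layer_eq_comp : ∀ n, layer (comp G 0) n = comp G n := by
  intro n
  induction n with
  | zero => rfl
  | succ n ih =>
    refine le_antisymm ((AddSubgroup.closure_le _).2 ?_) ?_
    · rintro _ ⟨v, hv, u, hu, rfl⟩
      rw [ih] at hu
      obtain ⟨x, hx, rfl⟩ := exists_of_mem_comp hu
      obtain ⟨g, -, rfl⟩ := exists_of_mem_comp hv
      rw [lie_zero_toL hx]
      exact toL_mem_comp (comm_mem_succ g hx)
    · intro u hu
      obtain ⟨x, hx, rfl⟩ := exists_of_mem_comp hu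
      have hsub : ∀ y, y ∈ Subgroup.closure {z | ∃ u ∈ lcs G n, ∃ v ∈ (⊤ : Subgroup G), ⁅u, v⁆ = z} →
          y ∈ lcs G (n + 1) ∧ toL (n + 1) y ∈ layer (comp G 0) (n + 1) := by
        intro y hy
        induction hy using Subgroup.closure_induction with
        | mem z hz =>
          obtain ⟨u, hu, v, hv, rfl⟩ := hz
          refine ⟨Subgroup.commutator_mem_commutator hu hv, ?_⟩
          rw [← commutatorElement_inv v u, toL_inv (comm_mem_succ v hu), ← lie_zero_toL hu]
          exact neg_mem (layer_lie_mem (toL_mem_comp (Subgroup.mem_top v))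
            (ih ▸ toL_mem_comp hu))
        | one => exact ⟨one_mem _, by rw [toL_one]; exact zero_mem _⟩
        | mul u v _ _ hu hv => exact ⟨mul_mem hu.1 hv.1, by rw [toL_mul hu.1 hv.1]; exact add_mem hu.2 hv.2⟩
        | inv u _ hu => exact ⟨inv_mem hu.1, by rw [toL_inv hu.1]; exact neg_mem hu.2⟩
      exact (hsub x ((Subgroup.mem_lowerCentralSeries_succ_iff (S := (⊤ : Subgroup G)) n x).1 hx)).2

/-- The projection to a component. -/
noncomputable def proj (n : ℕ) : LCL G →+ LCL G :=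
  (DirectSum.of (Gr G) n).comp (DFinsupp.evalAddMonoidHom n)

theorem proj_mem (n : ℕ) (u : LCL G) : proj n u ∈ comp G n := ⟨u n, rfl⟩

theorem proj_fix (n : ℕ) (u : LCL G) (hu : u ∈ comp G n) : proj n u = u := by
  obtain ⟨a, rfl⟩ := hu
  exact congrArg (DirectSum.of (Gr G) n) (DirectSum.of_eq_same n a)

theorem proj_off (m n : ℕ) (h : m ≠ n) (u : LCL G) (hu : u ∈ comp G n) : proj m u = 0 := by
  obtain ⟨a, rfl⟩ := hu
  exact (congrArg (DirectSum.of (Gr G) m) (DirectSum.of_eq_of_ne n m a h)).trans (map_zero _)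

/-- The grading of the Lie ring of the lower central series. -/
noncomputable def grading (G : Type*) [Group G] : Grading (comp G 0) where
  proj := proj
  proj_mem n u := by rw [layer_eq_comp]; exact proj_mem n u
  proj_fix n u hu := proj_fix n u (by rwa [← layer_eq_comp])
  proj_off m n h u hu := proj_off m n h u (by rwa [← layer_eq_comp])
  proj_lie n v u hv := by
    obtain ⟨g, -, rfl⟩ := exists_of_mem_comp hv
    induction u using gr_induction with
    | h0 => simp
    | hadd u w hu hw => rw [lie_add, map_add, hu, hw, map_add, lie_add]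
    | hgen i x hx =>
      by_cases h : i = n
      · subst h
        rw [proj_fix i _ (toL_mem_comp hx), lie_zero_toL hx,
          proj_fix _ _ (toL_mem_comp (comm_mem_succ g hx))]
      · rw [proj_off n i (Ne.symm h) _ (toL_mem_comp hx), lie_zero_toL hx, lie_zero,
          proj_off _ (i + 1) (by omega) _ (toL_mem_comp (comm_mem_succ g hx))]
  span := eq_top_iff.2 fun u hu => by
    clear hu
    induction u using gr_induction with
    | h0 => exact zero_mem _
    | hadd u w hu hw => exact add_mem hu hw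
    | hgen i x hx =>
      exact AddSubgroup.mem_iSup_of_mem i (by rw [layer_eq_comp]; exact toL_mem_comp hx)

theorem subsingleton_gr {c i : ℕ} (hc : lcs G c = ⊥) (hi : c ≤ i) : ∀ a : Gr G i, a = 0 := by
  intro a
  have h : rep a = 1 := Subgroup.mem_bot.1 (hc ▸ lcs_le hi (rep_mem a))
  have h2 := toL_rep a
  rw [h, toL_one] at h2
  exact DirectSum.of_injective i (h2.symm.trans (map_zero _).symm)

instance instFiniteLCL [Finite G] [hG : Group.IsNilpotent G] : Finite (LCL G) := by
  obtain ⟨c, hc⟩ := Subgroup.nilpotent_iff_lowerCentralSeries.1 hG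
  refine Finite.of_injective (fun u : LCL G => fun i : Fin c => u i.1) fun u w h => ?_
  refine DFinsupp.ext fun i => ?_
  by_cases hi : i < c
  · exact congrFun h ⟨i, hi⟩
  · exact (subsingleton_gr hc (le_of_not_gt hi) _).trans (subsingleton_gr hc (le_of_not_gt hi) _).symm

theorem exists_card_eq [Finite G] [Group.IsNilpotent G] {p : ℕ} [Fact p.Prime] (hG : IsPGroup p G) :
    ∃ e, Nat.card (LCL G) = p ^ e := by
  obtain ⟨k, hk⟩ := IsPGroup.iff_card.1 hG
  have hP : IsPGroup p (Multiplicative (LCL G)) := by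
    intro u
    refine ⟨k, Multiplicative.toAdd.injective ?_⟩
    show p ^ k • Multiplicative.toAdd u = 0
    generalize Multiplicative.toAdd u = w
    induction w using gr_induction with
    | h0 => exact smul_zero _
    | hadd u w hu hw => rw [nsmul_add, hu, hw, add_zero]
    | hgen i x hx =>
      have hpow : ∀ m : ℕ, toL i (x ^ m) = m • toL i x := by
        intro m
        induction m with
        | zero => rw [pow_zero, toL_one, zero_smul]
        | succ m ih => rw [pow_succ, toL_mul (pow_mem hx m) hx, ih, succ_nsmul]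
      rw [← hpow, ← hk, pow_card_eq_one', toL_one]
  obtain ⟨e, he⟩ := IsPGroup.iff_card.1 hP
  exact ⟨e, by rwa [Nat.card_congr (Multiplicative.toAdd (α := LCL G))] at he⟩

/-- The part of degree at least `i`. -/
noncomputable def filt (G : Type*) [Group G] (i : ℕ) : AddSubgroup (LCL G) :=
  ⨆ (j : ℕ) (_ : i ≤ j), comp G j

theorem filt_succ (i : ℕ) : filt G i = comp G i ⊔ filt G (i + 1) := by
  refine le_antisymm (iSup₂_le fun j hj => ?_)
    (sup_le (le_iSup₂ (f := fun j (_ : i ≤ j) => comp G j) i le_rfl)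
      (iSup₂_le fun j hj => le_iSup₂ (f := fun j (_ : i ≤ j) => comp G j) j (by omega)))
  rcases eq_or_lt_of_le hj with rfl | hlt
  · exact le_sup_left
  · exact le_trans (le_iSup₂ (f := fun j (_ : i + 1 ≤ j) => comp G j) j hlt) le_sup_right

theorem filt_eq_bot {c i : ℕ} (hc : lcs G c = ⊥) (hi : c ≤ i) : filt G i = ⊥ := by
  refine eq_bot_iff.2 (iSup₂_le fun j hj => ?_)
  rintro _ ⟨a, rfl⟩
  rw [subsingleton_gr hc (hi.trans hj) a, map_zero]
  exact zero_mem _

theorem filt_zero : filt G 0 = ⊤ := eq_top_iff.2 fun u hu => by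
  clear hu
  induction u using gr_induction with
  | h0 => exact zero_mem _
  | hadd u w hu hw => exact add_mem hu hw
  | hgen i x hx =>
    exact le_iSup₂ (f := fun j (_ : 0 ≤ j) => comp G j) i (Nat.zero_le i) (toL_mem_comp hx)

/-- The bracket with a fixed class of degree zero, on one term of the series. -/
noncomputable def brHom (g : G) (i : ℕ) : ↥(lcs G i) →* Multiplicative (LCL G) :=
  MonoidHom.mk' (fun x => Multiplicative.ofAdd ⁅toL 0 g, toL i (x : G)⁆) fun x y => by
    show Multiplicative.ofAdd ⁅toL 0 g, toL i ((x : G) * (y : G))⁆ = _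
    rw [toL_mul x.2 y.2, lie_add, ofAdd_add]

theorem mem_brHom_ker {g : G} {i : ℕ} {x : ↥(lcs G i)} :
    x ∈ (brHom g i).ker ↔ ⁅toL 0 g, toL i (x : G)⁆ = 0 :=
  ⟨fun h => Multiplicative.ofAdd.injective (MonoidHom.mem_ker.1 h), fun h =>
    MonoidHom.mem_ker.2 (congrArg Multiplicative.ofAdd h)⟩

variable [Finite G]

/-- Classes annihilated by `g` lift to the centralizer of `g`. -/
def Lifts (g : G) (i : ℕ) : Prop :=
  ∀ j, i ≤ j → ∀ x ∈ lcs G j, ⁅toL 0 g, toL j x⁆ = 0 →
    ∃ c ∈ Subgroup.centralizer ({g} : Set G) ⊓ lcs G j, ∃ y ∈ lcs G (j + 1), c * y = x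

theorem card_map_filt_le [Group.IsNilpotent G] {c : ℕ} (hc : lcs G c = ⊥) (g : G) :
    ∀ d i, i + d = c →
      Nat.card ((filt G i).map (adHom (toL 0 g))) ≤
          (Subgroup.centralizer ({g} : Set G)).relIndex (lcs G i) ∧
        ((Subgroup.centralizer ({g} : Set G)).relIndex (lcs G i) ≤
          Nat.card ((filt G i).map (adHom (toL 0 g))) → Lifts g i) := by
  intro d
  induction d with
  | zero =>
    intro i hi
    rw [filt_eq_bot hc (le_of_eq (by omega)), AddSubgroup.map_bot, AddSubgroup.card_bot]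
    refine ⟨Nat.one_le_iff_ne_zero.2 Subgroup.index_ne_zero_of_finite, fun _ j hj x hx _ => ?_⟩
    refine ⟨1, one_mem _, x, ?_, one_mul x⟩
    have hx1 : x = 1 := Subgroup.mem_bot.1 (hc ▸ lcs_le (by omega) hx)
    rw [hx1]; exact one_mem _
  | succ d ih =>
    intro i hi
    obtain ⟨ih1, ih2⟩ := ih (i + 1) (by omega)
    set C := Subgroup.centralizer ({g} : Set G) with hC
    set Γ := (lcs G (i + 1)).subgroupOf (lcs G i) with hΓ
    set C' := C.subgroupOf (lcs G i) with hC'
    set K := (brHom g i).ker with hK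
    have hΓK : Γ ≤ K := fun x hx => mem_brHom_ker.2 (by
      rw [toL_eq_zero (Subgroup.mem_subgroupOf.1 hx), lie_zero])
    have hCK : C' ≤ K := fun x hx => mem_brHom_ker.2 (by
      have hcomm : ⁅g, (x : G)⁆ = 1 := commutatorElement_eq_one_iff_mul_comm.2
        (Subgroup.mem_centralizer_iff.1 (Subgroup.mem_subgroupOf.1 hx) g rfl)
      rw [lie_zero_toL x.2, hcomm, toL_one])
    have hS : C' ⊔ Γ ≤ K := sup_le hCK hΓK
    have himg : Nat.card ((comp G i).map (adHom (toL 0 g))) = K.index := by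
      rw [Subgroup.index_ker]
      refine (Nat.card_congr (Equiv.subtypeEquiv Multiplicative.toAdd fun z => ?_)).symm
      constructor
      · rintro ⟨x, rfl⟩
        exact ⟨toL i x, toL_mem_comp x.2, rfl⟩
      · rintro ⟨u, hu, hz⟩
        obtain ⟨x, hx, rfl⟩ := exists_of_mem_comp hu
        exact ⟨⟨x, hx⟩, Multiplicative.toAdd.injective hz⟩
    have hn : C.relIndex (lcs G i) = C'.relIndex (C' ⊔ Γ) * (C' ⊔ Γ).relIndex K * K.index := by
      rw [Subgroup.relIndex_mul_relIndex _ _ _ le_sup_left hS, Subgroup.relIndex_mul_index hCK]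
      rfl
    have hge : C.relIndex (lcs G (i + 1)) ≤ C'.relIndex (C' ⊔ Γ) := by
      rw [← Subgroup.relIndex_subgroupOf (H := C) (lcs_le (Nat.le_succ i) : lcs G (i + 1) ≤ lcs G i)]
      exact Subgroup.relIndex_le_of_le_right le_sup_right Subgroup.index_ne_zero_of_finite
    have hpos : 0 < (C' ⊔ Γ).relIndex K := Nat.pos_of_ne_zero Subgroup.index_ne_zero_of_finite
    have hposK : 0 < K.index := Nat.pos_of_ne_zero Subgroup.index_ne_zero_of_finite
    have hfil : Nat.card ((filt G i).map (adHom (toL 0 g))) ≤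
        Nat.card ((filt G (i + 1)).map (adHom (toL 0 g))) * K.index := by
      rw [filt_succ i, AddSubgroup.map_sup, ← himg, mul_comm]
      exact card_sup_le _ _
    have hpos' : 0 < C.relIndex (lcs G (i + 1)) := Nat.pos_of_ne_zero Subgroup.index_ne_zero_of_finite
    refine ⟨?_, fun heq => ?_⟩
    · rw [hn]
      exact hfil.trans (Nat.mul_le_mul_right _ ((ih1.trans hge).trans (Nat.le_mul_of_pos_right _ hpos)))
    rw [hn] at heq
    have h3 := Nat.le_of_mul_le_mul_right (heq.trans hfil) hposK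
    have h4 : C.relIndex (lcs G (i + 1)) ≤ Nat.card ((filt G (i + 1)).map (adHom (toL 0 g))) :=
      ((hge.trans (Nat.le_mul_of_pos_right _ hpos))).trans h3
    have h5 : (C' ⊔ Γ).relIndex K = 1 := by
      have h6 : C.relIndex (lcs G (i + 1)) * (C' ⊔ Γ).relIndex K ≤ C.relIndex (lcs G (i + 1)) * 1 := by
        rw [mul_one]
        exact ((Nat.mul_le_mul_right _ hge).trans h3).trans ih1
      have := Nat.le_of_mul_le_mul_left h6 hpos'
      omega
    intro j hj x hx hx0
    rcases eq_or_lt_of_le hj with rfl | hlt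
    · have hxK : (⟨x, hx⟩ : lcs G i) ∈ C' ⊔ Γ :=
        Subgroup.relIndex_eq_one.1 h5 (mem_brHom_ker.2 hx0)
      obtain ⟨a, ha, y, hy, hay⟩ := Subgroup.mem_sup_of_normal_right.1 hxK
      exact ⟨a, Subgroup.mem_inf.2 ⟨Subgroup.mem_subgroupOf.1 ha, a.2⟩, y,
        Subgroup.mem_subgroupOf.1 hy, congrArg Subtype.val hay⟩
    · exact ih2 h4 j hlt x hx hx0

theorem card_ran_le [hG : Group.IsNilpotent G] (g : G) :
    Nat.card (ran (toL 0 g)) ≤ (Subgroup.centralizer ({g} : Set G)).index ∧
      ((Subgroup.centralizer ({g} : Set G)).index ≤ Nat.card (ran (toL 0 g)) → Lifts g 0) := by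
  obtain ⟨c, hc⟩ := Subgroup.nilpotent_iff_lowerCentralSeries.1 hG
  have h := card_map_filt_le hc g c 0 (Nat.zero_add c)
  rwa [filt_zero, show (⊤ : AddSubgroup (LCL G)).map (adHom (toL 0 g)) = ran (toL 0 g) from
    (AddMonoidHom.range_eq_map _).symm, show lcs G 0 = ⊤ from rfl, Subgroup.relIndex_top_right] at h

/-- Elements that centralize modulo a term of the series differ from centralizing elements only up
to the preceding term. -/
theorem exists_lift {g g' : G} (hlift : Lifts g' 0) (hclass : toL 0 g' = toL 0 g) {n : ℕ} {x : G}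
    (hx : ⁅g', x⁆ ∈ lcs G (n + 1)) : toL (n + 1) ⁅g', x⁆ ∈ ran (toL 0 g) := by
  have key : ∀ k, k ≤ n → ∃ y ∈ lcs G k, ⁅g', y⁆ = ⁅g', x⁆ := by
    intro k
    induction k with
    | zero => exact fun _ => ⟨x, Subgroup.mem_top x, rfl⟩
    | succ k ih =>
      intro hk
      obtain ⟨y, hy, hyx⟩ := ih (by omega)
      have h0 : ⁅toL 0 g', toL k y⁆ = 0 := by
        rw [lie_zero_toL hy, hyx]
        exact toL_eq_zero (lcs_le (by omega) hx)
      obtain ⟨a, ha, z, hz, rfl⟩ := hlift k (Nat.zero_le k) y hy h0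
      refine ⟨a * z * a⁻¹, conj_mem a hz, ?_⟩
      rw [← hyx]
      have hca : ⁅g', a⁆ = 1 := commutatorElement_eq_one_iff_mul_comm.2
        (Subgroup.mem_centralizer_iff.1 (Subgroup.mem_inf.1 ha).1 g' rfl)
      conv_rhs => rw [show a * z = a * z * a⁻¹ * a by group, commutatorElement_mul_right_eq_mul_conj,
        hca]
      group
  obtain ⟨y, hy, hyx⟩ := key n le_rfl
  rw [← hyx, ← lie_zero_toL hy, hclass]
  exact lie_mem_ran _ _

/-- The derivative condition. -/
theorem lie_mem_ran_of_exact [Group.IsNilpotent G] {p b : ℕ}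
    (hb : ∀ x : G, (Subgroup.centralizer ({x} : Set G)).index ≤ p ^ b) :
    ∀ v ∈ comp G 0, Nat.card (ran v) = p ^ b → ∀ h ∈ comp G 0, ⁅v, h⁆ = 0 →
      ∀ n, ∀ u ∈ layer (comp G 0) (n + 1), ⁅h, u⁆ ∈ ran v := by
  intro v hv hvb h hh hvh n u hu
  rw [layer_eq_comp] at hu
  obtain ⟨g, -, rfl⟩ := exists_of_mem_comp hv
  obtain ⟨x, hx, rfl⟩ := exists_of_mem_comp hh
  obtain ⟨y, hy, rfl⟩ := exists_of_mem_comp hu
  obtain ⟨a, ha, z, hz, rfl⟩ := (card_ran_le g).2 (by rw [hvb]; exact hb g) 0 le_rfl x hx hvh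
  rw [toL_mul (Subgroup.mem_top a) (Subgroup.mem_top z), toL_eq_zero hz, add_zero, lie_zero_toL hy]
  have hclass : toL 0 (g * y) = toL 0 g := by
    rw [toL_mul (Subgroup.mem_top g) (Subgroup.mem_top y), toL_eq_zero (lcs_le (by omega) hy),
      add_zero]
  have hlift : Lifts (g * y) 0 := (card_ran_le (g * y)).2 (by rw [hclass, hvb]; exact hb _)
  have hga : ⁅g, a⁆ = 1 := commutatorElement_eq_one_iff_mul_comm.2
    (Subgroup.mem_centralizer_iff.1 (Subgroup.mem_inf.1 ha).1 g rfl)
  have hya : ⁅y, a⁆ ∈ lcs G (n + 2) := by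
    rw [← commutatorElement_inv]
    exact inv_mem (comm_mem_succ a hy)
  have e : ⁅g * y, a⁆ = g * ⁅y, a⁆ * g⁻¹ := by
    rw [commutatorElement_mul_left_eq_conj_mul, hga, mul_one]
  have h1 := exists_lift hlift hclass (n := n + 1) (x := a) (by rw [e]; exact conj_mem g hya)
  rw [e, toL_conj g hya, ← commutatorElement_inv, toL_inv (comm_mem_succ a hy)] at h1
  exact neg_mem_iff.1 h1

theorem card_filt [Group.IsNilpotent G] {c : ℕ} (hc : lcs G c = ⊥) :
    ∀ d i, i + d = c → Nat.card (filt G i) = Nat.card (lcs G i) := by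
  intro d
  induction d with
  | zero =>
    intro i hi
    obtain rfl : i = c := by omega
    rw [filt_eq_bot hc le_rfl, AddSubgroup.card_bot, hc, Subgroup.card_bot]
  | succ d ih =>
    intro i hi
    have hinf : comp G i ⊓ filt G (i + 1) = ⊥ := by
      refine eq_bot_iff.2 fun u hu => ?_
      obtain ⟨h1, h2⟩ := AddSubgroup.mem_inf.1 hu
      have hle : filt G (i + 1) ≤ (proj (G := G) i).ker :=
        iSup₂_le fun j hj w hw => AddMonoidHom.mem_ker.2 (proj_off i j (by omega) w hw)
      rw [AddSubgroup.mem_bot, ← proj_fix i u h1]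
      exact AddMonoidHom.mem_ker.1 (hle h2)
    have h3 := card_sup_mul_inf (comp G i) (filt G (i + 1))
    rw [hinf, AddSubgroup.card_bot, mul_one, ← filt_succ i, ih (i + 1) (by omega)] at h3
    rw [h3, Subgroup.card_eq_card_quotient_mul_card_subgroup ((lcs G (i + 1)).subgroupOf (lcs G i)),
      Nat.card_congr (Subgroup.subgroupOfEquivOfLe (lcs_le (Nat.le_succ i) :
        lcs G (i + 1) ≤ lcs G i)).toEquiv]
    congr 1
    exact (Nat.card_congr (AddMonoidHom.ofInjective (DirectSum.of_injective (β := Gr G) i)).toEquiv).symm.trans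
      (Nat.card_congr Additive.toMul)

theorem card_commutator_le [hG : Group.IsNilpotent G] {T : AddSubgroup (LCL G)}
    (hT : ∀ v ∈ comp G 0, ran v ≤ T) : Nat.card (commutator G) ≤ Nat.card T := by
  obtain ⟨c, hc⟩ := Subgroup.nilpotent_iff_lowerCentralSeries.1 hG
  have hc' : lcs G (c + 1) = ⊥ := le_bot_iff.1 (hc ▸ lcs_le (Nat.le_succ c))
  have h1 : filt G 1 ≤ T := by
    refine iSup₂_le fun j hj => ?_
    obtain ⟨k, rfl⟩ : ∃ k, j = k + 1 := ⟨j - 1, by omega⟩
    rw [← layer_eq_comp]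
    refine (AddSubgroup.closure_le _).2 ?_
    rintro _ ⟨v, hv, u, -, rfl⟩
    exact hT v hv (lie_mem_ran v u)
  refine le_of_eq_of_le ?_ (AddSubgroup.card_le_of_le h1)
  rw [card_filt hc' c 1 (by omega)]
  rfl

end CfsgLib.LowerCentralBreadth76
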