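import Mathlib
import Cfsg.Prelude.Def_LocalStructure
import Cfsg.Agent.Lib.Structure.MinimalNormal
import Cfsg.Agent.Lib.Coprime.Action
import Cfsg.Agent.Lib.Techniques.Basic

set_option autoImplicit false

/-! An abelian minimal normal subgroup of prime index, and the reduction to it. -/

namespace CfsgLib.Struct76

universe u

variable {G : Type u} [Group G] [Finite G]

/-- A commutative domain of endomorphisms: an element `x` with `x ^ n = 1`, `n ∣ q ^ d - 1`, and no
proper invariant subgroup gives at most `q ^ d` elements. -/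
theorem card_le_of_irreducible {V : Type u} [AddCommGroup V] [Finite V] {q : ℕ} [Fact q.Prime]
    (hq : ∀ v : V, q • v = 0) (f : AddMonoid.End V) (d : ℕ) (hf : f ^ (q ^ d) = f)
    (hirr : ∀ W : AddSubgroup V, (∀ w ∈ W, f w ∈ W) → W = ⊥ ∨ W = ⊤) (hd : d ≠ 0) :
    Nat.card V ≤ q ^ d := by
  rcases subsingleton_or_nontrivial V with hV | hV
  · rw [Nat.card_of_subsingleton (0 : V)]; exact Nat.one_le_pow _ _ (Fact.out : q.Prime).pos
  obtain ⟨v, hv⟩ := exists_ne (0 : V)
  let R : Subring (AddMonoid.End V) := Subring.closure {f}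
  have hcomm : ∀ a ∈ R, ∀ b ∈ R, a * b = b * a := by
    have h1 : R ≤ Subring.centralizer {f} := Subring.closure_le.mpr (by simp [Subring.mem_centralizer_iff, Set.mem_centralizer_iff])
    have h2 : R ≤ Subring.centralizer (R : Set (AddMonoid.End V)) := by
      refine Subring.closure_le.mpr ?_
      intro x hx
      rw [Set.mem_singleton_iff.mp hx, SetLike.mem_coe, Subring.mem_centralizer_iff]
      intro r hr
      exact (Subring.mem_centralizer_iff.mp (h1 hr) f rfl).symm
    exact fun a ha b hb => Subring.mem_centralizer_iff.mp (h2 hb) a ha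
  letI : CommRing R :=
    { (inferInstance : Ring R) with mul_comm := fun a b => Subtype.ext (hcomm a a.2 b b.2) }
  -- nonzero elements of `R` are injective on `V`
  have hinj : ∀ r : R, r ≠ 0 → ∀ w : V, (r : AddMonoid.End V) w = 0 → w = 0 := by
    intro r hr w hw
    rcases hirr (AddMonoidHom.ker (r : AddMonoid.End V) : AddSubgroup V) (fun w hw => by
      change (r : AddMonoid.End V) (f w) = 0
      have := congrArg (fun g : AddMonoid.End V => g w) (hcomm r r.2 f (Subring.subset_closure rfl))
      simp only [AddMonoid.End.coe_mul, Function.comp_apply] at this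
      rw [this, show (r : AddMonoid.End V) w = 0 from hw, map_zero]) with h | h
    · exact (AddSubgroup.mem_bot.mp (h ▸ (show w ∈ AddMonoidHom.ker (r : AddMonoid.End V) from hw)))
    · refine absurd ?_ hr
      apply Subtype.ext
      apply AddMonoidHom.ext
      intro z
      exact (h ▸ AddSubgroup.mem_top z : z ∈ AddMonoidHom.ker (r : AddMonoid.End V))
  haveI : Nontrivial R := ⟨⟨0, 1, fun h => by
    have := congrArg (fun g : R => (g : AddMonoid.End V) v) h
    exact hv (by simpa using this.symm)⟩⟩
  haveI : NoZeroDivisors R := ⟨fun {a b} hab => by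
    by_contra! hne
    have := congrArg (fun g : R => (g : AddMonoid.End V) v) hab
    simp only [Subring.coe_mul, AddMonoid.End.coe_mul, Function.comp_apply] at this
    exact hv (hinj b hne.2 v (hinj a hne.1 _ (by simpa using this)))⟩
  haveI : IsDomain R := NoZeroDivisors.to_isDomain R
  haveI : CharP R q := by
    have h0 : (q : R) = 0 := by
      apply Subtype.ext
      apply AddMonoidHom.ext
      intro z
      exact hq z
    exact (CharP.charP_iff_prime_eq_zero (Fact.out : q.Prime)).mpr h0
  -- every element of `R` is a root of `X ^ q ^ d - X`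
  have hroot : ∀ r : R, r ^ (q ^ d) = r := by
    rintro ⟨r, hr⟩
    induction hr using Subring.closure_induction with
    | mem x hx =>
      apply Subtype.ext
      rw [SubmonoidClass.coe_pow]
      change x ^ q ^ d = x
      obtain rfl := Set.mem_singleton_iff.mp hx
      exact hf
    | zero => exact zero_pow (pow_ne_zero _ (Fact.out : q.Prime).ne_zero)
    | one => exact one_pow _
    | add x y hx hy h1 h2 =>
      change (⟨x, hx⟩ + ⟨y, hy⟩ : R) ^ q ^ d = _
      rw [add_pow_char_pow, h1, h2]; rfl
    | neg x hx h1 =>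
      change (-⟨x, hx⟩ : R) ^ q ^ d = _
      have h2 : (-⟨x, hx⟩ : R) ^ q ^ d + (⟨x, hx⟩ : R) ^ q ^ d = 0 := by
        rw [← add_pow_char_pow, neg_add_cancel, zero_pow (pow_ne_zero _ (Fact.out : q.Prime).ne_zero)]
      rw [h1] at h2
      exact eq_neg_of_add_eq_zero_left h2
    | mul x y hx hy h1 h2 =>
      change (⟨x, hx⟩ * ⟨y, hy⟩ : R) ^ q ^ d = _
      rw [mul_pow, h1, h2]; rfl
  haveI : Finite (AddMonoid.End V) := Finite.of_injective (fun g => (g : V → V)) DFunLike.coe_injective
  haveI : Fintype R := Fintype.ofFinite R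
  have hcard : Fintype.card R ≤ q ^ d := by
    classical
    have h1 : 1 < q ^ d := Nat.one_lt_pow hd (Fact.out : q.Prime).one_lt
    have hdeg : (Polynomial.X ^ q ^ d - Polynomial.X : Polynomial R).natDegree = q ^ d := by
      rw [Polynomial.natDegree_sub_eq_left_of_natDegree_lt (by simpa using h1)]
      simp
    have hne : (Polynomial.X ^ q ^ d - Polynomial.X : Polynomial R) ≠ 0 := fun h => by
      rw [h, Polynomial.natDegree_zero] at hdeg
      omega
    have hle : Finset.univ.val ≤ (Polynomial.X ^ q ^ d - Polynomial.X : Polynomial R).roots := by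
      rw [Finset.val_le_iff_val_subset]
      intro r _
      simp [Polynomial.mem_roots hne, hroot r]
    exact (Multiset.card_le_card hle).trans ((Polynomial.card_roots' _).trans hdeg.le)
  -- `R` reaches all of `V` from `v`
  let W : AddSubgroup V :=
    { carrier := {w | ∃ r : R, (r : AddMonoid.End V) v = w}
      zero_mem' := ⟨0, rfl⟩
      add_mem' := by rintro _ _ ⟨r, rfl⟩ ⟨s, rfl⟩; exact ⟨r + s, rfl⟩
      neg_mem' := by rintro _ ⟨r, rfl⟩; exact ⟨-r, rfl⟩ }
  have hW : W = ⊤ := by
    refine (hirr W ?_).resolve_left fun h => hv ?_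
    · rintro _ ⟨r, rfl⟩
      exact ⟨⟨f, Subring.subset_closure rfl⟩ * r, rfl⟩
    · exact AddSubgroup.mem_bot.mp (h ▸ (⟨1, rfl⟩ : v ∈ W))
  have hsurj : Function.Surjective fun r : R => (r : AddMonoid.End V) v := fun w =>
    (hW ▸ AddSubgroup.mem_top w : w ∈ W)
  calc Nat.card V ≤ Nat.card R := Nat.card_le_card_of_surjective _ hsurj
    _ = Fintype.card R := Nat.card_eq_fintype_card
    _ ≤ q ^ d := hcard

/-- Facts about an abelian minimal normal subgroup of prime index in a non-abelian group. -/
theorem irreducible_prime_index {p q : ℕ} [Fact p.Prime] (hq : q.Prime) (hpq : q ≠ p)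
    (hna : ¬ IsMulCommutative G) (A : Subgroup G) [A.Normal] (hA : Cfsg.IsElementaryAbelian q A)
    (hidx : A.index = p) (hmin : ∀ B : Subgroup G, B.Normal → B ≤ A → B = ⊥ ∨ B = A) :
    Nat.card ↥A = q ^ orderOf (q : ZMod p) ∧ ¬ Cfsg.IsPClosed p G ∧
      (∀ H : Subgroup G, H ≠ ⊤ → Cfsg.IsPClosed p ↥H) ∧
      ∀ (N : Subgroup G) [N.Normal], N ≠ ⊥ → Cfsg.IsPClosed p (G ⧸ N) := by
  haveI : Fact q.Prime := ⟨hq⟩
  have hp := (Fact.out : p.Prime)
  have hcomm : ∀ a ∈ A, ∀ b ∈ A, a * b = b * a := fun a ha b hb =>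
    congrArg Subtype.val (hA.1.is_comm.comm ⟨a, ha⟩ ⟨b, hb⟩)
  have hAq : IsPGroup q A := fun a => ⟨1, Subtype.ext (by simpa using hA.2 a a.2)⟩
  obtain ⟨e, he⟩ := IsPGroup.iff_card.mp hAq
  have hpA : ¬ p ∣ Nat.card A := fun h =>
    hpq ((Nat.prime_dvd_prime_iff_eq hp hq).mp (hp.dvd_of_dvd_pow (he ▸ h))).symm
  have hA1 : A ≠ ⊥ := by
    intro h
    apply hna
    have hc : Nat.card G = p := by
      rw [← A.index_mul_card, hidx, h, Subgroup.card_bot, mul_one]
    haveI := isCyclic_of_prime_card hc
    exact ⟨⟨fun a b => (IsCyclic.commGroup (α := G)).mul_comm a b⟩⟩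
  -- an element of order `p` generates `G` over `A`
  obtain ⟨x, hx⟩ := exists_prime_orderOf_dvd_card' p (hidx ▸ A.index_dvd_card)
  have hxA : x ∉ A := fun h => hpA (hx ▸ A.orderOf_dvd_natCard h)
  have hgenr : ∀ y : G, y ∉ A → A ⊔ Subgroup.zpowers y = ⊤ := by
    intro y hy
    have h1 : (A ⊔ Subgroup.zpowers y).index ∣ p :=
      hidx ▸ Subgroup.index_dvd_of_le le_sup_left
    refine Subgroup.index_eq_one.mp ((hp.eq_one_or_self_of_dvd _ h1).resolve_right fun h => hy ?_)
    have : A = A ⊔ Subgroup.zpowers y := by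
      refine Subgroup.eq_of_le_of_card_ge le_sup_left (le_of_eq ?_)
      have e1 := A.index_mul_card
      have e2 := (A ⊔ Subgroup.zpowers y).index_mul_card
      rw [hidx] at e1; rw [h] at e2
      exact Nat.eq_of_mul_eq_mul_left hp.pos (e2.trans e1.symm)
    rw [this]; exact Subgroup.mem_sup_right (Subgroup.mem_zpowers y)
  -- no nontrivial element of `A` commutes with an element outside `A`
  have hfpf : ∀ y : G, y ∉ A → A ⊓ Subgroup.centralizer {y} = ⊥ := by
    intro y hy
    have hn : (A ⊓ Subgroup.centralizer {y}).Normal := by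
      rw [← Subgroup.normalizer_eq_top_iff, eq_top_iff, ← hgenr y hy]
      have key : ∀ g ∈ A ⊔ Subgroup.zpowers y, ∀ z ∈ A ⊓ Subgroup.centralizer {y},
          g * z * g⁻¹ = z := by
        intro g hg z hz
        have : g ∈ Subgroup.centralizer {z} := by
          refine (sup_le ?_ ?_ : A ⊔ Subgroup.zpowers y ≤ Subgroup.centralizer {z}) hg
          · exact fun a ha w hw => by rw [Set.mem_singleton_iff.mp hw]; exact hcomm z hz.1 a ha
          · rw [Subgroup.zpowers_le, Subgroup.mem_centralizer_iff]
            intro w hw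
            rw [Set.mem_singleton_iff.mp hw]
            exact (Subgroup.mem_centralizer_iff.mp hz.2 y rfl).symm
        rw [← Subgroup.mem_centralizer_iff.mp this z rfl, mul_inv_cancel_right]
      intro g hg
      rw [Subgroup.mem_normalizer_iff]
      intro z
      refine ⟨fun hz => by rw [key g hg z hz]; exact hz, fun hz => ?_⟩
      have h2 := key g⁻¹ (inv_mem hg) _ hz
      have h3 : z = g * z * g⁻¹ := by simpa [mul_assoc] using h2
      rw [h3]; exact hz
    rcases hmin _ hn inf_le_left with h | h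
    · exact h
    · exfalso
      apply hna
      have hyA : ∀ a ∈ A, a * y = y * a := fun a ha => by
        have h' : a ∈ A ⊓ Subgroup.centralizer {y} := h.symm ▸ ha
        exact (Subgroup.mem_centralizer_iff.mp h'.2 y rfl).symm
      have hall : ∀ g : G, g ∈ A ⊔ Subgroup.zpowers y := fun g => hgenr y hy ▸ Subgroup.mem_top g
      refine ⟨⟨fun g g' => ?_⟩⟩
      obtain ⟨a, ha, b, hb, rfl⟩ := Subgroup.mem_sup_of_normal_left.mp (hall g)
      obtain ⟨a', ha', b', hb', rfl⟩ := Subgroup.mem_sup_of_normal_left.mp (hall g')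
      obtain ⟨k, rfl⟩ := Subgroup.mem_zpowers_iff.mp hb
      obtain ⟨k', rfl⟩ := Subgroup.mem_zpowers_iff.mp hb'
      exact (((show Commute a a' from hcomm a ha a' ha').mul_right
          ((show Commute a y from hyA a ha).zpow_right k')).mul_left
        (((show Commute a' y from hyA a' ha').zpow_right k).symm.mul_right
          ((Commute.refl y).zpow_zpow k k'))).eq
  -- the Sylow subgroup `⟨x⟩`
  set P := Subgroup.zpowers x
  have hPc : Nat.card P = p := by rw [Nat.card_zpowers, hx]
  have hfac : (Nat.card G).factorization p = 1 := by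
    rw [← A.index_mul_card, hidx, Nat.factorization_mul hp.ne_zero Nat.card_pos.ne']
    simp [hp.factorization_self, Nat.factorization_eq_zero_of_not_dvd hpA]
  let S : Sylow p G := Sylow.ofCard P (by rw [hPc, hfac, pow_one])
  have hPA : ∀ y ∈ P, y ∈ A → y = 1 := by
    intro y hy hyA
    have := Nat.dvd_gcd (hPc ▸ P.orderOf_dvd_natCard hy) (A.orderOf_dvd_natCard hyA)
    rw [(hp.coprime_iff_not_dvd.mpr hpA).gcd_eq_one] at this
    exact orderOf_eq_one_iff.mp (Nat.dvd_one.mp this)
  -- its normalizer is itself, so the index is `1` modulo `p`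
  have hNP : Subgroup.normalizer (P : Set G) = P := by
    refine le_antisymm (fun g hg => ?_) Subgroup.le_normalizer
    obtain ⟨a, ha, b, hb, rfl⟩ := Subgroup.mem_sup_of_normal_left.mp
      (hgenr x hxA ▸ Subgroup.mem_top g : g ∈ A ⊔ P)
    refine mul_mem ?_ hb
    have haN : a ∈ Subgroup.normalizer (P : Set G) := by
      simpa using mul_mem hg (inv_mem (Subgroup.le_normalizer hb))
    have h1 : a * x * a⁻¹ * x⁻¹ ∈ P :=
      mul_mem ((Subgroup.mem_normalizer_iff.mp haN x).mp (Subgroup.mem_zpowers x))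
        (inv_mem (Subgroup.mem_zpowers x))
    have h2 : a * x * a⁻¹ * x⁻¹ ∈ A := by
      simpa [mul_assoc] using mul_mem ha (‹A.Normal›.conj_mem _ (inv_mem ha) x)
    have h3 := hPA _ h1 h2
    rw [mul_inv_eq_one, mul_inv_eq_iff_eq_mul] at h3
    have h4 : a ∈ A ⊓ Subgroup.centralizer {x} :=
      ⟨ha, Subgroup.mem_centralizer_iff.mpr fun w hw => by rw [Set.mem_singleton_iff.mp hw, h3]⟩
    rw [hfpf x hxA, Subgroup.mem_bot] at h4
    rw [h4]; exact one_mem _
  have hnp : Nat.card (Sylow p G) = q ^ e := by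
    rw [S.card_eq_index_normalizer]
    change (Subgroup.normalizer (P : Set G)).index = _
    rw [hNP, ← he]
    refine Nat.eq_of_mul_eq_mul_right hp.pos ?_
    conv_lhs => arg 2; rw [← hPc]
    rw [P.index_mul_card, ← A.index_mul_card, hidx, mul_comm]
  have he0 : e ≠ 0 := fun h => hA1 (Subgroup.card_eq_one.mp (by rw [he, h, pow_zero]))
  set d := orderOf (q : ZMod p)
  have hde : d ∣ e := by
    rw [orderOf_dvd_iff_pow_eq_one, ← Nat.cast_pow, ← hnp, ← Nat.cast_one,
      ZMod.natCast_eq_natCast_iff]
    exact card_sylow_modEq_one p G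
  have hd0 : d ≠ 0 := fun h => he0 (Nat.eq_zero_of_zero_dvd (h ▸ hde))
  refine ⟨?_, fun hcl => ?_, fun H hH => ?_, fun N hN hN1 => ?_⟩
  · -- the order of `A`
    refine le_antisymm ?_ (he ▸ Nat.pow_le_pow_right hq.pos (Nat.le_of_dvd (Nat.pos_of_ne_zero he0) hde))
    letI : CommGroup A := { (inferInstance : Group A) with
      mul_comm := fun a b => hA.1.is_comm.comm a b }
    let f : AddMonoid.End (Additive A) :=
      { toFun := fun a => Additive.ofMul ⟨x * (Additive.toMul a : A) * x⁻¹,
          ‹A.Normal›.conj_mem _ (Additive.toMul a).2 x⟩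
        map_zero' := by apply Additive.toMul.injective; ext; simp
        map_add' := fun a b => by apply Additive.toMul.injective; ext; simp [mul_assoc] }
    have hfp : ∀ (k : ℕ) (a : Additive A),
        ((Additive.toMul ((f ^ k) a) : A) : G) = x ^ k * (Additive.toMul a : A) * (x ^ k)⁻¹ := by
      intro k
      induction k with
      | zero => intro a; simp
      | succ k ih =>
        intro a
        rw [pow_succ f, AddMonoid.End.coe_mul, Function.comp_apply, ih, pow_succ x]
        change x ^ k * (x * (Additive.toMul a : A) * x⁻¹) * (x ^ k)⁻¹ = _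
        group
    have hf : f ^ (q ^ d) = f := by
      refine DFunLike.ext _ _ fun a => ?_
      apply Additive.toMul.injective
      apply Subtype.ext
      have h1 : q ^ d ≡ 1 [MOD p] := by
        rw [← ZMod.natCast_eq_natCast_iff, Nat.cast_pow, Nat.cast_one, pow_orderOf_eq_one]
      have h2 : x ^ q ^ d = x ^ 1 := pow_eq_pow_iff_modEq.mpr (hx ▸ h1)
      rw [hfp, h2, pow_one]
      rfl
    have hirr : ∀ W : AddSubgroup (Additive A), (∀ w ∈ W, f w ∈ W) → W = ⊥ ∨ W = ⊤ := by
      intro W hW
      let B : Subgroup G := (AddSubgroup.toSubgroup' W).map A.subtype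
      have hmemB : ∀ a : A, (a : G) ∈ B ↔ Additive.ofMul a ∈ W := fun a =>
        ⟨fun ⟨a', ha', e⟩ => A.subtype_injective e ▸ ha', fun ha => ⟨a, ha, rfl⟩⟩
      have hBA : B ≤ A := Subgroup.map_subtype_le _
      have key : ∀ g ∈ A ⊔ Subgroup.zpowers x, g ∈ Subgroup.normalizer (B : Set G) := by
        refine fun g hg => (sup_le ?_ ?_ : A ⊔ Subgroup.zpowers x ≤ _) hg
        · intro a ha
          have kk : ∀ a ∈ A, ∀ b ∈ B, a * b * a⁻¹ ∈ B := fun a ha b hb => by
            rwa [hcomm a ha b (hBA hb), mul_inv_cancel_right]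
          rw [Subgroup.mem_normalizer_iff]
          exact fun b => ⟨kk a ha b, fun hb => by simpa [mul_assoc] using kk a⁻¹ (inv_mem ha) _ hb⟩
        · rw [Subgroup.zpowers_le, ← CfsgLib.Techniques.map_conj_eq_self_iff]
          refine Subgroup.eq_of_le_of_card_ge ?_ ?_
          · rintro _ ⟨b, hb, rfl⟩
            exact (hmemB ⟨_, ‹A.Normal›.conj_mem b (hBA hb) x⟩).mpr
              (hW _ ((hmemB ⟨b, hBA hb⟩).mp hb))
          · exact (CfsgLib.Techniques.card_map_conj B x).ge
      have hB : B.Normal := Subgroup.normalizer_eq_top_iff.mp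
        (top_unique fun g _ => key g (hgenr x hxA ▸ Subgroup.mem_top g))
      rcases hmin B hB hBA with h | h
      · refine Or.inl (eq_bot_iff.mpr fun w hw => ?_)
        have := (hmemB (Additive.toMul w)).mpr hw
        rw [h, Subgroup.mem_bot] at this
        exact AddSubgroup.mem_bot.mpr (Additive.toMul.injective (Subtype.ext this))
      · refine Or.inr (top_unique fun w _ => ?_)
        exact (hmemB (Additive.toMul w)).mp (h.symm ▸ (Additive.toMul w).2)
    have := card_le_of_irreducible (q := q) (fun v => by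
      apply Additive.toMul.injective; apply Subtype.ext; simpa using hA.2 _ (Additive.toMul v).2)
      f d hf hirr hd0
    rwa [Nat.card_congr Additive.ofMul.symm] at this
    -- not `p`-closed
  · haveI : (P : Subgroup G).Normal := hcl S
    have h := Subgroup.normalizer_eq_top_iff.mpr this
    rw [hNP] at h
    have hc : Nat.card G = p := by rw [← Subgroup.card_top, ← h, hPc]
    have := A.index_mul_card
    rw [hidx, hc, he] at this
    exact hA1 (Subgroup.card_eq_one.mp (he ▸ (Nat.mul_eq_left hp.ne_zero).mp this))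
  · -- proper subgroups
    intro T
    by_cases hHA : H ≤ A
    · have : (T : Subgroup H) = ⊥ := by
        by_contra hne
        obtain ⟨k, hk⟩ := IsPGroup.iff_card.mp T.2
        rcases Nat.eq_zero_or_pos k with rfl | hk0
        · exact hne (Subgroup.card_eq_one.mp (by rw [hk, pow_zero]))
        · exact hpA ((dvd_pow_self p hk0.ne').trans
            ((hk ▸ Subgroup.card_subgroup_dvd_card _).trans (Subgroup.card_dvd_of_le hHA)))
      rw [this]; infer_instance
    · obtain ⟨y, hyH, hyA⟩ := SetLike.not_le_iff_exists.mp hHA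
      have htop : A ⊔ H = ⊤ :=
        top_unique (hgenr y hyA ▸ sup_le_sup_left (Subgroup.zpowers_le.mpr hyH) A)
      have hn : (H ⊓ A).Normal := by
        rw [← Subgroup.normalizer_eq_top_iff, eq_top_iff, ← htop, sup_le_iff]
        refine ⟨fun a ha => ?_, fun h hh => ?_⟩
        · have kk : ∀ a ∈ A, ∀ b ∈ H ⊓ A, a * b * a⁻¹ ∈ H ⊓ A := fun a ha b hb => by
            rwa [hcomm a ha b hb.2, mul_inv_cancel_right]
          rw [Subgroup.mem_normalizer_iff]
          exact fun b => ⟨kk a ha b, fun hb => by simpa [mul_assoc] using kk a⁻¹ (inv_mem ha) _ hb⟩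
        · have kk : ∀ h ∈ H, ∀ b ∈ H ⊓ A, h * b * h⁻¹ ∈ H ⊓ A := fun h hh b hb =>
            Subgroup.mem_inf.mpr ⟨H.mul_mem (H.mul_mem hh hb.1) (H.inv_mem hh), ‹A.Normal›.conj_mem b hb.2 h⟩
          rw [Subgroup.mem_normalizer_iff]
          exact fun b => ⟨kk h hh b, fun hb => by simpa [mul_assoc] using kk h⁻¹ (inv_mem hh) _ hb⟩
      rcases hmin _ hn inf_le_right with h | h
      · have hHp : IsPGroup p H := by
          have hd : Nat.card H ∣ p := by
            have h1 := A.relIndex_dvd_index_of_normal (K := H)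
            have h2 : A.relIndex H = Nat.card H := by
              rw [← Subgroup.inf_relIndex_left, h, Subgroup.relIndex_bot_left]
            rwa [h2, hidx] at h1
          rcases hp.eq_one_or_self_of_dvd _ hd with h' | h'
          · exact IsPGroup.of_card (n := 0) (by rw [h', pow_zero])
          · exact IsPGroup.of_card (n := 1) (by rw [h', pow_one])
        have : (T : Subgroup H) = ⊤ :=
          (T.3 (hHp.to_subgroup ⊤) le_top).symm
        rw [this]; infer_instance
      · exact absurd (top_unique (htop ▸ sup_le (h ▸ inf_le_left) le_rfl)) hH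
  · -- quotients
    intro T
    have hAN : A ≤ N := by
      rcases hmin (A ⊓ N) inferInstance inf_le_left with h | h
      · exfalso
        obtain ⟨y, hy, hy1⟩ := (Subgroup.ne_bot_iff_exists_ne_one.mp hN1 |>.elim fun z hz =>
          ⟨(z : G), z.2, fun e => hz (Subtype.ext e)⟩ : ∃ y ∈ N, y ≠ 1)
        have hyA : y ∉ A := fun hyA => hy1 (Subgroup.mem_bot.mp (h ▸ ⟨hyA, hy⟩))
        have h2 := hfpf y hyA
        obtain ⟨a, ha, ha1⟩ := (Subgroup.ne_bot_iff_exists_ne_one.mp hA1).elim fun z hz =>
          (⟨(z : G), z.2, fun e => hz (Subtype.ext e)⟩ : ∃ a ∈ A, a ≠ 1)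
        apply ha1
        rw [← Subgroup.mem_bot, ← h2]
        exact ⟨ha, Subgroup.mem_centralizer_iff.mpr fun w hw => by
          rw [Set.mem_singleton_iff.mp hw]
          exact (Subgroup.commute_of_normal_of_disjoint A N ‹A.Normal› hN (disjoint_iff.mpr h)
            a y ha hy).eq.symm⟩
      · exact h ▸ inf_le_right
    have hp' : IsPGroup p (G ⧸ N) := by
      rcases hp.eq_one_or_self_of_dvd _ (hidx ▸ Subgroup.index_dvd_of_le hAN) with h' | h'
      · exact IsPGroup.of_card (n := 0) (by rw [← Subgroup.index_eq_card, h', pow_zero])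
      · exact IsPGroup.of_card (n := 1) (by rw [← Subgroup.index_eq_card, h', pow_one])
    have : (T : Subgroup (G ⧸ N)) = ⊤ := (T.3 (hp'.to_subgroup ⊤) le_top).symm
    rw [this]; infer_instance

/-- A minimal normal `p'`-subgroup of index `p` is elementary abelian when the Sylow `p`-subgroup
is normal in every proper subgroup containing it. -/
theorem elementary_of_subgroups {p : ℕ} [Fact p.Prime] (N : Subgroup G) [N.Normal]
    (hN : CfsgLib.Structure.IsMinNormal N) (hpN : ¬ p ∣ Nat.card N) (P : Subgroup G)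
    (hP : IsPGroup p P) (hPN : P ⊔ N = ⊤) (hnn : ¬ P.Normal)
    (hsub : ∀ H : Subgroup G, H ≠ ⊤ → P ≤ H → H ≤ Subgroup.normalizer (P : Set G)) :
    ∃ q, q.Prime ∧ q ≠ p ∧ Cfsg.IsElementaryAbelian q N := by
  have hp := (Fact.out : p.Prime)
  have hPle : P ≤ Subgroup.normalizer (N : Set G) := by
    rw [Subgroup.normalizer_eq_top_iff.mpr inferInstance]; exact le_top
  obtain ⟨k, hk⟩ := IsPGroup.iff_card.mp hP
  have hcop : (Nat.card P).Coprime (Nat.card N) :=
    hk ▸ (hp.coprime_iff_not_dvd.mpr hpN).pow_left k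
  have hsolv : Group.IsSolvable P := by
    haveI : Group.IsNilpotent P := hP.isNilpotent
    infer_instance
  -- some invariant Sylow subgroup of `N` is all of `N`
  obtain ⟨q, hq, hqN, hN'⟩ : ∃ q, q.Prime ∧ q ∣ Nat.card N ∧ IsPGroup q N := by
    by_contra! hall
    apply hnn
    rw [← Subgroup.normalizer_eq_top_iff, eq_top_iff, ← hPN, sup_le_iff]
    refine ⟨Subgroup.le_normalizer, ?_⟩
    have key : ∀ (q : ℕ) [Fact q.Prime], q ∣ Nat.card N →
        ∃ Q : Sylow q N, ((Q : Subgroup N).map N.subtype) ≤ Subgroup.normalizer (P : Set G) := by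
      intro q _ hqd
      obtain ⟨Q, hQ⟩ := CfsgLib.Coprime.exists_invariant_sylow P N hPle hcop (Or.inl hsolv) q
      refine ⟨Q, le_sup_right.trans (hsub (P ⊔ (Q : Subgroup N).map N.subtype) (fun htop => ?_) le_sup_left)⟩
      apply hall q (Fact.out) hqd
      have hle : N ≤ (Q : Subgroup N).map N.subtype := by
        intro n hn
        have hn' : n ∈ P ⊔ (Q : Subgroup N).map N.subtype := htop ▸ Subgroup.mem_top n
        have hset : n ∈ ((P ⊔ (Q : Subgroup N).map N.subtype : Subgroup G) : Set G) := hn'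
        rw [Subgroup.coe_mul_of_left_le_normalizer_right _ _ hQ] at hset
        obtain ⟨a, ha, b, hb, e⟩ := hset
        change a * b = n at e
        have haN : a ∈ N := by
          have : a = n * b⁻¹ := by rw [← e, mul_inv_cancel_right]
          rw [this]; exact mul_mem hn (inv_mem (Subgroup.map_subtype_le _ hb))
        have ha1 : a = 1 := orderOf_eq_one_iff.mp (Nat.eq_one_of_dvd_coprimes hcop
          (P.orderOf_dvd_natCard ha) (N.orderOf_dvd_natCard haN))
        rw [← e, ha1, one_mul]; exact hb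
      exact (Q.2.map N.subtype).to_le hle
    -- the Sylow subgroups generate `N`
    let H : Subgroup N := (Subgroup.normalizer (P : Set G)).comap N.subtype
    have hH : H = ⊤ := by
      refine Subgroup.eq_top_of_card_eq H (Nat.eq_of_factorization_eq Nat.card_pos.ne'
        Nat.card_pos.ne' fun q => le_antisymm
          ((Nat.factorization_le_iff_dvd Nat.card_pos.ne' Nat.card_pos.ne').mpr
            H.card_subgroup_dvd_card q) ?_)
      by_cases hqp : q.Prime
      swap; · simp [Nat.factorization_eq_zero_of_not_prime _ hqp]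
      by_cases hqd : q ∣ Nat.card N
      swap; · simp [Nat.factorization_eq_zero_of_not_dvd hqd]
      haveI : Fact q.Prime := ⟨hqp⟩
      obtain ⟨Q, hQ⟩ := key q hqd
      have hQH : (Q : Subgroup N) ≤ H := fun x hx => hQ ⟨x, hx, rfl⟩
      have := Subgroup.card_dvd_of_le hQH
      rw [Q.card_eq_multiplicity] at this
      exact (hqp.pow_dvd_iff_le_factorization Nat.card_pos.ne').mp this
    intro n hn
    have := Subgroup.mem_top (⟨n, hn⟩ : N)
    rw [← hH] at this
    exact this
  haveI : Fact q.Prime := ⟨hq⟩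
  have hqp : q ≠ p := fun e => hpN (e ▸ hqN)
  -- a minimal normal `q`-subgroup is elementary abelian
  haveI : Nontrivial N := (Subgroup.nontrivial_iff_ne_bot N).mpr hN.1
  have hZ : (Subgroup.center N).map N.subtype = N :=
    hN.eq_of_le inferInstance (Subgroup.map_subtype_le _) (by
      rw [ne_eq, Subgroup.map_eq_bot_iff_of_injective _ N.subtype_injective]
      exact (Subgroup.nontrivial_iff_ne_bot _).mp hN'.center_nontrivial)
  have hZtop : Subgroup.center N = ⊤ := Subgroup.map_injective N.subtype_injective (by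
    rw [hZ, ← MonoidHom.range_eq_map, Subgroup.range_subtype])
  have hc : ∀ a b : N, a * b = b * a := fun a b =>
    Subgroup.mem_center_iff.mp (hZtop ▸ Subgroup.mem_top b) a
  letI : CommGroup N := { (inferInstance : Group N) with mul_comm := hc }
  -- the elements of order dividing `q`
  let Ω : Subgroup N :=
    { carrier := {a : N | a ^ q = 1}
      one_mem' := one_pow q
      mul_mem' := fun {a b} ha hb => by
        change (a * b) ^ q = 1
        rw [mul_pow, show a ^ q = 1 from ha, show b ^ q = 1 from hb, one_mul]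
      inv_mem' := fun {a} ha => by
        change a⁻¹ ^ q = 1
        rw [inv_pow, show a ^ q = 1 from ha, inv_one] }
  haveI : Ω.Characteristic := Subgroup.characteristic_iff_le_comap.mpr fun φ a ha => by
    change φ a ^ q = 1
    rw [← map_pow, show a ^ q = 1 from ha, map_one]
  have hΩ : Ω.map N.subtype = N := hN.eq_of_le inferInstance (Subgroup.map_subtype_le _) (by
    rw [ne_eq, Subgroup.map_eq_bot_iff_of_injective _ N.subtype_injective]
    obtain ⟨z, hz⟩ := exists_prime_orderOf_dvd_card' q hqN
    intro h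
    have : z ∈ Ω := by change z ^ q = 1; rw [← hz, pow_orderOf_eq_one]
    rw [h, Subgroup.mem_bot] at this
    rw [this, orderOf_one] at hz
    exact hq.ne_one hz.symm)
  refine ⟨q, hq, hqp, ⟨⟨hc⟩⟩, fun a ha => ?_⟩
  obtain ⟨b, hb, e⟩ := hΩ.symm ▸ ha
  rw [← e, ← map_pow, show b ^ q = 1 from hb, map_one]

/-- A `p`-group without proper non-trivial normal subgroups has order `p`. -/
theorem card_eq_prime_of_forall_normal {p : ℕ} [Fact p.Prime] (hG : IsPGroup p G) [Nontrivial G]
    (h : ∀ K : Subgroup G, K.Normal → K = ⊥ ∨ K = ⊤) : Nat.card G = p := by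
  haveI := hG.center_nontrivial
  have hc : Subgroup.center G = ⊤ := (h _ inferInstance).resolve_left
    ((Subgroup.nontrivial_iff_ne_bot _).mp inferInstance)
  obtain ⟨k, hk0, hk⟩ := hG.nontrivial_iff_card.mp inferInstance
  obtain ⟨x, hx⟩ := exists_prime_orderOf_dvd_card' p (hk ▸ dvd_pow_self p hk0.ne')
  have hn : (Subgroup.zpowers x).Normal := ⟨fun y hy g => by
    have hyc : y ∈ Subgroup.center G := hc ▸ Subgroup.mem_top y
    rwa [(Subgroup.mem_center_iff.mp hyc g), mul_inv_cancel_right]⟩
  rcases h _ hn with h' | h'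
  · rw [Subgroup.zpowers_eq_bot.mp h', orderOf_one] at hx
    exact absurd hx.symm (Fact.out : p.Prime).ne_one
  · rw [← Subgroup.card_top, ← h', Nat.card_zpowers, hx]

/-- The order of `P ⊔ N` for a `p`-group and a normal `p'`-group. -/
theorem card_sup_pGroup {p : ℕ} [Fact p.Prime] (P N : Subgroup G) [N.Normal] (hP : IsPGroup p P)
    (hN : ¬ p ∣ Nat.card N) : Nat.card (P ⊔ N : Subgroup G) = Nat.card P * Nat.card N := by
  obtain ⟨k, hk⟩ := IsPGroup.iff_card.mp hP
  have h : P ≤ Subgroup.normalizer (N : Set G) := by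
    rw [Subgroup.normalizer_eq_top_iff.mpr inferInstance]; exact le_top
  have h2 : N ⊓ P = ⊥ := Subgroup.inf_eq_bot_of_coprime
    (hk ▸ (((Fact.out : p.Prime).coprime_iff_not_dvd.mpr hN).pow_left k).symm)
  rw [← CfsgLib.Coprime.card_sup_mul_card_inf h, h2, Subgroup.card_bot, mul_one]

/-- The conclusion shared by the minimal non-`p`-closed and non-`p`-exponent-closed statements. -/
theorem structure_of_prime_sylow {p : ℕ} [Fact p.Prime] (N : Subgroup G) [N.Normal]
    (hN : CfsgLib.Structure.IsMinNormal N) (hpN : ¬ p ∣ Nat.card N) (P : Subgroup G)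
    (hP : Nat.card P = p) (hPN : P ⊔ N = ⊤) (hnn : ¬ P.Normal) (hna : ¬ IsMulCommutative G)
    (hsub : ∀ H : Subgroup G, H ≠ ⊤ → P ≤ H → H ≤ Subgroup.normalizer (P : Set G)) :
    ∃ q : ℕ, q.Prime ∧ q ≠ p ∧ Nat.card G = p * q ^ orderOf (q : ZMod p) ∧
      ∃ A : Subgroup G, A.Normal ∧ Nat.card ↥A = q ^ orderOf (q : ZMod p) ∧
        Cfsg.IsElementaryAbelian q A ∧ ∀ B : Subgroup G, B.Normal → B ≤ A → B = ⊥ ∨ B = A := by
  have hPp : IsPGroup p P := IsPGroup.of_card (n := 1) (by rw [hP, pow_one])
  obtain ⟨q, hq, hqp, hA⟩ := elementary_of_subgroups N hN hpN P hPp hPN hnn hsub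
  have hc := card_sup_pGroup P N hPp hpN
  rw [hPN, Subgroup.card_top, hP] at hc
  have hidx : N.index = p := Nat.eq_of_mul_eq_mul_right Nat.card_pos (N.index_mul_card.trans hc)
  obtain ⟨hcard, -⟩ := irreducible_prime_index hq hqp hna N hA hidx hN.2.2
  exact ⟨q, hq, hqp, by rw [hc, hcard], N, inferInstance, hcard, hA, hN.2.2⟩

end CfsgLib.Struct76
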