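import Mathlib
import Cfsg.Agent.Lib.Coprime.Commutator

/-!
# Minimal covers by nilpotent subgroups
-/

set_option autoImplicit false

namespace CfsgLib.Struct76

/-- `𝓐` is a cover by proper subgroups with the least number of members, all of them nilpotent. -/
def MinNilCover {G : Type*} [Group G] (𝓐 : Finset (Subgroup G)) : Prop :=
  ((∀ A ∈ 𝓐, A ≠ ⊤) ∧ (∀ g : G, ∃ A ∈ 𝓐, g ∈ A)) ∧
    (∀ 𝓑 : Finset (Subgroup G),
      (∀ A ∈ 𝓑, A ≠ ⊤) ∧ (∀ g : G, ∃ A ∈ 𝓑, g ∈ A) → 𝓐.card ≤ 𝓑.card) ∧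
    (∀ A ∈ 𝓐, Group.IsNilpotent ↥A)

variable {G : Type*} [Group G]

/-- A proper subgroup contains at most one member of a minimal cover. -/
theorem MinNilCover.eq_of_le {𝓐 : Finset (Subgroup G)} (h : MinNilCover 𝓐) {M : Subgroup G}
    (hM : M ≠ ⊤) {A B : Subgroup G} (hA : A ∈ 𝓐) (hB : B ∈ 𝓐) (hAM : A ≤ M) (hBM : B ≤ M) :
    A = B := by
  classical
  by_contra hne
  have h2 : B ∈ 𝓐.erase A := Finset.mem_erase.2 ⟨Ne.symm hne, hB⟩
  have hle := h.2.1 (insert M ((𝓐.erase A).erase B)) ⟨?_, ?_⟩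
  · have := Finset.card_insert_le M ((𝓐.erase A).erase B)
    rw [Finset.card_erase_of_mem h2, Finset.card_erase_of_mem hA] at this
    have : 2 ≤ 𝓐.card := Finset.one_lt_card.2 ⟨A, hA, B, hB, hne⟩
    omega
  · intro C hC
    rcases Finset.mem_insert.1 hC with rfl | hC
    · exact hM
    · exact h.1.1 C (Finset.mem_of_mem_erase (Finset.mem_of_mem_erase hC))
  · intro g
    obtain ⟨C, hC, hg⟩ := h.1.2 g
    by_cases hCA : C = A
    · exact ⟨M, Finset.mem_insert_self _ _, hAM (hCA ▸ hg)⟩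
    by_cases hCB : C = B
    · exact ⟨M, Finset.mem_insert_self _ _, hBM (hCB ▸ hg)⟩
    exact ⟨C, Finset.mem_insert_of_mem (Finset.mem_erase.2 ⟨hCB, Finset.mem_erase.2 ⟨hCA, hC⟩⟩), hg⟩

/-- If every nilpotent subgroup containing `x` centralises `x` and lies in a proper subgroup `M`,
and likewise lies in `M` for a `y` not commuting with `x`, there is no nilpotent minimal cover. -/
theorem MinNilCover.false_of_pair {𝓐 : Finset (Subgroup G)} (h : MinNilCover 𝓐) {M : Subgroup G}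
    (hM : M ≠ ⊤) {x y : G}
    (hx : ∀ A : Subgroup G, Group.IsNilpotent A → x ∈ A →
      A ≤ M ∧ A ≤ Subgroup.centralizer ({x} : Set G))
    (hy : ∀ A : Subgroup G, Group.IsNilpotent A → y ∈ A → A ≤ M)
    (hxy : y * x ≠ x * y) : False := by
  obtain ⟨A, hA, hxA⟩ := h.1.2 x
  obtain ⟨B, hB, hyB⟩ := h.1.2 y
  have hax := hx A (h.2.2 A hA) hxA
  have e := h.eq_of_le hM hA hB hax.1 (hy B (h.2.2 B hB) hyB)
  exact hxy (Subgroup.mem_centralizer_singleton_iff.1 (hax.2 (e ▸ hyB)))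

variable [Finite G]

/-- With abelian Sylow `p`-subgroups, nilpotent subgroups centralise their `p`-elements. -/
theorem le_centralizer_of_abelian_sylow {p : ℕ} [Fact p.Prime] (P : Sylow p G)
    (hab : IsMulCommutative ↥(P : Subgroup G)) {A : Subgroup G} (hA : Group.IsNilpotent A)
    {x : G} (hxA : x ∈ A) (hx : ∃ k : ℕ, x ^ p ^ k = 1) :
    A ≤ Subgroup.centralizer ({x} : Set G) := by
  haveI := hA
  have hnormal : ∀ {q : ℕ} (_ : Fact q.Prime) (Q : Sylow q A), (Q : Subgroup A).Normal :=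
    fun {q} _ Q => Sylow.normal_of_normalizerCondition Group.normalizerCondition_of_isNilpotent Q
  obtain ⟨k, hk⟩ := hx
  have hzp : IsPGroup p (Subgroup.zpowers (⟨x, hxA⟩ : A)) := by
    obtain ⟨j, -, hj⟩ := (Nat.dvd_prime_pow Fact.out).1
      (orderOf_dvd_of_pow_eq_one (show (⟨x, hxA⟩ : A) ^ p ^ k = 1 from Subtype.ext hk))
    exact IsPGroup.of_card (n := j) (by rw [Nat.card_zpowers, hj])
  obtain ⟨Q₀, hQ₀⟩ := hzp.exists_le_sylow
  have hxQ₀ : (⟨x, hxA⟩ : A) ∈ (Q₀ : Subgroup A) := hQ₀ (Subgroup.mem_zpowers _)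
  refine CfsgLib.Coprime.le_of_forall_sylow_le fun q hq Q => ?_
  haveI := Fact.mk hq
  rintro _ ⟨a, ha, rfl⟩
  rw [Subgroup.mem_centralizer_singleton_iff]
  by_cases hqp : q = p
  · subst hqp
    haveI := hnormal inferInstance Q
    haveI := Sylow.unique_of_normal Q inferInstance
    have hQQ : Q₀ = Q := Subsingleton.elim _ _
    rw [hQQ] at hxQ₀
    obtain ⟨R, hR⟩ := (Q.2.map A.subtype).exists_le_sylow
    haveI : IsMulCommutative ↥(R : Subgroup G) := by
      obtain ⟨g, rfl⟩ := MulAction.exists_smul_eq G P R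
      exact ⟨⟨fun u v => Subtype.ext (by
        obtain ⟨u, hu⟩ := u
        obtain ⟨v, hv⟩ := v
        rw [Sylow.coe_subgroup_smul] at hu hv
        obtain ⟨u', hu', rfl⟩ := hu
        obtain ⟨v', hv', rfl⟩ := hv
        have e := congrArg Subtype.val (hab.is_comm.comm ⟨u', hu'⟩ ⟨v', hv'⟩)
        simp only [Subgroup.coe_mul] at e ⊢
        show g * u' * g⁻¹ * (g * v' * g⁻¹) = g * v' * g⁻¹ * (g * u' * g⁻¹)
        rw [show g * u' * g⁻¹ * (g * v' * g⁻¹) = g * (u' * v') * g⁻¹ by group, e]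
        group)⟩⟩
    have := congrArg Subtype.val (mul_comm' (⟨_, hR ⟨a, ha, rfl⟩⟩ : ↥(R : Subgroup G))
      ⟨_, hR ⟨_, hxQ₀, rfl⟩⟩)
    simpa using this
  · have := hnormal inferInstance Q
    have := hnormal inferInstance Q₀
    have hc := Subgroup.commute_of_normal_of_disjoint _ _ inferInstance inferInstance
      (IsPGroup.disjoint_of_ne q p hqp _ _ Q.2 Q₀.2) a ⟨x, hxA⟩ ha hxQ₀
    exact congrArg Subtype.val hc.eq

namespace MinNilCover

variable {𝓐 : Finset (Subgroup G)} {p : ℕ} [Fact p.Prime] {P : Sylow p G}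

/-- A nontrivial element of an abelian Sylow subgroup lies in only one member. -/
theorem unique (h : MinNilCover 𝓐) (hZ : Subgroup.center G = ⊥)
    (hab : IsMulCommutative ↥(P : Subgroup G)) {z : G} (hz : ∃ k : ℕ, z ^ p ^ k = 1) (hz1 : z ≠ 1)
    {A B : Subgroup G} (hA : A ∈ 𝓐) (hB : B ∈ 𝓐) (hzA : z ∈ A) (hzB : z ∈ B) : A = B := by
  refine h.eq_of_le ?_ hA hB (le_centralizer_of_abelian_sylow P hab (h.2.2 A hA) hzA hz)
    (le_centralizer_of_abelian_sylow P hab (h.2.2 B hB) hzB hz)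
  intro e
  refine hz1 (Subgroup.mem_bot.1 (hZ ▸ Subgroup.mem_center_iff.2 fun g => ?_))
  exact Subgroup.mem_centralizer_singleton_iff.1 (e ▸ Subgroup.mem_top g)

omit [Fact p.Prime] in
theorem pow_eq_one_of_mem (P : Sylow p G) {z : G} (hz : z ∈ (P : Subgroup G)) :
    ∃ k : ℕ, z ^ p ^ k = 1 := by
  obtain ⟨k, hk⟩ := P.2 ⟨z, hz⟩
  exact ⟨k, congrArg Subtype.val hk⟩

/-- A cyclic, or abelian and not elementary abelian, Sylow subgroup lies in a member. -/
theorem exists_sylow_le (h : MinNilCover 𝓐) (hZ : Subgroup.center G = ⊥)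
    (hab : IsMulCommutative ↥(P : Subgroup G))
    (hP : IsCyclic ↥(P : Subgroup G) ∨ ∃ w ∈ (P : Subgroup G), w ^ p ≠ 1) :
    ∃ A ∈ 𝓐, (P : Subgroup G) ≤ A := by
  have hcomm : ∀ u ∈ (P : Subgroup G), ∀ v ∈ (P : Subgroup G), Commute u v := fun u hu v hv =>
    congrArg Subtype.val (hab.is_comm.comm ⟨u, hu⟩ ⟨v, hv⟩)
  rcases hP with hcyc | ⟨w, hw, hwp⟩
  · obtain ⟨g, hg⟩ := IsCyclic.exists_generator (α := ↥(P : Subgroup G))
    obtain ⟨A, hA, hgA⟩ := h.1.2 g
    refine ⟨A, hA, fun x hx => ?_⟩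
    obtain ⟨i, hi⟩ := hg ⟨x, hx⟩
    have : (g : G) ^ i = x := congrArg Subtype.val hi
    exact this ▸ A.zpow_mem hgA i
  obtain ⟨A, hA, hwA⟩ := h.1.2 w
  -- every element of order `p` of `P` lies in `A`
  have hsocle : ∀ u ∈ (P : Subgroup G), u ^ p = 1 → u ∈ A := by
    intro u hu hup
    obtain ⟨B, hB, hwuB⟩ := h.1.2 (w * u)
    have e : (w * u) ^ p = w ^ p := by rw [(hcomm w hw u hu).mul_pow, hup, mul_one]
    have := h.unique hZ hab (pow_eq_one_of_mem P (pow_mem hw p)) hwp hA hB (pow_mem hwA p)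
      (e ▸ pow_mem hwuB p)
    subst this
    simpa using mul_mem (inv_mem hwA) hwuB
  refine ⟨A, hA, fun u hu => ?_⟩
  by_cases hu1 : u = 1
  · exact hu1 ▸ A.one_mem
  obtain ⟨B, hB, huB⟩ := h.1.2 u
  obtain ⟨k, hk⟩ := IsPGroup.iff_orderOf.1 P.2 ⟨u, hu⟩
  rw [Subgroup.orderOf_mk] at hk
  have hd : p ∣ orderOf u := by
    rcases k with _ | k
    · exact absurd (orderOf_eq_one_iff.1 (hk.trans (pow_zero p))) hu1
    · exact hk ▸ dvd_pow_self p k.succ_ne_zero
  set v := u ^ (orderOf u / p) with hv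
  have hvo : orderOf v = p := orderOf_pow_orderOf_div (orderOf_pos u).ne' hd
  have hvP : v ∈ (P : Subgroup G) := pow_mem hu _
  have hv1 : v ≠ 1 := fun e => by
    rw [e, orderOf_one] at hvo
    exact (Fact.out : p.Prime).ne_one hvo.symm
  have hvA := hsocle v hvP (hvo ▸ pow_orderOf_eq_one v)
  exact (h.unique hZ hab (pow_eq_one_of_mem P hvP) hv1 hA hB hvA (pow_mem huB _)) ▸ huB

/-- The member containing an abelian Sylow subgroup is its centraliser, and the normaliser is
maximal. -/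
theorem structure_of_sylow_le (h : MinNilCover 𝓐) (hZ : Subgroup.center G = ⊥)
    (hab : IsMulCommutative ↥(P : Subgroup G))
    (hnn : ¬ (P : Subgroup G).Normal)
    (hex : ∀ Q : Sylow p G, ∃ A ∈ 𝓐, (Q : Subgroup G) ≤ A)
    {A : Subgroup G} (hA : A ∈ 𝓐) (hPA : (P : Subgroup G) ≤ A) :
    Subgroup.centralizer ((P : Subgroup G) : Set G) = A ∧
      IsCoatom (Subgroup.normalizer ((P : Subgroup G) : Set G)) ∧
      (∀ M : Subgroup G, IsCoatom M → A ≤ M →
        M = Subgroup.normalizer ((P : Subgroup G) : Set G)) ∧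
      (∀ g : G, g ∉ Subgroup.normalizer ((P : Subgroup G) : Set G) →
        ¬ p ∣ Nat.card ↥(Subgroup.normalizer ((P : Subgroup G) : Set G) ⊓
          (Subgroup.normalizer ((P : Subgroup G) : Set G)).map (MulAut.conj g).toMonoidHom)) := by
  have hP1 : (P : Subgroup G) ≠ ⊥ := fun e => hnn (by rw [e]; infer_instance)
  obtain ⟨z, hz, hz1⟩ : ∃ z ∈ (P : Subgroup G), z ≠ 1 := by
    obtain ⟨⟨z, hz⟩, hne⟩ := Subgroup.ne_bot_iff_exists_ne_one.1 hP1
    exact ⟨z, hz, fun e => hne (Subtype.ext e)⟩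
  set N := Subgroup.normalizer ((P : Subgroup G) : Set G) with hN
  have hAC : A ≤ Subgroup.centralizer ((P : Subgroup G) : Set G) := fun a ha =>
    Subgroup.mem_centralizer_iff.2 fun u hu => (Subgroup.mem_centralizer_singleton_iff.1
      (le_centralizer_of_abelian_sylow P hab (h.2.2 A hA) (hPA hu) (pow_eq_one_of_mem P hu)
        ha)).symm
  have hCA : Subgroup.centralizer ((P : Subgroup G) : Set G) ≤ A := by
    refine CfsgLib.Coprime.le_of_forall_sylow_le fun q hq Q => ?_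
    haveI := Fact.mk hq
    rintro _ ⟨d, hd, rfl⟩
    obtain ⟨j, hj⟩ := Q.2 ⟨d, hd⟩
    have hj1 : d ^ q ^ j = 1 := congrArg Subtype.val hj
    have hj' : (d : G) ^ q ^ j = 1 := congrArg Subtype.val hj1
    by_cases hqp : q = p
    · subst hqp
      have hp' : IsPGroup q (Subgroup.zpowers (d : G)) := by
        obtain ⟨i, -, hi⟩ := (Nat.dvd_prime_pow hq).1 (orderOf_dvd_of_pow_eq_one hj')
        exact IsPGroup.of_card (n := i) (by rw [Nat.card_zpowers, hi])
      have h1 := hp'.inf_normalizer_sylow P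
      exact hPA (h1.le ⟨Subgroup.mem_zpowers _, Subgroup.centralizer_le_normalizer _ d.2⟩).2
    · have hc : Commute z (d : G) := Subgroup.mem_centralizer_iff.1 d.2 z hz
      obtain ⟨B, hB, hzdB⟩ := h.1.2 (z * d)
      have e : (z * (d : G)) ^ q ^ j = z ^ q ^ j := by rw [hc.mul_pow, hj', mul_one]
      have hne : z ^ q ^ j ≠ 1 := fun e1 => by
        obtain ⟨i, hi⟩ := pow_eq_one_of_mem P hz
        exact hz1 (orderOf_eq_one_iff.1 (Nat.eq_one_of_dvd_coprimes
          (Nat.coprime_pow_primes i j Fact.out hq (Ne.symm hqp))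
          (orderOf_dvd_of_pow_eq_one hi) (orderOf_dvd_of_pow_eq_one e1)))
      have := h.unique hZ hab (pow_eq_one_of_mem P (pow_mem hz _)) hne hA hB
        (pow_mem (hPA hz) _) (e ▸ pow_mem hzdB _)
      subst this
      simpa using mul_mem (inv_mem (hPA hz)) hzdB
  have hAN : A ≤ N := hAC.trans (Subgroup.centralizer_le_normalizer _)
  have hNtop : N ≠ ⊤ := fun e => hnn (Subgroup.normalizer_eq_top_iff.1 e)
  have hmax : ∀ M : Subgroup G, IsCoatom M → A ≤ M → M = N := by
    intro M hM hAM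
    have hMN : M ≤ N := by
      intro m hm
      let Q : Sylow p G := m • P
      obtain ⟨B, hB, hQB⟩ := hex Q
      have hQ : (Q : Subgroup G) ≤ M := by
        intro u hu
        rw [Sylow.coe_subgroup_smul] at hu
        obtain ⟨v, hv, rfl⟩ := hu
        exact mul_mem (mul_mem hm (hAM (hPA hv))) (inv_mem hm)
      have hzQ : m * z * m⁻¹ ∈ (Q : Subgroup G) := by
        rw [Sylow.coe_subgroup_smul]; exact ⟨z, hz, rfl⟩
      have hBM : B ≤ M := by
        intro b hb
        have hc : m⁻¹ * b * m ∈ Subgroup.centralizer ((P : Subgroup G) : Set G) := by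
          rw [Subgroup.mem_centralizer_iff]
          intro u hu
          have huQ : m * u * m⁻¹ ∈ (Q : Subgroup G) := by
            rw [Sylow.coe_subgroup_smul]; exact ⟨u, hu, rfl⟩
          have h1 := Subgroup.mem_centralizer_singleton_iff.1 (le_centralizer_of_abelian_sylow P
            hab (h.2.2 B hB) (hQB huQ) (pow_eq_one_of_mem Q huQ) hb)
          calc u * (m⁻¹ * b * m) = m⁻¹ * ((m * u * m⁻¹) * b) * m := by group
            _ = m⁻¹ * (b * (m * u * m⁻¹)) * m := by rw [h1]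
            _ = m⁻¹ * b * m * u := by group
        have h2 := mul_mem (mul_mem hm (hAM (hCA hc))) (inv_mem hm)
        rwa [show m * (m⁻¹ * b * m) * m⁻¹ = b by group] at h2
      have hAB := h.eq_of_le hM.1 hA hB hAM hBM
      subst hAB
      have hQP : (Q : Subgroup G) = P := by
        refine P.3 Q.2 fun u hu => ?_
        have huA := hPA hu
        have hcu : u ∈ Subgroup.normalizer ((Q : Subgroup G) : Set G) := by
          refine Subgroup.centralizer_le_normalizer _ (Subgroup.mem_centralizer_iff.2 fun v hv => ?_)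
          exact (Subgroup.mem_centralizer_singleton_iff.1 (le_centralizer_of_abelian_sylow P hab
            (h.2.2 A hA) (hQB hv) (pow_eq_one_of_mem Q hv) huA)).symm
        have hp' : IsPGroup p (Subgroup.zpowers u) :=
          P.2.to_le (Subgroup.zpowers_le.2 hu)
        exact ((hp'.inf_normalizer_sylow Q).le ⟨Subgroup.mem_zpowers u, hcu⟩).2
      exact Sylow.smul_eq_iff_mem_normalizer.1 (Sylow.ext hQP)
    exact ((hM.le_iff.1 hMN).resolve_left hNtop).symm
  have hcoatom : IsCoatom N := by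
    obtain ⟨M, hM, hle⟩ := (eq_top_or_exists_le_coatom A).resolve_left (h.1.1 A hA)
    exact hmax M hM hle ▸ hM
  refine ⟨le_antisymm hCA hAC, hcoatom, hmax, fun g hg hdvd => ?_⟩
  obtain ⟨⟨x, hxN, hxg⟩, hx⟩ := exists_prime_orderOf_dvd_card' p hdvd
  rw [← Subgroup.orderOf_coe] at hx
  change orderOf x = p at hx
  obtain ⟨v, hv, hvx⟩ := hxg
  change g * v * g⁻¹ = x at hvx
  have hvo : orderOf v = p := by
    rw [← hx, ← hvx]; exact ((MulAut.conj g).orderOf_eq v).symm
  have inP : ∀ w : G, w ∈ N → orderOf w = p → w ∈ (P : Subgroup G) := fun w hw hwo => by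
    have hp' : IsPGroup p (Subgroup.zpowers w) :=
      IsPGroup.of_card (n := 1) (by rw [Nat.card_zpowers, hwo, pow_one])
    exact ((hp'.inf_normalizer_sylow P).le ⟨Subgroup.mem_zpowers w, hw⟩).2
  have hxP := inP x hxN hx
  have hvP := inP v hv hvo
  let Q : Sylow p G := g • P
  obtain ⟨B, hB, hQB⟩ := hex Q
  have hxQ : x ∈ (Q : Subgroup G) := by
    rw [Sylow.coe_subgroup_smul]; exact ⟨v, hvP, hvx⟩
  have hx1 : x ≠ 1 := fun e => by
    rw [e, orderOf_one] at hx; exact (Fact.out : p.Prime).ne_one hx.symm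
  have hAB := h.unique hZ hab (pow_eq_one_of_mem P hxP) hx1 hA hB (hPA hxP) (hQB hxQ)
  subst hAB
  refine hg (Sylow.smul_eq_iff_mem_normalizer.1 (Sylow.ext (P.3 Q.2 fun u hu => ?_)))
  have hcu : u ∈ Subgroup.normalizer ((Q : Subgroup G) : Set G) := by
    refine Subgroup.centralizer_le_normalizer _ (Subgroup.mem_centralizer_iff.2 fun w hw => ?_)
    exact (Subgroup.mem_centralizer_singleton_iff.1 (le_centralizer_of_abelian_sylow P hab
      (h.2.2 A hA) (hQB hw) (pow_eq_one_of_mem Q hw) (hPA hu))).symm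
  exact (((P.2.to_le (Subgroup.zpowers_le.2 hu) : IsPGroup p
    (Subgroup.zpowers u)).inf_normalizer_sylow Q).le ⟨Subgroup.mem_zpowers u, hcu⟩).2

end MinNilCover

end CfsgLib.Struct76

namespace CfsgLib.Struct76.MinNilCover

variable {G : Type*} [Group G] [Finite G] {𝓐 : Finset (Subgroup G)} {p : ℕ} [Fact p.Prime]
  {P : Sylow p G}

/-- Every Sylow subgroup lies in a member when one is cyclic or not elementary abelian. -/
theorem forall_exists_sylow_le (h : MinNilCover 𝓐) (hZ : Subgroup.center G = ⊥)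
    (hab : IsMulCommutative ↥(P : Subgroup G))
    (hP : IsCyclic ↥(P : Subgroup G) ∨ ∃ w ∈ (P : Subgroup G), w ^ p ≠ 1) (Q : Sylow p G) :
    ∃ A ∈ 𝓐, (Q : Subgroup G) ≤ A := by
  let e : ↥(P : Subgroup G) ≃* ↥(Q : Subgroup G) := Sylow.equiv P Q
  refine h.exists_sylow_le hZ ⟨⟨fun a b => e.symm.injective (by
    rw [map_mul, map_mul]; exact hab.is_comm.comm _ _)⟩⟩ ?_
  rcases hP with hc | ⟨w, hw, hwp⟩
  · exact Or.inl (isCyclic_of_surjective e e.surjective)
  · refine Or.inr ⟨_, (e ⟨w, hw⟩).2, fun h1 => hwp ?_⟩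
    have h2 : e ⟨w, hw⟩ ^ p = 1 := Subtype.ext h1
    rw [← map_pow, map_eq_one_iff e e.injective] at h2
    exact congrArg Subtype.val h2

end CfsgLib.Struct76.MinNilCover

namespace CfsgLib.Struct76

variable {G : Type*} [Group G]

/-- If all nilpotent subgroups containing `x` or `y` lie in a proper subgroup and none contains
both, there is no nilpotent minimal cover. -/
theorem MinNilCover.false_of_no_common {𝓐 : Finset (Subgroup G)} (h : MinNilCover 𝓐) {M : Subgroup G}
    (hM : M ≠ ⊤) {x y : G}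
    (hx : ∀ A : Subgroup G, Group.IsNilpotent A → x ∈ A → A ≤ M)
    (hy : ∀ A : Subgroup G, Group.IsNilpotent A → y ∈ A → A ≤ M)
    (hxy : ∀ A : Subgroup G, Group.IsNilpotent A → x ∈ A → y ∉ A) : False := by
  obtain ⟨A, hA, hxA⟩ := h.1.2 x
  obtain ⟨B, hB, hyB⟩ := h.1.2 y
  have e := h.eq_of_le hM hA hB (hx A (h.2.2 A hA) hxA) (hy B (h.2.2 B hB) hyB)
  exact hxy A (h.2.2 A hA) hxA (e ▸ hyB)

open scoped commutatorElement in
/-- A nontrivial nilpotent group has a nontrivial centre. -/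
theorem exists_ne_one_mem_center (N : Type*) [Group N] [hN : Group.IsNilpotent N] [Nontrivial N] :
    ∃ z : N, z ≠ 1 ∧ ∀ w : N, w * z = z * w := by
  by_contra! hno
  obtain ⟨n, hn⟩ := hN.nilpotent'
  have key : ∀ n : ℕ, Subgroup.upperCentralSeries N n = ⊥ := by
    intro n
    induction n with
    | zero => exact Subgroup.upperCentralSeries_zero N
    | succ n ih =>
      refine (Subgroup.eq_bot_iff_forall _).2 fun x hx => ?_
      by_contra hx1
      obtain ⟨w, hw⟩ := hno x hx1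
      have h1 := Subgroup.mem_upperCentralSeries_succ_iff.1 hx w
      rw [ih, Subgroup.mem_bot, commutatorElement_eq_one_iff_mul_comm] at h1
      exact hw h1.symm
  exact bot_ne_top ((key n).symm.trans hn)

/-- If every nontrivial element commuting with `x` has its centraliser in `M`, then so are the
nilpotent subgroups containing `x`. -/
theorem le_of_centralizers_le {M : Subgroup G} {x : G} (hx1 : x ≠ 1)
    (h : ∀ z : G, z ≠ 1 → Commute z x → Subgroup.centralizer ({z} : Set G) ≤ M)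
    (A : Subgroup G) (hA : Group.IsNilpotent A) (hxA : x ∈ A) : A ≤ M := by
  haveI := hA
  haveI : Nontrivial A := ⟨⟨⟨x, hxA⟩, 1, fun e => hx1 (congrArg Subtype.val e)⟩⟩
  obtain ⟨z, hz1, hz⟩ := exists_ne_one_mem_center ↥A
  refine fun a ha => h z (fun e => hz1 (Subtype.ext e))
    (congrArg Subtype.val (hz ⟨x, hxA⟩)).symm ?_
  exact Subgroup.mem_centralizer_singleton_iff.2 (congrArg Subtype.val (hz ⟨a, ha⟩))

end CfsgLib.Struct76
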