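import Mathlib
import Cfsg.Agent.Lib.Frobenius.Action
import Cfsg.Agent.Lib.Spectrum.Solvable
import Cfsg.Agent.Lib.Recog.ThreePrimes

/-!
# Solvable groups with a disconnected prime graph (Gruenberg–Kegel)

`Separates A G` : the order of an element does not involve both a prime in `A` and a prime
outside `A`.
-/

set_option autoImplicit false

open scoped commutatorElement

namespace CfsgLib.Struct76

/-- No element order involves primes on both sides of `A`. -/
def Separates (A : Set ℕ) (G : Type*) [Group G] : Prop :=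
  ∀ g : G, ∀ p q : ℕ, p.Prime → q.Prime → p ∣ orderOf g → q ∣ orderOf g → p ∈ A → q ∈ A

/-- All primes dividing `n` lie in `A`. -/
def PrimesIn (A : Set ℕ) (n : ℕ) : Prop :=
  ∀ p : ℕ, p.Prime → p ∣ n → p ∈ A

theorem PrimesIn.mul {A : Set ℕ} {m n : ℕ} (hm : PrimesIn A m) (hn : PrimesIn A n) :
    PrimesIn A (m * n) := fun p hp h => ((hp.dvd_mul).1 h).elim (hm p hp) (hn p hp)

theorem PrimesIn.of_dvd {A : Set ℕ} {m n : ℕ} (hn : PrimesIn A n) (h : m ∣ n) : PrimesIn A m :=
  fun p hp hd => hn p hp (hd.trans h)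

theorem PrimesIn.coprime {A : Set ℕ} {m n : ℕ} (hm : PrimesIn A m) (hn : PrimesIn Aᶜ n) :
    m.Coprime n :=
  Nat.coprime_of_dvd fun p hp hpm hpn => hn p hp hpn (hm p hp hpm)

theorem primesIn_of_exponent {A : Set ℕ} {G : Type*} [Group G] [Finite G] {s : ℕ}
    (hs : s.Prime) (hsA : s ∈ A) (V : Subgroup G) (h : ∀ v ∈ V, v ^ s = 1) :
    PrimesIn A (Nat.card V) := by
  haveI := Fact.mk hs
  obtain ⟨k, hk⟩ := IsPGroup.iff_card.1
    (fun v : V => ⟨1, Subtype.ext (by rw [pow_one]; exact h v v.2)⟩ : IsPGroup s V)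
  intro p hp hd
  rw [hk] at hd
  exact (Nat.prime_dvd_prime_iff_eq hp hs).1 (hp.dvd_of_dvd_pow hd) ▸ hsA

namespace Separates

variable {A : Set ℕ} {G : Type*} [Group G] [Finite G]

omit [Finite G] in
theorem compl (h : Separates A G) : Separates Aᶜ G :=
  fun g p q hp hq hpg hqg hpA hqA => hpA (h g q p hq hp hqg hpg hqA)

theorem false_of_commute (h : Separates A G) {x y : G} (hc : Commute x y) {p q : ℕ}
    (hp : p.Prime) (hq : q.Prime) (hpx : p ∣ orderOf x) (hqy : q ∣ orderOf y) (hpA : p ∈ A)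
    (hqA : q ∉ A) : False := by
  obtain ⟨z, hz⟩ := CfsgLib.Recog.ThreePrimes.exists_orderOf_eq_mul_of_commute hp hq
    (fun e : p = q => hqA (e ▸ hpA)) hc hpx hqy
  exact hqA (h z p q hp hq (hz ▸ dvd_mul_right p q) (hz ▸ dvd_mul_left q p) hpA)

omit [Finite G] in
theorem subgroup (h : Separates A G) (K : Subgroup G) : Separates A K :=
  fun g p q hp hq hpg hqg =>
    h (g : G) p q hp hq (by rwa [Subgroup.orderOf_coe]) (by rwa [Subgroup.orderOf_coe])

theorem quotient (h : Separates A G) (N : Subgroup G) [N.Normal] : Separates A (G ⧸ N) := by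
  intro x p q hp hq hpx hqx
  obtain ⟨g, rfl⟩ := QuotientGroup.mk'_surjective N x
  exact h g p q hp hq (hpx.trans (orderOf_map_dvd _ g)) (hqx.trans (orderOf_map_dvd _ g))

end Separates

/-- A normal subgroup with primes in `A` and index outside `A` is a Frobenius kernel. -/
theorem exists_frobenius_of_separates {A : Set ℕ} {G : Type*} [Group G] [Finite G]
    (h : Separates A G) (N : Subgroup G) [N.Normal] (hN1 : N ≠ ⊥) (hNtop : N ≠ ⊤)
    (hNA : PrimesIn A (Nat.card N)) (hidx : PrimesIn Aᶜ N.index) :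
    ∃ C : Subgroup G, Cfsg.IsFrobeniusComplement C ∧ N.IsComplement' C ∧
      Cfsg.frobeniusKernel C = (N : Set G) := by
  obtain ⟨C, hC⟩ := Subgroup.exists_right_complement'_of_coprime (hNA.coprime hidx)
  have hCcard : Nat.card C = N.index := hC.symm.index_eq_card.symm
  have hC1 : C ≠ ⊥ := by
    intro e
    rw [e, Subgroup.card_bot] at hCcard
    exact hNtop (Subgroup.index_eq_one.1 hCcard.symm)
  have hF : Cfsg.IsFrobeniusComplement C := by
    refine CfsgLib.Frobenius.isFrobeniusComplement_of_normal_complement hC hN1 hC1 ?_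
    intro c hc hc1 k hk hck
    by_contra hk1
    have e1 : orderOf k ≠ 1 := fun e => hk1 (orderOf_eq_one_iff.1 e)
    have e2 : orderOf c ≠ 1 := fun e => hc1 (orderOf_eq_one_iff.1 e)
    obtain ⟨p, hp, hpk⟩ := Nat.exists_prime_and_dvd e1
    obtain ⟨q, hq, hqc⟩ := Nat.exists_prime_and_dvd e2
    exact h.false_of_commute (x := k) (y := c) hck.symm hp hq hpk hqc
      (hNA p hp (hpk.trans (Subgroup.orderOf_dvd_natCard N hk)))
      (hidx q hq ((hqc.trans (Subgroup.orderOf_dvd_natCard C hc)).trans hCcard.dvd))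
  exact ⟨C, hF, hC, (CfsgLib.Frobenius.normal_complement_eq_kernel hF hC).symm⟩

theorem exists_max_normal_primesIn (A : Set ℕ) {G : Type*} [Group G] [Finite G]
    (V : Subgroup G) (hV : V.Normal) (hVA : PrimesIn A (Nat.card V)) :
    ∃ H : Subgroup G, H.Normal ∧ V ≤ H ∧ PrimesIn A (Nat.card H) ∧
      ∀ N : Subgroup G, N.Normal → PrimesIn A (Nat.card N) → N ≤ H := by
  obtain ⟨H, ⟨hHn, hVH, hHA⟩, hmax⟩ :=
    (Set.toFinite {H : Subgroup G | H.Normal ∧ V ≤ H ∧ PrimesIn A (Nat.card H)}).exists_maximal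
      ⟨V, hV, le_rfl, hVA⟩
  refine ⟨H, hHn, hVH, hHA, fun N hNn hNA => ?_⟩
  have hle : H ⊔ N ≤ H := hmax ⟨Subgroup.sup_normal H N, le_sup_of_le_left hVH,
    (hHA.mul hNA).of_dvd ?_⟩ le_sup_left
  · exact le_sup_right.trans hle
  · have := Subgroup.card_eq_card_quotient_mul_card_subgroup (N.subgroupOf (H ⊔ N))
    rw [Nat.card_congr (Subgroup.subgroupOfEquivOfLe (le_sup_right : N ≤ H ⊔ N)).toEquiv] at this
    rw [this]
    refine mul_dvd_mul ?_ dvd_rfl
    have e := QuotientGroup.quotientInfEquivProdNormalQuotient H N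
    rw [← Nat.card_congr e.toEquiv]
    exact Subgroup.card_quotient_dvd_card _

/-- Gruenberg–Kegel for solvable groups. -/
theorem frobenius_or_two_frobenius {A : Set ℕ} {G : Type*} [Group G] [Finite G]
    (hsol : Group.IsSolvable G) (h : Separates A G) (V : Subgroup G) (hVn : V.Normal)
    (hV1 : V ≠ ⊥) (hVA : PrimesIn A (Nat.card V))
    (hB : ∃ b : ℕ, b.Prime ∧ b ∣ Nat.card G ∧ b ∉ A) :
    (∃ C : Subgroup G, Cfsg.IsFrobeniusComplement C) ∨
    (∃ (H K : Subgroup G) (_ : H.Normal), K.Normal ∧ H < K ∧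
      (∃ C : Subgroup ↥K, Cfsg.IsFrobeniusComplement C ∧
        Cfsg.frobeniusKernel C = (H.subgroupOf K : Set ↥K)) ∧
      (∃ C : Subgroup (G ⧸ H), Cfsg.IsFrobeniusComplement C ∧
        Cfsg.frobeniusKernel C = (K.map (QuotientGroup.mk' H) : Set (G ⧸ H)))) := by
  haveI := hVn
  obtain ⟨H, hHn, hVH, hHA, hHmax⟩ := exists_max_normal_primesIn A V hVn hVA
  haveI := hHn
  have hH1 : H ≠ ⊥ := fun e => hV1 (le_bot_iff.1 (e ▸ hVH))
  haveI : Nontrivial (G ⧸ H) := by
    refine QuotientGroup.nontrivial_iff.2 fun e => ?_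
    obtain ⟨b, hb, hbG, hbA⟩ := hB
    exact hbA (hHA b hb (by rw [e, Subgroup.card_top]; exact hbG))
  have hsolQ : Group.IsSolvable (G ⧸ H) :=
    Group.isSolvable_of_surjective (QuotientGroup.mk'_surjective H)
  haveI := hsolQ
  obtain ⟨W, q, hq, hWn, hW1, -, hWc, hWq⟩ := CfsgLib.Spectrum.exists_normal_elementary_le
    (⊤ : Subgroup (G ⧸ H)) top_ne_bot inferInstance
  haveI := hWn
  have hqA : q ∉ A := by
    intro hqA
    have hWA := primesIn_of_exponent hq hqA W hWq
    let N := W.comap (QuotientGroup.mk' H)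
    have hle : H ≤ N := fun x hx => by
      show (x : G ⧸ H) ∈ W
      rw [(QuotientGroup.eq_one_iff x).2 hx]
      exact one_mem W
    have hmap : N.map (QuotientGroup.mk' H) = W :=
      Subgroup.map_comap_eq_self_of_surjective (QuotientGroup.mk'_surjective H) W
    have hNA : PrimesIn A (Nat.card N) := by
      refine (hWA.mul hHA).of_dvd (dvd_of_eq ?_)
      have := Subgroup.card_eq_card_quotient_mul_card_subgroup
        (((QuotientGroup.mk' H).comp N.subtype).ker)
      rw [this, Nat.card_congr (QuotientGroup.quotientKerEquivRange _).toEquiv,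
        MonoidHom.range_comp, Subgroup.range_subtype, hmap,
        ← MonoidHom.comap_ker, QuotientGroup.ker_mk']
      congr 1
      exact Nat.card_congr (Subgroup.subgroupOfEquivOfLe hle).toEquiv
    have := hHmax N inferInstance hNA
    refine hW1 ?_
    rw [← hmap]
    exact (Subgroup.map_eq_bot_iff N).2 (this.trans (QuotientGroup.ker_mk' H).ge)
  obtain ⟨K', hKn', hWK, hKA, hKmax⟩ := exists_max_normal_primesIn Aᶜ W hWn
    (primesIn_of_exponent hq hqA W hWq)
  haveI := hKn'
  have hQ := h.quotient H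
  -- the preimage of `K'` is a Frobenius group with kernel `H`
  set K := K'.comap (QuotientGroup.mk' H) with hK
  have hHK : H ≤ K := fun x hx => by
    show (x : G ⧸ H) ∈ K'
    rw [(QuotientGroup.eq_one_iff x).2 hx]
    exact one_mem K'
  have hmapK : K.map (QuotientGroup.mk' H) = K' :=
    Subgroup.map_comap_eq_self_of_surjective (QuotientGroup.mk'_surjective H) K'
  have hlt : H < K := by
    refine lt_of_le_of_ne hHK fun e => hW1 ?_
    refine le_bot_iff.1 (hWK.trans (le_of_eq ?_))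
    rw [← hmapK, ← e]
    exact (Subgroup.map_eq_bot_iff H).2 (QuotientGroup.ker_mk' H).ge
  set f : ↥K →* G ⧸ H := (QuotientGroup.mk' H).comp K.subtype with hf
  have hker : f.ker = H.subgroupOf K := by
    rw [hf, ← MonoidHom.comap_ker, QuotientGroup.ker_mk']
    rfl
  have hrange : f.range = K' := by
    rw [hf, MonoidHom.range_comp, Subgroup.range_subtype, hmapK]
  have hidxK : (H.subgroupOf K).index = Nat.card K' := by
    rw [← hker, Subgroup.index_ker, hrange]
  have hHKcard : Nat.card (H.subgroupOf K) = Nat.card H :=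
    Nat.card_congr (Subgroup.subgroupOfEquivOfLe hHK).toEquiv
  have hHK1 : H.subgroupOf K ≠ ⊥ := fun e => hH1 <| Subgroup.card_eq_one.1 <| by
    rw [← hHKcard, e, Subgroup.card_bot]
  have hHKtop : H.subgroupOf K ≠ ⊤ := fun e => by
    rw [Subgroup.subgroupOf_eq_top] at e
    exact hlt.not_ge e
  obtain ⟨C, hC, hCc, hCker⟩ := exists_frobenius_of_separates (h.subgroup K) (H.subgroupOf K)
    hHK1 hHKtop (by rwa [hHKcard]) (by rwa [hidxK])
  -- `W` is cyclic
  have hWcyc : IsCyclic W := by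
    let L : Subgroup ↥K := C ⊓ W.comap f
    haveI : IsMulCommutative L := ⟨⟨fun a b => by
      apply Subtype.ext
      have hinj : ∀ x ∈ C, f x = 1 → x = 1 := fun x hx hx1 =>
        Subgroup.disjoint_def.1 hCc.disjoint
          (hker ▸ (MonoidHom.mem_ker.2 hx1) : x ∈ H.subgroupOf K) hx
      have hab : f ((a : ↥K) * b) = f ((b : ↥K) * a) := by
        rw [map_mul, map_mul]
        exact congrArg Subtype.val (hWc.is_comm.comm ⟨f a, a.2.2⟩ ⟨f b, b.2.2⟩)
      have hmem : ((b : ↥K) * a)⁻¹ * (a * b) ∈ C :=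
        mul_mem (inv_mem (mul_mem b.2.1 a.2.1)) (mul_mem a.2.1 b.2.1)
      have := hinj _ hmem (by rw [map_mul, map_inv, hab, inv_mul_cancel])
      exact (inv_mul_eq_one.1 this).symm⟩⟩
    haveI : IsCyclic L :=
      CfsgLib.Frobenius.isCyclic_le_complement_of_commutative hC hCc inf_le_left
    let φ : L →* W := (f.comp L.subtype).codRestrict W fun x => x.2.2
    refine isCyclic_of_surjective φ fun w => ?_
    have hw : (w : G ⧸ H) ∈ f.range := hrange ▸ hWK w.2
    obtain ⟨x, hx⟩ := hw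
    obtain ⟨n, hn, c, hc, hxnc⟩ := hCc.existsUnique x |>.exists |>
      fun ⟨u, hu⟩ => (⟨_, u.1.2, _, u.2.2, hu⟩ :
        ∃ n ∈ H.subgroupOf K, ∃ c ∈ C, n * c = x)
    have hn1 : f n = 1 := MonoidHom.mem_ker.1 (hker ▸ hn)
    have hcw : f c = w := by rw [← hx, ← hxnc, map_mul, hn1, one_mul]
    exact ⟨⟨c, hc, show f c ∈ W from hcw ▸ w.2⟩, Subtype.ext hcw⟩
  -- the centraliser of `W` lies in `K'`
  obtain ⟨w, hw, hw1⟩ : ∃ w ∈ W, orderOf w = q := by
    obtain ⟨⟨w, hw⟩, hne⟩ := Subgroup.ne_bot_iff_exists_ne_one.1 hW1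
    exact ⟨w, hw, ((Nat.dvd_prime hq).1 (orderOf_dvd_of_pow_eq_one (hWq w hw))).resolve_left
      fun e => hne (Subtype.ext (orderOf_eq_one_iff.1 e))⟩
  haveI := Fact.mk hq
  have hcen : Subgroup.centralizer (W : Set (G ⧸ H)) ≤ K' := by
    refine hKmax _ inferInstance fun p hp hpd hpA => ?_
    haveI := Fact.mk hp
    obtain ⟨x, hx⟩ := exists_prime_orderOf_dvd_card' p hpd
    exact hQ.false_of_commute (x := (x : G ⧸ H)) (y := w)
      (Subgroup.mem_centralizer_iff.1 x.2 w hw).symm hp hq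
      (by rw [Subgroup.orderOf_coe, hx]) (dvd_of_eq hw1.symm) hpA hqA
  -- hence the quotient by `K'` is commutative
  have hcomm : commutator (G ⧸ H) ≤ K' := by
    refine le_trans ?_ hcen
    let ψ : G ⧸ H →* MulAut W := MulAut.conjNormal
    rw [commutator_def, Subgroup.commutator_le]
    intro a _ b _
    obtain ⟨g, hg⟩ := IsCyclic.exists_generator (α := W)
    have haut : ∀ σ τ : MulAut W, σ * τ = τ * σ := by
      intro σ τ
      obtain ⟨i, hi⟩ := hg (σ g)
      obtain ⟨j, hj⟩ := hg (τ g)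
      ext x
      obtain ⟨k, rfl⟩ := hg x
      simp only [MulAut.mul_apply, map_zpow]
      congr 2
      simp only at hi hj
      rw [← hj, map_zpow, ← hi, map_zpow, ← hj, ← zpow_mul, ← zpow_mul, mul_comm]
    have hψ : ψ ⁅a, b⁆ = 1 := by
      rw [map_commutatorElement, commutatorElement_eq_one_iff_mul_comm]
      exact haut _ _
    rw [Subgroup.mem_centralizer_iff]
    intro v hv
    have h1 : (ψ ⁅a, b⁆ ⟨v, hv⟩ : G ⧸ H) = v := by rw [hψ]; rfl
    rw [MulAut.conjNormal_apply] at h1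
    exact (mul_inv_eq_iff_eq_mul.1 h1).symm
  by_cases hKtop : K' = ⊤
  · left
    have hidx : PrimesIn Aᶜ H.index := by
      rw [Subgroup.index_eq_card, ← Subgroup.card_top, ← hKtop]
      exact hKA
    obtain ⟨C', hC', -, -⟩ := exists_frobenius_of_separates h H hH1
      (QuotientGroup.nontrivial_iff.1 inferInstance) hHA hidx
    exact ⟨C', hC'⟩
  right
  refine ⟨H, K, hHn, inferInstance, hlt, ⟨C, hC, hCker⟩, ?_⟩
  have hK'1 : K' ≠ ⊥ := fun e => hW1 (le_bot_iff.1 (e ▸ hWK))
  have hidx : PrimesIn A K'.index := by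
    haveI : IsMulCommutative ((G ⧸ H) ⧸ K') :=
      Subgroup.Normal.quotient_commutative_iff_commutator_le.2 hcomm
    by_contra hnot
    rw [PrimesIn] at hnot
    push Not at hnot
    obtain ⟨r, hr, hrd, hrA⟩ := hnot
    obtain ⟨p, hp, hpd, hpA⟩ : ∃ p, p.Prime ∧ p ∣ K'.index ∧ p ∈ A := by
      by_contra! hno
      refine hKtop (top_le_iff.1 (hKmax ⊤ inferInstance ?_))
      rw [Subgroup.card_top, ← K'.card_mul_index]
      exact hKA.mul fun p hp hd => hno p hp hd
    haveI := Fact.mk hp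
    haveI := Fact.mk hr
    obtain ⟨x, hx⟩ := exists_prime_orderOf_dvd_card' (G := (G ⧸ H) ⧸ K') p hpd
    obtain ⟨y, hy⟩ := exists_prime_orderOf_dvd_card' (G := (G ⧸ H) ⧸ K') r hrd
    exact (hQ.quotient K').false_of_commute (mul_comm' x y : Commute x y) hp hr
      (dvd_of_eq hx.symm) (dvd_of_eq hy.symm) hpA hrA
  obtain ⟨C', hC', -, hker'⟩ := exists_frobenius_of_separates hQ.compl K' hK'1 hKtop hKA
    (by rwa [compl_compl])
  exact ⟨C', hC', by rw [hker', hmapK]⟩

end CfsgLib.Struct76
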