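import Cfsg.Agent.Lib.Characters.Induction
import Cfsg.Agent.Lib.Characters.Clifford
import Cfsg.Agent.Lib.Characters.NormalAvg
import Cfsg.Agent.Lib.Characters.Monomial
import Cfsg.Agent.Lib.Characters.Exceptional
import Cfsg.Agent.Lib.Blocks.SectionNorm
import Cfsg.Agent.S0939

/-!
# Restrictions of characters to the centralizer of a Sylow subgroup of prime order

For `x` of prime order `p` with `p * p ∤ #G` we describe the induced characters of the linear
characters of `C(x)` trivial on its normal `p`-complement, and the behaviour of the irreducible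
characters of `G` inside and outside the principal block on `C(x)`.
-/

set_option autoImplicit false

noncomputable section

namespace CfsgLib.SmallSimple

open Cfsg CfsgLib.Characters
open scoped ComplexConjugate Classical

universe u

variable {G : Type u} [Group G] [Fintype G] {p : ℕ} [hp : Fact p.Prime] {x : G}

omit [Fintype G] in
theorem mem_cent_self (x : G) : x ∈ Subgroup.centralizer ({x} : Set G) :=
  Subgroup.mem_centralizer_singleton_iff.2 rfl

/-- The element `x` inside its centralizer. -/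
def xC (x : G) : Subgroup.centralizer ({x} : Set G) := ⟨x, mem_cent_self x⟩

/-- A character of `C(x)` of order `p`, faithful on `x`. -/
structure Rot (p : ℕ) (x : G) where
  ν : Subgroup.centralizer ({x} : Set G) →* ℂˣ
  hox : orderOf x = p
  hsq : ¬ p * p ∣ Nat.card G
  prim : IsPrimitiveRoot (ν (xC x)) p
  hpow : ∀ c, ν c ^ p = 1

theorem exists_rot (hox : orderOf x = p) (hsq : ¬ p * p ∣ Nat.card G) : Nonempty (Rot p x) := by
  set C := Subgroup.centralizer ({x} : Set G)
  have hoc : orderOf (xC x) = p := by rw [← Subgroup.orderOf_coe]; exact hox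
  have hcard : Nat.card (Subgroup.zpowers (xC x)) = p := by rw [Nat.card_zpowers, hoc]
  have hfac : (Nat.card C).factorization p = 1 := by
    refine le_antisymm ?_ ?_
    · by_contra h
      refine hsq ?_
      calc p * p = p ^ 2 := (pow_two p).symm
        _ ∣ p ^ (Nat.card C).factorization p := pow_dvd_pow p (by omega)
        _ ∣ Nat.card C := Nat.ordProj_dvd _ _
        _ ∣ Nat.card G := Subgroup.card_subgroup_dvd_card C
    · refine hp.out.factorization_pos_of_dvd Nat.card_pos.ne' ?_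
      rw [← hoc]
      exact orderOf_dvd_natCard (xC x)
  let P : Sylow p C := Sylow.ofCard (Subgroup.zpowers (xC x)) (by rw [hcard, hfac, pow_one])
  have hPc : ∀ a ∈ (P : Subgroup C), ∀ g : C, g * a = a * g := by
    intro a ha g
    obtain ⟨j, rfl⟩ := Subgroup.mem_zpowers_iff.1 ha
    exact ((show Commute g (xC x) from
      Subtype.ext (Subgroup.mem_centralizer_singleton_iff.1 g.2)).zpow_right j).eq
  have hN : Subgroup.normalizer ((P : Subgroup C) : Set C) ≤
      Subgroup.centralizer ((P : Subgroup C) : Set C) := fun g _ =>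
    Subgroup.mem_centralizer_iff.2 fun a ha => (hPc a ha g).symm
  have hc := MonoidHom.ker_transferSylow_isComplement' P hN
  set τ := MonoidHom.transferSylow P hN
  have hP : Nat.card (P : Subgroup C) = p := hcard
  have hxne : τ (xC x) ≠ 1 := by
    intro h
    have hmem : xC x ∈ τ.ker ⊓ (P : Subgroup C) := ⟨h, Subgroup.mem_zpowers (xC x)⟩
    rw [Subgroup.IsComplement'.disjoint hc |>.eq_bot, Subgroup.mem_bot] at hmem
    rw [hmem, orderOf_one] at hoc
    exact hp.out.ne_one hoc.symm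
  have hgen : ∀ a, a ∈ Subgroup.zpowers (τ (xC x)) := by
    intro a
    exact mem_zpowers_of_prime_card hP hxne
  have hζ := Complex.isPrimitiveRoot_exp p hp.out.ne_zero
  have hζu : IsPrimitiveRoot ((hζ.isUnit hp.out.ne_zero).unit) p :=
    IsPrimitiveRoot.coe_units_iff.1 hζ
  have hord : orderOf ((hζ.isUnit hp.out.ne_zero).unit) ∣ orderOf (τ (xC x)) := by
    rw [← hζu.eq_orderOf]
    have h1 : orderOf (τ (xC x)) ∣ p := (orderOf_dvd_natCard (τ (xC x))).trans hP.dvd
    rcases (Nat.dvd_prime hp.out).1 h1 with h | h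
    · exact absurd (orderOf_eq_one_iff.1 h) hxne
    · exact h.symm.dvd
  let μ := monoidHomOfForallMemZpowers hgen hord
  refine ⟨⟨μ.comp τ, hox, hsq, ?_, fun c => ?_⟩⟩
  · show IsPrimitiveRoot (μ (τ (xC x))) p
    rw [monoidHomOfForallMemZpowers_apply_gen]
    exact hζu
  · show μ (τ c) ^ p = 1
    have h1 : τ c ^ p = 1 := orderOf_dvd_iff_pow_eq_one.1 ((orderOf_dvd_natCard (τ c)).trans hP.dvd)
    rw [← map_pow, h1, map_one]

namespace Rot

variable (R : Rot p x)

set_option quotPrecheck false in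
local notation "Cx" => Subgroup.centralizer (Singleton.singleton x : Set G)
set_option quotPrecheck false in
local notation "Nx" => Subgroup.normalizer (Subgroup.zpowers x : Set G)

include R

theorem orderOf_xC : orderOf (xC x) = p := by
  rw [← Subgroup.orderOf_coe]; exact R.hox

theorem exists_decomp (c : Cx) : ∃ i, i < p ∧ ∃ k ∈ R.ν.ker, c = xC x ^ i * k := by
  haveI : NeZero p := ⟨hp.out.ne_zero⟩
  obtain ⟨i, hi, h⟩ : ∃ i, i < p ∧ (R.ν (xC x)) ^ i = R.ν c := by
    have h1 : ((R.ν c : ℂˣ) : ℂ) ^ p = 1 := by rw [← Units.val_pow_eq_pow_val, R.hpow, Units.val_one]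
    obtain ⟨i, hi, h⟩ := (IsPrimitiveRoot.coe_units_iff.2 R.prim).eq_pow_of_pow_eq_one h1
    exact ⟨i, hi, Units.ext (by rw [Units.val_pow_eq_pow_val]; exact h)⟩
  exact ⟨i, hi, (xC x ^ i)⁻¹ * c, by rw [MonoidHom.mem_ker, map_mul, map_inv, map_pow, h,
    inv_mul_cancel], by group⟩

theorem card_eq : Nat.card Cx = p * Nat.card R.ν.ker := by
  have h1 := R.ν.ker.card_mul_index
  rw [Subgroup.index_ker] at h1
  have h2 : Nat.card R.ν.range = p := by
    have : R.ν.range = Subgroup.zpowers (R.ν (xC x)) := by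
      refine le_antisymm ?_ (Subgroup.zpowers_le.2 ⟨xC x, rfl⟩)
      rintro _ ⟨c, rfl⟩
      obtain ⟨i, -, k, hk, rfl⟩ := R.exists_decomp c
      rw [map_mul, map_pow, MonoidHom.mem_ker.1 hk, mul_one]
      exact Subgroup.pow_mem _ (Subgroup.mem_zpowers _) i
    rw [this, Nat.card_zpowers, ← R.prim.eq_orderOf]
  rw [h2] at h1
  rw [← h1, mul_comm]

theorem not_dvd_card_ker : ¬ p ∣ Nat.card R.ν.ker := by
  intro h
  refine R.hsq ((mul_dvd_mul_left p h).trans ?_)
  rw [← R.card_eq]
  exact Subgroup.card_subgroup_dvd_card _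

theorem mem_ker_iff (c : Cx) : c ∈ R.ν.ker ↔ ¬ p ∣ orderOf c := by
  constructor
  · intro h hd
    refine R.not_dvd_card_ker (hd.trans ?_)
    rw [← Subgroup.orderOf_mk c h]
    exact orderOf_dvd_natCard _
  · intro h
    have h1 : orderOf (R.ν c) ∣ p := orderOf_dvd_of_pow_eq_one (R.hpow c)
    rcases (Nat.dvd_prime hp.out).1 h1 with h2 | h2
    · exact orderOf_eq_one_iff.1 h2
    · exact absurd (h2 ▸ orderOf_map_dvd R.ν c) h

theorem mem_zpowers_of_pow (c : Cx) (hc : c ^ p = 1) : (c : G) ∈ Subgroup.zpowers x := by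
  obtain ⟨i, -, k, hk, rfl⟩ := R.exists_decomp c
  have hcomm : Commute (xC x ^ i) k := (show Commute (xC x) k from
    Subtype.ext (Subgroup.mem_centralizer_singleton_iff.1 k.2).symm).pow_left i
  have h1 : (xC x) ^ p = 1 := orderOf_dvd_iff_pow_eq_one.1 R.orderOf_xC.dvd
  rw [hcomm.mul_pow, ← pow_mul, mul_comm, pow_mul, h1, one_pow, one_mul] at hc
  have hk1 : k = 1 := by
    rw [← orderOf_eq_one_iff]
    rcases (Nat.dvd_prime hp.out).1 (orderOf_dvd_of_pow_eq_one hc) with h | h
    · exact h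
    · exact absurd h.symm.dvd ((R.mem_ker_iff k).1 hk)
  rw [hk1, mul_one]
  exact Subgroup.pow_mem _ (Subgroup.mem_zpowers x) i

theorem normalizer_le {y : G} (hy : y ∈ Subgroup.normalizer (Subgroup.zpowers x : Set G))
    {c : G} (hc : c ∈ Cx) : y * c * y⁻¹ ∈ Cx := by
  rw [Subgroup.mem_centralizer_singleton_iff]
  have h := (Subgroup.mem_normalizer_iff.1 (inv_mem hy) x).1 (Subgroup.mem_zpowers x)
  obtain ⟨j, hj⟩ := Subgroup.mem_zpowers_iff.1 h
  have h1 : Commute c (x ^ j) :=
    (show Commute c x from Subgroup.mem_centralizer_singleton_iff.1 hc).zpow_right j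
  have h2 : Commute (y * c * y⁻¹) (y * x ^ j * y⁻¹) := by
    show y * c * y⁻¹ * (y * x ^ j * y⁻¹) = y * x ^ j * y⁻¹ * (y * c * y⁻¹)
    rw [show y * c * y⁻¹ * (y * x ^ j * y⁻¹) = y * (c * x ^ j) * y⁻¹ by group, h1.eq]
    group
  rw [hj] at h2
  simpa [mul_assoc] using h2.eq

/-- A conjugate of a `p`-singular element of `C(x)` lies in `C(x)` only via `N(⟨x⟩)`. -/
theorem mem_normalizer_of_conj {c : Cx} (hc : c ∉ R.ν.ker) {y : G} (hy : y * (c : G) * y⁻¹ ∈ Cx) :
    y ∈ Subgroup.normalizer (Subgroup.zpowers x : Set G) := by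
  set m := Nat.card R.ν.ker
  have hcm : ((c : G) ^ m) ∈ Subgroup.zpowers x ∧ (c : G) ^ m ≠ 1 := by
    obtain ⟨i, hi, k, hk, hck⟩ := R.exists_decomp c
    have hcomm : Commute (xC x ^ i) k := (show Commute (xC x) k from
      Subtype.ext (Subgroup.mem_centralizer_singleton_iff.1 k.2).symm).pow_left i
    have hk1 : k ^ m = 1 := congrArg Subtype.val (pow_card_eq_one' (x := (⟨k, hk⟩ : R.ν.ker)))
    have he : c ^ m = xC x ^ (i * m) := by rw [hck, hcomm.mul_pow, hk1, mul_one, ← pow_mul]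
    have he' : (c : G) ^ m = x ^ (i * m) := congrArg Subtype.val he
    rw [he']
    refine ⟨Subgroup.pow_mem _ (Subgroup.mem_zpowers x) _, fun h => ?_⟩
    have h' := orderOf_dvd_of_pow_eq_one h
    rw [R.hox] at h'
    rcases (hp.out.dvd_mul).1 h' with h'' | h''
    · have : i = 0 := Nat.eq_zero_of_dvd_of_lt h'' hi
      rw [this, pow_zero, one_mul] at hck
      exact hc (hck ▸ hk)
    · exact R.not_dvd_card_ker h''
  set a := (c : G) ^ m
  have hap : a ^ p = 1 := by
    obtain ⟨j, hj⟩ := Subgroup.mem_zpowers_iff.1 hcm.1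
    rw [← hj, ← zpow_natCast, ← zpow_mul, mul_comm, zpow_mul, zpow_natCast,
      orderOf_dvd_iff_pow_eq_one.1 R.hox.dvd, one_zpow]
  have hza : Subgroup.zpowers a = Subgroup.zpowers x :=
    Subgroup.eq_of_le_of_card_ge (Subgroup.zpowers_le.2 hcm.1) (by
      rw [Nat.card_zpowers, Nat.card_zpowers, R.hox, orderOf_eq_prime hap hcm.2])
  have hya : y * a * y⁻¹ ∈ Subgroup.zpowers x := by
    have := R.mem_zpowers_of_pow ⟨y * a * y⁻¹, by rw [← conj_pow]; exact Subgroup.pow_mem _ hy m⟩
      (Subtype.ext (by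
        show (y * a * y⁻¹) ^ p = 1
        rw [conj_pow, hap, mul_one, mul_inv_cancel]))
    exact this
  have hmap : (Subgroup.zpowers x).map (MulAut.conj y).toMonoidHom = Subgroup.zpowers x := by
    refine Subgroup.eq_of_le_of_card_ge ?_ (le_of_eq (Nat.card_congr
      ((Subgroup.zpowers x).equivMapOfInjective _ (MulAut.conj y).injective).toEquiv))
    rw [← hza, MonoidHom.map_zpowers, Subgroup.zpowers_le, hza]
    exact hya
  refine Subgroup.mem_normalizer_iff.2 fun z => ⟨fun hz => ?_, fun hz => ?_⟩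
  · rw [← hmap]; exact ⟨z, hz, rfl⟩
  · rw [← hmap] at hz
    obtain ⟨z', hz', hzz⟩ := hz
    rwa [← (MulAut.conj y).injective hzz]

/-- Summation over `C(x)` along the decomposition. -/
theorem sum_split (F : Cx → ℂ) :
    ∑ c : Cx, F c = ∑ i : Fin p, ∑ k : R.ν.ker, F (xC x ^ (i : ℕ) * k) := by
  rw [← Fintype.sum_prod_type' fun (i : Fin p) (k : R.ν.ker) => F (xC x ^ (i : ℕ) * k)]
  refine (Fintype.sum_bijective (fun z : Fin p × R.ν.ker => xC x ^ (z.1 : ℕ) * (z.2 : Cx))
    ⟨?_, ?_⟩ _ _ fun _ => rfl).symm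
  · rintro ⟨i, k⟩ ⟨j, l⟩ h
    simp only at h
    have hν := congrArg R.ν h
    rw [map_mul, map_mul, map_pow, map_pow, MonoidHom.mem_ker.1 k.2, MonoidHom.mem_ker.1 l.2,
      mul_one, mul_one] at hν
    have hij : i = j := Fin.ext (R.prim.pow_inj i.2 j.2 hν)
    subst hij
    exact Prod.ext rfl (Subtype.ext (mul_left_cancel h))
  · intro c
    obtain ⟨i, hi, k, hk, rfl⟩ := R.exists_decomp c
    exact ⟨(⟨i, hi⟩, ⟨k, hk⟩), rfl⟩

/-- The linear characters of `C(x) / O_{p'}(C(x))`. -/
def lam (s : ZMod p) (c : Cx) : ℂ := ((R.ν c : ℂˣ) : ℂ) ^ s.val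

theorem lam_isIrr (s : ZMod p) : IsIrrCharacter Cx (R.lam s) := by
  convert isIrrCharacter_of_hom (R.ν ^ s.val) using 1
  funext c
  simp [lam]

theorem lam_class (s : ZMod p) : IsClassFunction Cx (R.lam s) :=
  isClassFunction_of_isCharacter (isCharacter_of_irr (R.lam_isIrr s))

theorem lam_one (s : ZMod p) : R.lam s 1 = 1 := by simp [lam]

theorem lam_of_mem_ker (s : ZMod p) {c : Cx} (hc : c ∈ R.ν.ker) : R.lam s c = 1 := by
  simp [lam, MonoidHom.mem_ker.1 hc]

theorem lam_zero (c : Cx) : R.lam 0 c = 1 := by simp [lam]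

theorem lam_pow_mul (s : ZMod p) (i : ℕ) {k : Cx} (hk : k ∈ R.ν.ker) :
    R.lam s (xC x ^ i * k) = ((R.ν (xC x) : ℂˣ) : ℂ) ^ ((i : ZMod p) * s).val := by
  have hω : ((R.ν (xC x) : ℂˣ) : ℂ) ^ p = 1 := by
    rw [← Units.val_pow_eq_pow_val, R.hpow, Units.val_one]
  simp only [lam, map_mul, map_pow, MonoidHom.mem_ker.1 hk, mul_one, Units.val_pow_eq_pow_val]
  rw [← pow_mul, ZMod.val_mul, ZMod.val_natCast, Nat.mod_mul_mod, ← pow_eq_pow_mod _ hω]

theorem lam_injective {s v : ZMod p} (h : R.lam s = R.lam v) : s = v := by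
  haveI : NeZero p := ⟨hp.out.ne_zero⟩
  have h1 := congrFun h (xC x)
  simp only [lam, ← Units.val_pow_eq_pow_val] at h1
  exact ZMod.val_injective p (R.prim.pow_inj (ZMod.val_lt s) (ZMod.val_lt v) (Units.ext h1))

theorem classInner_lam (s v : ZMod p) :
    classInner (R.lam s) (R.lam v) = if s = v then 1 else 0 := by
  by_cases h : s = v
  · rw [if_pos h, h, classInner_irr_self (R.lam_isIrr v)]
  · rw [if_neg h, classInner_irr_ne (R.lam_isIrr s) (R.lam_isIrr v) fun e => h (R.lam_injective e)]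

/-- Difference of two linear characters paired with a function. -/
theorem classInner_lam_sub (s v : ZMod p) (F : Cx → ℂ) :
    classInner (R.lam s - R.lam v) F = (Nat.card Cx : ℂ)⁻¹ * ∑ i : Fin p,
      (((R.ν (xC x) : ℂˣ) : ℂ) ^ (((i : ℕ) : ZMod p) * s).val -
        ((R.ν (xC x) : ℂˣ) : ℂ) ^ (((i : ℕ) : ZMod p) * v).val) *
        ∑ k : R.ν.ker, conj (F (xC x ^ (i : ℕ) * k)) := by
  unfold classInner
  rw [R.sum_split]
  congr 1
  refine Finset.sum_congr rfl fun i _ => ?_
  rw [Finset.mul_sum]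
  refine Finset.sum_congr rfl fun k _ => ?_
  rw [Pi.sub_apply, R.lam_pow_mul s i k.2, R.lam_pow_mul v i k.2]

theorem exists_exponent : ∃ h : Subgroup.normalizer (Subgroup.zpowers x : Set G) →* (ZMod p)ˣ,
    ∀ y : Subgroup.normalizer (Subgroup.zpowers x : Set G),
      (y : G) * x * (y : G)⁻¹ = x ^ ((h y : ZMod p)).val := by
  haveI : NeZero p := ⟨hp.out.ne_zero⟩
  have key : ∀ y : Subgroup.normalizer (Subgroup.zpowers x : Set G),
      ∃ j : ZMod p, (y : G) * x * (y : G)⁻¹ = x ^ j.val := by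
    intro y
    obtain ⟨j, hj⟩ := mem_powers_iff_mem_zpowers.2
      ((Subgroup.mem_normalizer_iff.1 y.2 x).1 (Subgroup.mem_zpowers x))
    refine ⟨(j : ZMod p), hj.symm.trans ?_⟩
    show x ^ j = _
    rw [ZMod.val_natCast]
    exact pow_eq_pow_mod j (orderOf_dvd_iff_pow_eq_one.1 R.hox.dvd)
  choose j hj using key
  have huniq : ∀ {a b : ZMod p}, x ^ a.val = x ^ b.val → a = b := by
    intro a b h
    rw [pow_inj_mod, R.hox, Nat.mod_eq_of_lt (ZMod.val_lt a), Nat.mod_eq_of_lt (ZMod.val_lt b)] at h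
    exact ZMod.val_injective p h
  let f : Subgroup.normalizer (Subgroup.zpowers x : Set G) →* ZMod p :=
    { toFun := j
      map_one' := huniq (by rw [← hj 1, ZMod.val_one, pow_one]; simp)
      map_mul' := fun a b => huniq (by
        rw [← hj (a * b), Subgroup.coe_mul,
          show (a : G) * b * x * ((a : G) * b)⁻¹ = a * ((b : G) * x * (b : G)⁻¹) * (a : G)⁻¹ by group,
          hj b, ← conj_pow, hj a, ← pow_mul, ZMod.val_mul]
        exact pow_eq_pow_mod _ (orderOf_dvd_iff_pow_eq_one.1 R.hox.dvd)) }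
  exact ⟨f.toHomUnits, fun y => hj y⟩

/-- The exponents of conjugation on `⟨x⟩`. -/
def hN : Subgroup.normalizer (Subgroup.zpowers x : Set G) →* (ZMod p)ˣ :=
  Classical.choose R.exists_exponent

theorem hN_spec (y : Subgroup.normalizer (Subgroup.zpowers x : Set G)) :
    (y : G) * x * (y : G)⁻¹ = x ^ ((R.hN y : ZMod p)).val :=
  Classical.choose_spec R.exists_exponent y

theorem ker_hN : R.hN.ker = (Cx).subgroupOf (Subgroup.normalizer (Subgroup.zpowers x : Set G)) := by
  haveI : NeZero p := ⟨hp.out.ne_zero⟩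
  ext y
  rw [MonoidHom.mem_ker, Subgroup.mem_subgroupOf, Subgroup.mem_centralizer_singleton_iff]
  constructor
  · intro h
    have := R.hN_spec y
    rw [h, Units.val_one, ZMod.val_one, pow_one, mul_inv_eq_iff_eq_mul] at this
    exact this
  · intro h
    have h1 := R.hN_spec y
    rw [h, mul_inv_cancel_right] at h1
    have h2 : x ^ (1 : ℕ) = x ^ ((R.hN y : ZMod p)).val := by rw [pow_one]; exact h1
    rw [pow_inj_mod, R.hox, Nat.mod_eq_of_lt (ZMod.val_lt _), Nat.mod_eq_of_lt hp.out.one_lt] at h2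
    refine Units.ext (ZMod.val_injective p ?_)
    rw [Units.val_one, ZMod.val_one, ← h2]

theorem cent_le_normalizer : Cx ≤ Subgroup.normalizer (Subgroup.zpowers x : Set G) := by
  rw [← Subgroup.centralizer_closure, ← Subgroup.zpowers_eq_closure]
  exact Subgroup.centralizer_le_normalizer _

theorem card_ker_hN : Nat.card R.hN.ker = Nat.card Cx := by
  rw [R.ker_hN]
  exact Nat.card_congr (Subgroup.subgroupOfEquivOfLe R.cent_le_normalizer).toEquiv

theorem lam_conj (s : ZMod p) (y : Subgroup.normalizer (Subgroup.zpowers x : Set G)) (c : Cx) :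
    R.lam s ⟨(y : G) * c * (y : G)⁻¹, R.normalizer_le y.2 c.2⟩ = R.lam (s * (R.hN y : ZMod p)) c := by
  obtain ⟨i, -, k, hk, rfl⟩ := R.exists_decomp c
  have hk' : (⟨(y : G) * k * (y : G)⁻¹, R.normalizer_le y.2 k.2⟩ : Cx) ∈ R.ν.ker := by
    rw [R.mem_ker_iff, ← Subgroup.orderOf_coe]
    have : orderOf ((y : G) * k * (y : G)⁻¹) = orderOf k := by
      rw [← Subgroup.orderOf_coe k]
      exact orderOf_injective (MulAut.conj (y : G)).toMonoidHom (MulAut.conj (y : G)).injective k
    rw [this]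
    exact (R.mem_ker_iff k).1 hk
  have e : (⟨(y : G) * ((xC x ^ i * k : Cx) : G) * (y : G)⁻¹,
      R.normalizer_le y.2 (xC x ^ i * k).2⟩ : Cx) =
      xC x ^ ((R.hN y : ZMod p).val * i) *
        ⟨(y : G) * k * (y : G)⁻¹, R.normalizer_le y.2 k.2⟩ := by
    refine Subtype.ext ?_
    simp only [Subgroup.coe_mul, SubmonoidClass.coe_pow]
    rw [show ((xC x : Cx) : G) = x from rfl, pow_mul, ← R.hN_spec, conj_pow]
    group
  rw [e, R.lam_pow_mul _ _ hk', R.lam_pow_mul _ _ hk, Nat.cast_mul, ZMod.natCast_zmod_val]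
  congr 2
  ring

/-- The restriction to `C(x)` of the induced difference of two linear characters. -/
theorem res_ind (s v : ZMod p) (c : Cx) :
    indFun Cx (R.lam s - R.lam v) c = (Nat.card Cx : ℂ)⁻¹ *
      ∑ y : Subgroup.normalizer (Subgroup.zpowers x : Set G),
        (R.lam (s * (R.hN y : ZMod p)) c - R.lam (v * (R.hN y : ZMod p)) c) := by
  rw [CfsgLib.Induction.indFun_apply]
  congr 1
  by_cases hc : c ∈ R.ν.ker
  · rw [Finset.sum_eq_zero, Finset.sum_eq_zero]
    · intro y _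
      rw [R.lam_of_mem_ker _ hc, R.lam_of_mem_ker _ hc, sub_self]
    · intro y _
      by_cases hy : y⁻¹ * (c : G) * y ∈ Cx
      · rw [CfsgLib.Induction.extendByZero_mem _ _ hy, Pi.sub_apply]
        have hk : (⟨y⁻¹ * (c : G) * y, hy⟩ : Cx) ∈ R.ν.ker := by
          rw [R.mem_ker_iff, ← Subgroup.orderOf_coe]
          have : orderOf (y⁻¹ * (c : G) * y) = orderOf c := by
            rw [← Subgroup.orderOf_coe c]
            have h := orderOf_injective (MulAut.conj y⁻¹).toMonoidHom (MulAut.conj y⁻¹).injective c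
            simpa using h
          rw [this]
          exact (R.mem_ker_iff c).1 hc
        rw [R.lam_of_mem_ker _ hk, R.lam_of_mem_ker _ hk, sub_self]
      · rw [CfsgLib.Induction.extendByZero_notMem _ _ hy]
  · rw [← Equiv.sum_comp (Equiv.inv G)]
    refine (Fintype.sum_of_injective
      (fun y : Subgroup.normalizer (Subgroup.zpowers x : Set G) => (y : G))
      Subtype.val_injective _ _ ?_ ?_).symm
    · intro y hy
      simp only [Equiv.inv_apply, inv_inv]
      refine CfsgLib.Induction.extendByZero_notMem _ _ fun h => hy ?_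
      exact ⟨⟨y, R.mem_normalizer_of_conj hc h⟩, rfl⟩
    · intro y
      simp only [Equiv.inv_apply, inv_inv]
      rw [CfsgLib.Induction.extendByZero_mem _ _ (R.normalizer_le y.2 c.2), Pi.sub_apply,
        R.lam_conj, R.lam_conj]

/-- The number of elements of the normalizer carrying `v` to `s`, divided by `#C(x)`. -/
def W (s v : ZMod p) : ℂ := (Nat.card Cx : ℂ)⁻¹ *
  ∑ y : Subgroup.normalizer (Subgroup.zpowers x : Set G),
    if s = v * (R.hN y : ZMod p) then 1 else 0

theorem classInner_ind (s u v w : ZMod p) :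
    classInner (indFun Cx (R.lam s - R.lam u)) (indFun Cx (R.lam v - R.lam w)) =
      R.W s v - R.W u v - (R.W s w - R.W u w) := by
  rw [CfsgLib.Induction.classInner_indFun _ _ (CfsgLib.Induction.isClassFunction_indFun _ _)]
  have h : (fun c : Cx => indFun Cx (R.lam v - R.lam w) c) = (Nat.card Cx : ℂ)⁻¹ •
      ∑ y : Subgroup.normalizer (Subgroup.zpowers x : Set G),
        (R.lam (v * (R.hN y : ZMod p)) - R.lam (w * (R.hN y : ZMod p))) := by
    funext c
    rw [R.res_ind, Pi.smul_apply, Finset.sum_apply, smul_eq_mul]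
    rfl
  rw [h, classInner_smul_right, classInner_sum_right]
  simp only [classInner_sub_right, classInner_sub_left, R.classInner_lam, map_inv₀, map_natCast, W]
  simp only [Finset.sum_sub_distrib]
  ring

theorem W_zero_zero : R.W 0 0 =
    (Nat.card (Subgroup.normalizer (Subgroup.zpowers x : Set G)) : ℂ) / Nat.card Cx := by
  simp [W, Finset.card_univ, ← Nat.card_eq_fintype_card, div_eq_inv_mul]

theorem W_zero_unit (v : (ZMod p)ˣ) : R.W 0 v = 0 := by
  simp only [W, mul_eq_zero]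
  right
  refine Finset.sum_eq_zero fun y _ => if_neg fun h => ?_
  exact (v * R.hN y).ne_zero (by rw [Units.val_mul]; exact h.symm)

theorem W_unit_zero (s : (ZMod p)ˣ) : R.W s 0 = 0 := by
  simp only [W, mul_eq_zero]
  right
  refine Finset.sum_eq_zero fun y _ => if_neg fun h => ?_
  exact s.ne_zero (by rw [h, zero_mul])

theorem W_units (s v : (ZMod p)ˣ) :
    R.W s v = if (s : (ZMod p)ˣ ⧸ R.hN.range) = v then 1 else 0 := by
  split_ifs with h
  · have h' : v⁻¹ * s ∈ R.hN.range := QuotientGroup.eq.1 h.symm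
    obtain ⟨y₀, hy₀⟩ := h'
    have hfib : ∀ y, ((s : ZMod p) = (v : ZMod p) * (R.hN y : ZMod p)) ↔ y₀⁻¹ * y ∈ R.hN.ker := by
      intro y
      rw [MonoidHom.mem_ker, map_mul, map_inv, hy₀, mul_inv_rev, inv_inv, mul_assoc,
        ← Units.val_mul, Units.val_inj]
      constructor
      · intro e
        rw [← e, inv_mul_cancel]
      · intro e
        exact inv_mul_eq_one.1 e
    simp only [W, hfib, Finset.sum_boole]
    rw [← Fintype.card_subtype, ← Nat.card_eq_fintype_card]
    have hc : Nat.card {y // y₀⁻¹ * y ∈ R.hN.ker} = Nat.card Cx := by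
      rw [← R.card_ker_hN]
      exact Nat.card_congr ((Equiv.mulLeft y₀⁻¹).subtypeEquiv fun _ => Iff.rfl)
    rw [hc, inv_mul_cancel₀ (Nat.cast_ne_zero.2 Nat.card_pos.ne')]
  · simp only [W, mul_eq_zero]
    right
    refine Finset.sum_eq_zero fun y _ => if_neg fun e => h ?_
    have hsv : s = v * R.hN y := Units.ext (by rw [Units.val_mul]; exact e)
    have hm : v⁻¹ * s ∈ R.hN.range := ⟨y, by rw [hsv, inv_mul_cancel_left]⟩
    exact (QuotientGroup.eq.2 hm).symm

/-- The multiplicity of `lam s` in the restriction of `ψ` to `C(x)`. -/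
theorem exists_mult_cx (s : ZMod p) (ψ : IrrCharacter G) :
    ∃ m : ℕ, classInner (R.lam s) (fun c : Cx => (ψ : G → ℂ) c) = m :=
  classInner_char_nat (isCharacter_of_irr (R.lam_isIrr s))
    (CfsgLib.Clifford.isCharacter_subtype (irr_isCharacter ψ) _)

def bm (s : ZMod p) (ψ : IrrCharacter G) : ℕ := Classical.choose (R.exists_mult_cx s ψ)

theorem bm_spec (s : ZMod p) (ψ : IrrCharacter G) :
    classInner (R.lam s) (fun c : Cx => (ψ : G → ℂ) c) = R.bm s ψ :=
  Classical.choose_spec (R.exists_mult_cx s ψ)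

theorem classInner_ind_irr (s v : ZMod p) (ψ : IrrCharacter G) :
    classInner (indFun Cx (R.lam s - R.lam v)) (ψ : G → ℂ) =
      (((R.bm s ψ : ℤ) - R.bm v ψ : ℤ) : ℂ) := by
  rw [CfsgLib.Induction.classInner_indFun _ _ (irr_isClassFunction ψ), classInner_sub_left,
    R.bm_spec, R.bm_spec]
  push_cast
  rfl

theorem isGeneralized_ind (s v : ZMod p) :
    IsGeneralizedCharacter G (indFun Cx (R.lam s - R.lam v)) := by
  rw [CfsgLib.Induction.indFun_sub]
  exact isGeneralizedCharacter_sub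
    (isGeneralizedCharacter_of_isCharacter
      (CfsgLib.Induction.isCharacter_indFun _ (isCharacter_of_irr (R.lam_isIrr s))))
    (isGeneralizedCharacter_of_isCharacter
      (CfsgLib.Induction.isCharacter_indFun _ (isCharacter_of_irr (R.lam_isIrr v))))

/-- The `p`-multiplicities: restriction of `ψ` to `⟨x⟩`. -/
theorem exists_pmult (ψ : IrrCharacter G) (s : ZMod p) :
    ∃ m : ℕ, (p : ℂ)⁻¹ * ∑ i : Fin p, ((R.ν (xC x) : ℂˣ) : ℂ) ^ (((i : ℕ) : ZMod p) * s).val *
      conj ((ψ : G → ℂ) (x ^ (i : ℕ))) = m := by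
  obtain ⟨m, hm⟩ := classInner_char_nat (G := Subgroup.zpowers (xC x))
    (CfsgLib.Clifford.isCharacter_subtype (isCharacter_of_irr (R.lam_isIrr s)) _)
    (CfsgLib.Clifford.isCharacter_subtype
      (CfsgLib.Clifford.isCharacter_subtype (irr_isCharacter ψ) Cx) _)
  refine ⟨m, hm ▸ ?_⟩
  unfold classInner
  rw [Nat.card_zpowers, R.orderOf_xC]
  congr 1
  have hbij : Function.Bijective fun i : Fin p => (⟨xC x ^ (i : ℕ),
      Subgroup.pow_mem _ (Subgroup.mem_zpowers (xC x)) _⟩ : Subgroup.zpowers (xC x)) := by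
    constructor
    · intro i j h
      have h' := congrArg Subtype.val h
      simp only at h'
      rw [pow_inj_mod, R.orderOf_xC, Nat.mod_eq_of_lt i.2, Nat.mod_eq_of_lt j.2] at h'
      exact Fin.ext h'
    · rintro ⟨a, ha⟩
      obtain ⟨j, rfl⟩ := mem_powers_iff_mem_zpowers.2 ha
      refine ⟨⟨j % p, Nat.mod_lt _ hp.out.pos⟩, Subtype.ext ?_⟩
      simp only
      nth_rw 1 [← R.orderOf_xC]
      exact pow_mod_orderOf _ _
  refine Fintype.sum_bijective _ hbij _ _ fun i => ?_
  have h1 := R.lam_pow_mul s (i : ℕ) R.ν.ker.one_mem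
  rw [mul_one] at h1
  rw [← h1]
  rfl

def pm (s : ZMod p) (ψ : IrrCharacter G) : ℕ := Classical.choose (R.exists_pmult ψ s)

theorem pm_spec (s : ZMod p) (ψ : IrrCharacter G) :
    (p : ℂ)⁻¹ * ∑ i : Fin p, ((R.ν (xC x) : ℂˣ) : ℂ) ^ (((i : ℕ) : ZMod p) * s).val *
      conj ((ψ : G → ℂ) (x ^ (i : ℕ))) = R.pm s ψ :=
  Classical.choose_spec (R.exists_pmult ψ s)

theorem sum_pm (ψ : IrrCharacter G) :
    ((∑ s : ZMod p, R.pm s ψ : ℕ) : ℂ) = (ψ : G → ℂ) 1 := by
  haveI : NeZero p := ⟨hp.out.ne_zero⟩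
  push_cast
  simp only [← R.pm_spec]
  rw [← Finset.mul_sum, Finset.sum_comm, Finset.sum_eq_single (⟨0, hp.out.pos⟩ : Fin p)]
  · simp only [Nat.cast_zero, zero_mul, ZMod.val_zero, pow_zero, one_mul, Finset.sum_const,
      Finset.card_univ, ZMod.card, nsmul_eq_mul]
    rw [← mul_assoc, inv_mul_cancel₀ (Nat.cast_ne_zero.2 hp.out.ne_zero), one_mul]
    rw [← irr_apply_inv, inv_one]
  · intro i _ hi
    rw [← Finset.sum_mul]
    refine mul_eq_zero_of_left ?_ _
    have hi0 : ((i : ℕ) : ZMod p) ≠ 0 := by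
      rw [Ne, ZMod.natCast_eq_zero_iff]
      intro h
      exact hi (Fin.ext (Nat.eq_zero_of_dvd_of_lt h i.2))
    have hcomp : ∑ s : ZMod p, ((R.ν (xC x) : ℂˣ) : ℂ) ^ (((i : ℕ) : ZMod p) * s).val =
        ∑ s : ZMod p, ((R.ν (xC x) : ℂˣ) : ℂ) ^ s.val :=
      Equiv.sum_comp (Equiv.mulLeft₀ _ hi0) fun s : ZMod p => ((R.ν (xC x) : ℂˣ) : ℂ) ^ s.val
    rw [hcomp]
    rw [show (∑ s : ZMod p, ((R.ν (xC x) : ℂˣ) : ℂ) ^ s.val) =
        ∑ j ∈ Finset.range p, ((R.ν (xC x) : ℂˣ) : ℂ) ^ j from ?_]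
    · exact (IsPrimitiveRoot.coe_units_iff.2 R.prim).geom_sum_eq_zero hp.out.one_lt
    · refine Finset.sum_bij (fun s _ => s.val) (fun s _ => Finset.mem_range.2 (ZMod.val_lt s))
        (fun a _ b _ h => ZMod.val_injective p h)
        (fun j hj => ⟨(j : ZMod p), Finset.mem_univ _, ZMod.val_natCast_of_lt (Finset.mem_range.1 hj)⟩)
        fun _ _ => rfl
  · intro h; exact absurd (Finset.mem_univ _) h

theorem centralizer_pow {i : ℕ} (hi : ¬ p ∣ i) :
    Subgroup.centralizer ({x ^ i} : Set G) = Cx := by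
  obtain ⟨r, hr⟩ := exists_pow_eq_self_of_coprime (x := x) (n := i) (by
    rw [R.hox]; exact (hp.out.coprime_iff_not_dvd.2 hi).symm)
  ext g
  simp only [Subgroup.mem_centralizer_singleton_iff]
  constructor
  · intro h
    rw [← hr]
    exact ((show Commute g (x ^ i) from h).pow_right r).eq
  · intro h
    exact ((show Commute g x from h).pow_right i).eq

variable {M : Ideal AlgInt}

/-- Characters of the principal block are constant on `x ^ i O_{p'}(C(x))`. -/
theorem principal_value (hM : IsPModular p M) {ψ : IrrCharacter G} (hψ : ψ ∈ principalBlock M G)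
    {i : ℕ} (hi : ¬ p ∣ i) {k : Cx} (hk : k ∈ R.ν.ker) :
    (ψ : G → ℂ) ((xC x ^ i * k : Cx) : G) = (ψ : G → ℂ) (x ^ i) := by
  have hC := R.centralizer_pow hi
  let e : Subgroup.centralizer ({x ^ i} : Set G) ≃* Cx := MulEquiv.subgroupCongr hC
  let N : Subgroup (Subgroup.centralizer ({x ^ i} : Set G)) := R.ν.ker.comap e.toMonoidHom
  haveI : N.Normal := (inferInstance : R.ν.ker.Normal).comap _
  have hN : ¬ p ∣ Nat.card N := by
    have : Nat.card N = Nat.card R.ν.ker :=
      Nat.card_congr (e.toEquiv.subtypeEquiv fun _ => Iff.rfl)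
    rw [this]; exact R.not_dvd_card_ker
  have hv : e.symm k ∈ N := by simpa [N] using hk
  exact CfsgLib.Blocks.principal_apply_mul hM ⟨1, by
    rw [pow_one]
    refine orderOf_eq_prime ?_ fun h => ?_
    · rw [← pow_mul, mul_comm, pow_mul, orderOf_dvd_iff_pow_eq_one.1 R.hox.dvd, one_pow]
    · exact hi (R.hox ▸ orderOf_dvd_of_pow_eq_one h)⟩ hN hv hψ

/-- Characters outside the principal block sum to zero on `x ^ i O_{p'}(C(x))`. -/
theorem nonprincipal_value (hM : IsPModular p M) {ψ : IrrCharacter G}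
    (hψ : ψ ∉ principalBlock M G) {i : ℕ} (hi : ¬ p ∣ i) :
    ∑ k : R.ν.ker, (ψ : G → ℂ) ((xC x ^ i * k : Cx) : G) = 0 := by
  have hC := R.centralizer_pow hi
  set H := Subgroup.centralizer ({x ^ i} : Set G)
  let e : H ≃* Cx := MulEquiv.subgroupCongr hC
  have hord : orderOf (x ^ i) = p := by
    refine orderOf_eq_prime ?_ fun h => hi (R.hox ▸ orderOf_dvd_of_pow_eq_one h)
    rw [← pow_mul, mul_comm, pow_mul, orderOf_dvd_iff_pow_eq_one.1 R.hox.dvd, one_pow]
  -- the normal `p`-complement of the centralizer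
  set N : Subgroup H := R.ν.ker.comap e.toMonoidHom
  haveI : N.Normal := (inferInstance : R.ν.ker.Normal).comap _
  have hcN : Nat.card N = Nat.card R.ν.ker :=
    Nat.card_congr (e.toEquiv.subtypeEquiv fun _ => Iff.rfl)
  have hcop : (Nat.card N).Coprime p := by
    rw [hcN]; exact (hp.out.coprime_iff_not_dvd.2 R.not_dvd_card_ker).symm
  have hmemN : ∀ g : H, ¬ p ∣ orderOf g → g ∈ N := by
    intro g hg
    show e g ∈ R.ν.ker
    rw [R.mem_ker_iff, MulEquiv.orderOf_eq]
    exact hg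
  have hNeq : pPrimeCore p H = N := by
    refine le_antisymm (fun g hg => hmemN g fun hd => ?_)
      (CfsgLib.PCore.le_pPrimeCore ‹N.Normal› hcop)
    refine (CfsgLib.PCore.not_dvd_card_pPrimeCore (G := H) (p := p)) (hd.trans ?_)
    rw [← Subgroup.orderOf_mk g hg]
    exact orderOf_dvd_natCard _
  have hnc : ∃ k : ℕ, (pPrimeCore p H).index = p ^ k := by
    refine ⟨1, ?_⟩
    rw [hNeq, pow_one, Subgroup.index_comap_of_surjective _ e.surjective, Subgroup.index_ker]
    have h1 := R.ν.ker.card_mul_index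
    rw [Subgroup.index_ker, R.card_eq, mul_comm p] at h1
    exact Nat.eq_of_mul_eq_mul_left Nat.card_pos h1
  have hb := Cfsg.Agent.S0939.result p M hM hnc
  haveI : (pPrimeCore p H).Normal := pPrimeCore_normal p H
  have hval : ∀ χ : IrrCharacter H, CfsgLib.Blocks.omega (χ : H → ℂ) (CfsgLib.Blocks.avgElt (pPrimeCore p H)) =
      if χ ∈ principalBlock M H then 1 else 0 := by
    intro χ
    have h3 : CfsgLib.Blocks.omega (χ : H → ℂ) (CfsgLib.Blocks.avgElt (pPrimeCore p H)) *
        CfsgLib.Blocks.omega (χ : H → ℂ) (CfsgLib.Blocks.avgElt (pPrimeCore p H)) =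
        CfsgLib.Blocks.omega (χ : H → ℂ) (CfsgLib.Blocks.avgElt (pPrimeCore p H)) := by
      rw [← CfsgLib.Blocks.omega_mul χ (CfsgLib.Blocks.avgElt_mem_center _),
        CfsgLib.Blocks.isIdempotentElem_avgElt (pPrimeCore p H)]
    split_ifs with hχ
    · rw [hb] at hχ
      rw [CfsgLib.Blocks.omega_avgElt,
        Finset.sum_congr rfl (fun x hx => hχ x (Finset.mem_filter.1 hx).2), Finset.sum_const,
        nsmul_eq_mul, ← Fintype.card_subtype, ← Nat.card_eq_fintype_card,
        mul_div_cancel_left₀ _ (Nat.cast_ne_zero.2 Nat.card_pos.ne'),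
        div_self (irr_one_ne_zero χ)]
    · refine (mul_left_eq_self₀.1 h3).resolve_left fun h4 => hχ ?_
      rw [hb]
      exact fun n hn => CfsgLib.Blocks.apply_eq_one_of_omega_avgElt h4 hn
  have hB₀ : IsPBlock M (principalBlock M H) := CfsgLib.Blocks.isPBlock_principalBlock M
  have hx' : ∃ k : ℕ, orderOf (x ^ i) = p ^ k := ⟨1, by rw [hord, pow_one]⟩
  have h1 : ¬ p ∣ orderOf (1 : H) := by rw [orderOf_one]; exact hM.1.not_dvd_one
  have hzero := CfsgLib.Blocks.blockPart_sectionFun_eq_zero hM hx' hB₀ (χ := ψ) (fun hind => hψ ?_)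
    h1
  · rw [← CfsgLib.Blocks.sum_blockCoeff_mul_eq_blockPart _
      (CfsgLib.Blocks.isClassFunction_sectionFun (irr_isClassFunction ψ))] at hzero
    have hcoeff : ∀ g : H, blockCoeff (principalBlock M H) g =
        if g ∈ pPrimeCore p H then (Nat.card (pPrimeCore p H) : ℂ)⁻¹ else 0 := by
      intro g
      have h5 := congrArg (fun w : MonoidAlgebra ℂ H => w.coeff g)
        (CfsgLib.Blocks.eq_blockIdem (CfsgLib.Blocks.avgElt_mem_center (pPrimeCore p H)) hval)
      simp only [CfsgLib.Blocks.coeff_blockIdem, CfsgLib.Blocks.avgElt, CfsgLib.Blocks.coeff_ofFun]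
        at h5
      exact h5.symm
    simp only [hcoeff, hNeq, ite_mul, zero_mul, mul_one, CfsgLib.Blocks.sectionFun] at hzero
    rw [← Finset.sum_filter, ← Finset.mul_sum, mul_eq_zero] at hzero
    have h6 := hzero.resolve_left (inv_ne_zero (Nat.cast_ne_zero.2 Nat.card_pos.ne'))
    rw [Finset.sum_subtype (p := fun g => g ∈ N) (Finset.univ.filter (· ∈ N)) (fun g => by simp)] at h6
    rw [← h6]
    exact (Fintype.sum_equiv (e.toEquiv.subtypeEquiv fun _ => Iff.rfl) _ _ fun _ => rfl).symm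
  · obtain ⟨B', hB'⟩ := CfsgLib.Blocks.inducedBlockDefined_centralizer hM hx' hB₀
    have h2 := CfsgLib.Blocks.IsInducedBlock.unique hM hind
      ((CfsgLib.Blocks.isInducedBlock_principal_iff hM _ ⟨B', hB'⟩).2 rfl)
    rw [← h2]
    exact CfsgLib.Blocks.mem_blockOf_self hM ψ

/-- Within the principal block the multiplicities on `C(x)` and on `⟨x⟩` differ by a constant. -/
theorem bm_sub (hM : IsPModular p M) (s : ZMod p) (ψ : IrrCharacter G) :
    (ψ ∈ principalBlock M G → (R.bm s ψ : ℤ) - R.bm 0 ψ = (R.pm s ψ : ℤ) - R.pm 0 ψ) ∧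
      (ψ ∉ principalBlock M G → R.bm s ψ = R.bm 0 ψ) := by
  have hb : (((R.bm s ψ : ℤ) - R.bm 0 ψ : ℤ) : ℂ) =
      classInner (R.lam s - R.lam 0) (fun c : Cx => (ψ : G → ℂ) c) := by
    rw [classInner_sub_left, R.bm_spec, R.bm_spec]; push_cast; rfl
  rw [R.classInner_lam_sub] at hb
  have hnd : ∀ i : Fin p, (i : ℕ) ≠ 0 → ¬ p ∣ (i : ℕ) := fun i hi h =>
    hi (Nat.eq_zero_of_dvd_of_lt h i.2)
  refine ⟨fun hψ => ?_, fun hψ => ?_⟩
  · have hc : ((p : ℂ)) * Nat.card R.ν.ker = Nat.card Cx := by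
      rw [R.card_eq]; push_cast; rfl
    have h' : (((R.bm s ψ : ℤ) - R.bm 0 ψ : ℤ) : ℂ) = (((R.pm s ψ : ℤ) - R.pm 0 ψ : ℤ) : ℂ) := by
      rw [hb]
      push_cast
      rw [← R.pm_spec, ← R.pm_spec, ← mul_sub, ← Finset.sum_sub_distrib, ← hc, mul_inv, mul_assoc]
      congr 1
      rw [Finset.mul_sum]
      refine Finset.sum_congr rfl fun i _ => ?_
      by_cases hi : (i : ℕ) = 0
      · simp [hi]
      · have h1 : ∀ k : R.ν.ker, conj ((ψ : G → ℂ) ((xC x ^ (i : ℕ) * k : Cx) : G)) =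
            conj ((ψ : G → ℂ) (x ^ (i : ℕ))) := fun k => by
          rw [R.principal_value hM hψ (hnd i hi) k.2]
        simp only [Subgroup.coe_mul, SubmonoidClass.coe_pow] at h1
        rw [Finset.sum_congr rfl fun k _ => h1 k, Finset.sum_const, Finset.card_univ,
          ← Nat.card_eq_fintype_card, nsmul_eq_mul]
        have hK : ((Nat.card R.ν.ker : ℕ) : ℂ) ≠ 0 := Nat.cast_ne_zero.2 Nat.card_pos.ne'
        field_simp
    exact_mod_cast h'
  · have h' : (((R.bm s ψ : ℤ) - R.bm 0 ψ : ℤ) : ℂ) = ((0 : ℤ) : ℂ) := by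
      rw [hb, Finset.sum_eq_zero, mul_zero, Int.cast_zero]
      intro i _
      by_cases hi : (i : ℕ) = 0
      · simp [hi]
      · rw [← map_sum, R.nonprincipal_value hM hψ (hnd i hi), map_zero, mul_zero]
    have h'' : (R.bm s ψ : ℤ) - R.bm 0 ψ = 0 := by exact_mod_cast h'
    omega

/-- A character with a fixed vector of `C(x)` has a linear constituent of `N(⟨x⟩)` trivial on
`C(x)`. -/
theorem exists_linear (ψ : IrrCharacter G) (h : R.bm 0 ψ ≠ 0) :
    ∃ η : IrrCharacter (Subgroup.normalizer (Subgroup.zpowers x : Set G)),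
      (η : Nx → ℂ) 1 = 1 ∧ (∀ c ∈ R.hN.ker, (η : Nx → ℂ) c = 1) ∧
      classInner (η : Nx → ℂ) (fun y : Subgroup.normalizer (Subgroup.zpowers x : Set G) =>
        (ψ : G → ℂ) y) ≠ 0 := by
  set res : Nx → ℂ := fun y => (ψ : G → ℂ) y with hres
  have hchar : IsCharacter Nx res := CfsgLib.Clifford.isCharacter_subtype (irr_isCharacter ψ) _
  set H := R.hN.ker
  have hres1 : CfsgLib.NormalAvg.avgN H res 1 ≠ 0 := by
    have e : CfsgLib.NormalAvg.avgN H res 1 = conj (R.bm 0 ψ : ℂ) := by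
      rw [← R.bm_spec]
      unfold CfsgLib.NormalAvg.avgN classInner
      rw [map_mul, map_inv₀, map_natCast, map_sum, R.card_ker_hN]
      congr 1
      have hmemC : ∀ n : H, ((n : Nx) : G) ∈ Cx := fun n => by
        have := n.2
        simp only [H, R.ker_hN, Subgroup.mem_subgroupOf] at this
        exact this
      refine Fintype.sum_bijective (fun n : H => (⟨((n : Nx) : G), hmemC n⟩ : Cx)) ⟨?_, ?_⟩ _ _
        fun n => ?_
      · intro a b hab
        exact Subtype.ext (Subtype.ext (congrArg (Subtype.val : Cx → G) hab))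
      · intro c
        refine ⟨⟨⟨c, R.cent_le_normalizer c.2⟩, ?_⟩, rfl⟩
        simp only [H, R.ker_hN, Subgroup.mem_subgroupOf]
        exact c.2
      · simp [res, R.lam_zero]
    rw [e, map_natCast]
    exact_mod_cast h
  obtain ⟨m, hm, hsum⟩ := CfsgLib.Clifford.exists_mult hchar
  obtain ⟨η, hη, hηH⟩ : ∃ η : IrrCharacter Nx, m η ≠ 0 ∧
      CfsgLib.NormalAvg.avgN H (η : Nx → ℂ) ≠ 0 := by
    by_contra hne
    push Not at hne
    refine hres1 ?_
    rw [hsum, CfsgLib.NormalAvg.avgN_sum, Finset.sum_apply]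
    refine Finset.sum_eq_zero fun ξ _ => ?_
    by_cases h0 : m ξ = 0
    · simp [h0]
    · simp [hne ξ h0]
  have hav := (CfsgLib.NormalAvg.avgN_irr H η.2).resolve_right hηH
  have hconst : ∀ c ∈ H, (η : Nx → ℂ) c = (η : Nx → ℂ) 1 := by
    intro c hc
    rw [← hav]
    conv_lhs => rw [show c = ((⟨c, hc⟩ : H) : Nx) * 1 by simp]
    exact CfsgLib.NormalAvg.avgN_mul_left H _ _ _
  have h1 : (η : Nx → ℂ) 1 = 1 := by
    refine CfsgLib.CharMonomial.degree_one_of_commutator η.2 fun a b => hconst _ ?_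
    rw [MonoidHom.mem_ker, map_mul, map_inv, map_mul, map_mul, mul_comm (R.hN b) (R.hN a),
      mul_inv_cancel]
  refine ⟨η, h1, fun c hc => (hconst c hc).trans h1, ?_⟩
  rw [classInner_conj_symm, hm, map_natCast]
  exact_mod_cast hη

/-- A linear constituent trivial on `⟨x⟩` occurs at most as often as `⟨x⟩` has fixed points. -/
theorem mult_le_pm (ψ : IrrCharacter G)
    (η : IrrCharacter (Subgroup.normalizer (Subgroup.zpowers x : Set G)))
    (hη : ∀ c ∈ R.hN.ker, (η : Nx → ℂ) c = 1) {m : ℕ}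
    (hm : classInner (η : Nx → ℂ) (fun y : Subgroup.normalizer (Subgroup.zpowers x : Set G) =>
        (ψ : G → ℂ) y) = m) : m ≤ R.pm 0 ψ := by
  set res : Nx → ℂ := fun y => (ψ : G → ℂ) y with hres
  have hchar : IsCharacter Nx res := CfsgLib.Clifford.isCharacter_subtype (irr_isCharacter ψ) _
  obtain ⟨mu, hmu, hsum⟩ := CfsgLib.Clifford.exists_mult hchar
  have hxN : ∀ i : ℕ, x ^ i ∈ Nx := fun i =>
    R.cent_le_normalizer (Subgroup.pow_mem _ (mem_cent_self x) i)
  -- fixed points of `⟨x⟩` in each constituent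
  have hfix : ∀ ξ : IrrCharacter Nx, ∃ n : ℕ,
      (p : ℂ)⁻¹ * ∑ i : Fin p, conj ((ξ : Nx → ℂ) ⟨x ^ (i : ℕ), hxN i⟩) = n := by
    intro ξ
    set a : Nx := ⟨x, by simpa using hxN 1⟩
    obtain ⟨n, hn⟩ := classInner_char_nat (G := Subgroup.zpowers a)
      (CfsgLib.Induction.isCharacter_const_one)
      (CfsgLib.Clifford.isCharacter_subtype (irr_isCharacter ξ) _)
    refine ⟨n, hn ▸ ?_⟩
    have hoa : orderOf a = p := by rw [← Subgroup.orderOf_coe]; exact R.hox
    unfold classInner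
    rw [Nat.card_zpowers, hoa]
    congr 1
    refine Fintype.sum_bijective (fun i : Fin p => (⟨a ^ (i : ℕ),
      Subgroup.pow_mem _ (Subgroup.mem_zpowers a) _⟩ : Subgroup.zpowers a)) ⟨?_, ?_⟩ _ _ fun i => ?_
    · intro i j h
      have h' := congrArg Subtype.val h
      simp only at h'
      rw [pow_inj_mod, hoa, Nat.mod_eq_of_lt i.2, Nat.mod_eq_of_lt j.2] at h'
      exact Fin.ext h'
    · rintro ⟨b, hb⟩
      obtain ⟨j, rfl⟩ := mem_powers_iff_mem_zpowers.2 hb
      refine ⟨⟨j % p, Nat.mod_lt _ hp.out.pos⟩, Subtype.ext ?_⟩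
      simp only
      nth_rw 1 [← hoa]
      exact pow_mod_orderOf _ _
    · rw [one_mul]
      rfl
  choose n hn using hfix
  have hpm : (R.pm 0 ψ : ℂ) = ((∑ ξ : IrrCharacter Nx, mu ξ * n ξ : ℕ) : ℂ) := by
    rw [← R.pm_spec]
    push_cast
    simp only [mul_zero, ZMod.val_zero, pow_zero, one_mul]
    refine Eq.trans ?_ (Finset.sum_congr rfl fun ξ _ => congrArg (fun z : ℂ => (mu ξ : ℂ) * z) (hn ξ))
    simp only [Finset.mul_sum]
    rw [Finset.sum_comm]
    refine Finset.sum_congr rfl fun i _ => ?_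
    have h := congrArg conj (congrFun hsum ⟨x ^ (i : ℕ), hxN i⟩)
    simp only [res, Finset.sum_apply, Pi.smul_apply, smul_eq_mul, map_sum, map_mul, map_natCast] at h
    rw [h, Finset.mul_sum]
    exact Finset.sum_congr rfl fun ξ _ => by ring
  have hpm' : R.pm 0 ψ = ∑ ξ : IrrCharacter Nx, mu ξ * n ξ := by exact_mod_cast hpm
  have hnη : n η = 1 := by
    have h := hn η
    rw [Finset.sum_eq_card_nsmul (b := 1)] at h
    · rw [Finset.card_univ, Fintype.card_fin, nsmul_one,
        inv_mul_cancel₀ (Nat.cast_ne_zero.2 hp.out.ne_zero)] at h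
      exact_mod_cast h.symm
    · intro i _
      rw [hη _ ?_, map_one]
      rw [R.ker_hN, Subgroup.mem_subgroupOf]
      exact Subgroup.pow_mem _ (mem_cent_self x) _
  have hmη : mu η = m := by
    have h := hmu η
    rw [classInner_conj_symm, hm, map_natCast] at h
    exact_mod_cast h.symm
  rw [hpm']
  refine le_trans ?_ (Finset.single_le_sum (fun ξ _ => Nat.zero_le _) (Finset.mem_univ η))
  rw [hnη, hmη, mul_one]

/-- The induced character of such a constituent is one on `x ^ i O_{p'}(C(x))`. -/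
theorem ind_linear (η : IrrCharacter (Subgroup.normalizer (Subgroup.zpowers x : Set G)))
    (hη : ∀ c ∈ R.hN.ker, (η : Nx → ℂ) c = 1) {c : Cx} (hc : c ∉ R.ν.ker) :
    indFun (Subgroup.normalizer (Subgroup.zpowers x : Set G)) (η : Nx → ℂ) c = 1 := by
  rw [CfsgLib.Induction.indFun_apply, ← Equiv.sum_comp (Equiv.inv G)]
  have hker : ∀ y : Nx, (⟨(y : G) * c * (y : G)⁻¹, mul_mem (mul_mem y.2 (R.cent_le_normalizer c.2))
      (inv_mem y.2)⟩ : Nx) ∈ R.hN.ker := fun y => by
    rw [R.ker_hN, Subgroup.mem_subgroupOf]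
    exact R.normalizer_le y.2 c.2
  have : (∑ y : G, extendByZero Nx (η : Nx → ℂ) ((Equiv.inv G y)⁻¹ * c * Equiv.inv G y)) =
      ∑ _y : Nx, (1 : ℂ) := by
    refine (Fintype.sum_of_injective (fun y : Nx => (y : G)) Subtype.val_injective _ _ ?_ ?_).symm
    · intro y hy
      simp only [Equiv.inv_apply, inv_inv]
      refine CfsgLib.Induction.extendByZero_notMem _ _ fun h => hy ⟨⟨y, ?_⟩, rfl⟩
      -- the `p`-part of `c` is moved into the normal subgroup `⟨x⟩`
      set m := Nat.card R.ν.ker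
      refine R.mem_normalizer_of_conj (c := c ^ m) ?_ ?_
      · intro hm
        obtain ⟨i, hi, k, hk, hck⟩ := R.exists_decomp c
        rw [MonoidHom.mem_ker, map_pow] at hm
        have h1 : orderOf (R.ν c) ∣ m := orderOf_dvd_of_pow_eq_one hm
        rcases (Nat.dvd_prime hp.out).1 (orderOf_dvd_of_pow_eq_one (R.hpow c)) with h2 | h2
        · exact hc (orderOf_eq_one_iff.1 h2)
        · exact R.not_dvd_card_ker (h2.symm.dvd.trans h1)
      · have hcm : ((c ^ m : Cx) : G) ∈ Subgroup.zpowers x := R.mem_zpowers_of_pow _ (by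
          rw [← pow_mul, mul_comm, ← R.card_eq]
          exact pow_card_eq_one')
        obtain ⟨a, ha⟩ : ∃ a : Nx, (a : G) = y * c * y⁻¹ := ⟨⟨_, h⟩, rfl⟩
        show y * ((c ^ m : Cx) : G) * y⁻¹ ∈ Cx
        rw [SubmonoidClass.coe_pow, ← conj_pow, ← ha, ← SubmonoidClass.coe_pow]
        set b := a ^ m
        have hb : (b : G) ^ p = 1 := by
          show ((a : G) ^ m) ^ p = 1
          rw [ha, conj_pow, conj_pow, ← SubmonoidClass.coe_pow, ← SubmonoidClass.coe_pow, ← pow_mul,
            mul_comm m, ← R.card_eq, pow_card_eq_one']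
          simp
        -- an element of order `p` of the normalizer centralizes `x`
        have h4 : R.hN b ^ p = 1 := by
          rw [← map_pow, show b ^ p = 1 from Subtype.ext hb, map_one]
        have h5 : (R.hN b : ZMod p) = 1 := by
          have := ZMod.pow_card (R.hN b : ZMod p)
          rw [← Units.val_pow_eq_pow_val, h4, Units.val_one] at this
          exact this.symm
        have h6 : b ∈ R.hN.ker := Units.ext h5
        rw [R.ker_hN, Subgroup.mem_subgroupOf] at h6
        exact h6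
    · intro y
      simp only [Equiv.inv_apply, inv_inv]
      rw [CfsgLib.Induction.extendByZero_mem _ _ (mul_mem (mul_mem y.2 (R.cent_le_normalizer c.2))
        (inv_mem y.2)), hη _ (hker y)]
  rw [this, Finset.sum_const, Finset.card_univ, nsmul_one, ← Nat.card_eq_fintype_card,
    inv_mul_cancel₀ (Nat.cast_ne_zero.2 Nat.card_pos.ne')]

/-- Pairing the induced character of a linear constituent with induced differences. -/
theorem classInner_ind_linear
    (η : IrrCharacter (Subgroup.normalizer (Subgroup.zpowers x : Set G)))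
    (hη : ∀ c ∈ R.hN.ker, (η : Nx → ℂ) c = 1) (s v : ZMod p) :
    classInner (indFun Cx (R.lam s - R.lam v))
      (indFun (Subgroup.normalizer (Subgroup.zpowers x : Set G)) (η : Nx → ℂ)) =
        (if s = 0 then 1 else 0) - (if v = 0 then 1 else 0) := by
  rw [CfsgLib.Induction.classInner_indFun _ _ (CfsgLib.Induction.isClassFunction_indFun _ _)]
  have h : classInner (R.lam s - R.lam v)
      (fun c : Cx => indFun (Subgroup.normalizer (Subgroup.zpowers x : Set G)) (η : Nx → ℂ) c) =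
      classInner (R.lam s - R.lam v) (R.lam 0) := by
    unfold classInner
    congr 1
    refine Finset.sum_congr rfl fun c _ => ?_
    by_cases hc : c ∈ R.ν.ker
    · rw [Pi.sub_apply, R.lam_of_mem_ker _ hc, R.lam_of_mem_ker _ hc, sub_self, zero_mul, zero_mul]
    · beta_reduce
      rw [R.ind_linear η hη hc, R.lam_zero]
  rw [h, classInner_sub_left, R.classInner_lam, R.classInner_lam]

end Rot

end CfsgLib.SmallSimple
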