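import Mathlib

/-!
# Arithmetic of the degree equation for a small group with Sylow subgroups of prime order

The numerical core of the theorem that a perfect group with non-normal Sylow `p`-subgroups of
order `p` has order at least `p (p ^ 2 - 1) / 2`.
-/

set_option autoImplicit false

namespace CfsgLib.SmallSimple

/-- The data coming from character theory. `S` indexes the non-exceptional nonprincipal
characters `ψ` with `a ψ ≠ 0`, of degree `p * b ψ + a ψ`; the `t` exceptional characters have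
degree `D = p * b₀ + a₀ + ε * e`. -/
theorem no_solution {ι : Type*} (S : Finset ι) (a b : ι → ℤ) {p t e u k : ℕ} (hp : p.Prime)
    (he : 2 ≤ e) (hte : t * e = p - 1) (hu : e ≤ u) (hk : 1 ≤ k)
    (hsmall : 2 * u * (1 + k * p) < p ^ 2 - 1)
    {ε a₀ b₀ : ℤ} (hε : ε = 1 ∨ ε = -1) (hb₀ : 0 ≤ b₀) (hr₀ : 0 ≤ b₀ + a₀)
    (hD1 : 1 < (p : ℤ) * b₀ + a₀ + ε * e)
    (hDdvd : (p : ℤ) * b₀ + a₀ + ε * e ∣ (p : ℤ) * u * (1 + k * p))
    (hS : ∀ i ∈ S, a i ≠ 0 ∧ 0 ≤ b i ∧ 0 ≤ b i + a i ∧ 1 < (p : ℤ) * b i + a i ∧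
      (p : ℤ) * b i + a i ∣ (p : ℤ) * u * (1 + k * p))
    (hnorm : ((t : ℤ) - 1) * a₀ ^ 2 + (a₀ - ε) ^ 2 + ∑ i ∈ S, a i ^ 2 = e)
    (hrel : 1 + (t * a₀ - ε) * ((p : ℤ) * b₀ + a₀ + ε * e) +
      ∑ i ∈ S, a i * ((p : ℤ) * b i + a i) = 0)
    (hperm : ∀ i ∈ S, 0 < a i → ∃ (m : ι → ℕ) (me δ : ℕ), 0 < m i ∧ (me : ℤ) ≤ b₀ + a₀ ∧
      (t : ℤ) * me * ((p : ℤ) * b₀ + a₀ + ε * e) ≤ 1 + k * p ∧
      (δ : ℤ) + ∑ j ∈ S, (m j : ℤ) * a j + me * (t * a₀ - ε) = 1) :
    False := by
  classical
  have hp2 := hp.two_le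
  -- basic inequalities
  have hsm : 2 * u * k * p < p * p := by
    have h1 : 2 * u * (1 + k * p) = 2 * u + 2 * u * k * p := by ring
    have h2 : p ^ 2 = p * p := pow_two p
    omega
  have hukp : 2 * u * k < p := Nat.lt_of_mul_lt_mul_right hsm
  have hu2 : 2 * u + 1 < p := by
    have h0 : 2 * u * 1 ≤ 2 * u * k := Nat.mul_le_mul_left _ hk
    rcases Nat.lt_or_ge (2 * u * k + 1) p with h | h
    · omega
    · have h1 : 2 * u * (1 + k * p) = 2 * u + 2 * u * k * p := by ring
      have h2 : p ^ 2 = p * p := pow_two p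
      have h3 : 2 * u * k * p + p = p * p := by
        have : 2 * u * k + 1 = p := by omega
        calc 2 * u * k * p + p = (2 * u * k + 1) * p := by ring
          _ = p * p := by rw [this]
      omega
  have ht3 : 3 ≤ t := by
    by_contra h
    have : t * e ≤ 2 * e := Nat.mul_le_mul_right e (by omega)
    omega
  have hp7 : 7 ≤ p := by
    have : 3 * 2 ≤ t * e := Nat.mul_le_mul ht3 he
    omega
  have heu : (e : ℤ) ≤ u := by exact_mod_cast hu
  have huk : 2 * ((u : ℤ) * k) + 1 ≤ p := by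
    have : 2 * u * k + 1 ≤ p := hukp
    have h' : ((2 * u * k + 1 : ℕ) : ℤ) ≤ (p : ℤ) := by exact_mod_cast this
    push_cast at h'
    linarith
  have hu2' : 2 * (u : ℤ) + 2 ≤ p := by exact_mod_cast hu2
  have hte' : (t : ℤ) * e = p - 1 := by
    have h' : ((t * e : ℕ) : ℤ) = ((p - 1 : ℕ) : ℤ) := by rw [hte]
    rw [Nat.cast_sub hp.pos] at h'
    push_cast at h'
    exact h'
  have he' : (2 : ℤ) ≤ e := by exact_mod_cast he
  have ht' : (3 : ℤ) ≤ t := by exact_mod_cast ht3
  have hp' : (7 : ℤ) ≤ p := by exact_mod_cast hp7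
  have hk' : (1 : ℤ) ≤ k := by exact_mod_cast hk
  have hpp : Prime (p : ℤ) := Nat.prime_iff_prime_int.1 hp
  have hsq : ∀ i ∈ S, a i ^ 2 ≤ e := by
    intro i hi
    have h1 := Finset.single_le_sum (fun j _ => sq_nonneg (a j)) hi
    nlinarith [sq_nonneg a₀, sq_nonneg (a₀ - ε)]
  -- a degree prime to `p` divides `u * n`
  have hcop : ∀ {d : ℤ}, ¬ (p : ℤ) ∣ d → d ∣ (p : ℤ) * u * (1 + k * p) →
      d ∣ (u : ℤ) * (1 + k * p) := by
    intro d hd hdvd
    rw [mul_assoc] at hdvd
    exact IsCoprime.dvd_of_dvd_mul_left ((hpp.coprime_iff_not_dvd.2 hd).symm) hdvd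
  -- the congruence for `g`
  have hfac : ∀ {x y g : ℤ}, ((p : ℤ) * y + x) * g = u * (1 + k * p) →
      x * g = u + p * ((u : ℤ) * k - y * g) := by
    intro x y g h; linear_combination h
  -- analysis of a non-exceptional character
  have hpos : ∀ i ∈ S, 0 < a i ∧ (a i = 1 → (p : ℤ) * b i + a i = 1 + k * p) := by
    intro i hi
    obtain ⟨ha, hb, hba, hd1, hdvd⟩ := hS i hi
    have hasq := hsq i hi
    have haabs : |a i| ≤ e := by
      rcases le_total 0 (a i) with h | h
      · rw [abs_of_nonneg h]; nlinarith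
      · rw [abs_of_nonpos h]; nlinarith
    have hnd : ¬ (p : ℤ) ∣ (p : ℤ) * b i + a i := by
      intro h
      have h' : (p : ℤ) ∣ a i := (dvd_add_right (dvd_mul_right (p : ℤ) (b i))).1 h
      have := Int.le_of_dvd (abs_pos.2 ha) ((dvd_abs _ _).2 h')
      linarith
    obtain ⟨g, hg⟩ := hcop hnd hdvd
    have hg0 : 0 < g := by
      have h1 : (0 : ℤ) < (u : ℤ) * (1 + k * p) := mul_pos (by linarith) (by positivity)
      rw [hg] at h1
      exact pos_of_mul_pos_right h1 (by linarith)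
    have hc := hfac hg.symm
    set c := (u : ℤ) * k - b i * g with hcdef
    constructor
    · by_contra hle
      push Not at hle
      have haneg : a i ≤ -1 := by omega
      have hbA : -a i ≤ b i := by linarith
      have hcneg : c ≤ -1 := by
        by_contra h
        push Not at h
        nlinarith
      have h1 : -a i * g ≤ b i * g := mul_le_mul_of_nonneg_right hbA hg0.le
      nlinarith
    · intro ha1
      rw [ha1, one_mul] at hc
      rcases lt_trichotomy c 0 with h | h | h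
      · exfalso
        nlinarith
      · rw [h, mul_zero, add_zero] at hc
        rw [hc] at hg
        have hu0 : (u : ℤ) ≠ 0 := by linarith
        apply mul_right_cancel₀ hu0
        linear_combination -hg
      · exfalso
        have hb0 : b i = 0 := by
          by_contra h0
          have : 1 ≤ b i := by omega
          have h1 : g ≤ b i * g := le_mul_of_one_le_left hg0.le this
          nlinarith
        rw [hb0, ha1, mul_zero, zero_add] at hd1
        exact lt_irrefl _ hd1
  set D := (p : ℤ) * b₀ + a₀ + ε * e with hD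
  set T := ∑ i ∈ S, a i * ((p : ℤ) * b i + a i) with hT
  have hTnn : 0 ≤ T := Finset.sum_nonneg fun i hi =>
    mul_nonneg (hpos i hi).1.le (by linarith [(hS i hi).2.2.2.1])
  have hν : t * a₀ - ε < 0 := by
    by_contra h
    push Not at h
    nlinarith
  have ha₀ : a₀ ≤ 0 := by
    by_contra h
    have : 1 ≤ a₀ := by omega
    rcases hε with h1 | h1 <;> rw [h1] at hν <;> nlinarith
  have hb₀case : b₀ = 0 → a₀ = 0 ∧ ε = 1 := by
    intro h
    have h0 : a₀ = 0 := by linarith
    refine ⟨h0, hε.resolve_right fun h1 => ?_⟩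
    rw [h0, h1] at hν
    norm_num at hν
  have hDbig : 1 ≤ b₀ → (p : ℤ) - 1 - e ≤ D := by
    intro h
    have h1 : ((p : ℤ) - 1) * 1 ≤ ((p : ℤ) - 1) * b₀ := mul_le_mul_of_nonneg_left h (by linarith)
    rcases hε with h2 | h2 <;> rw [hD, h2] <;> nlinarith
  -- every `a` is one
  have hone : ∀ i ∈ S, a i = 1 := by
    intro i hi
    obtain ⟨hpi, -⟩ := hpos i hi
    obtain ⟨m, me, δ, hm, hme, hdeg, hsum⟩ := hperm i hi hpi
    have hme0 : me = 0 := by
      rcases eq_or_lt_of_le hb₀ with h | h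
      · obtain ⟨h0, -⟩ := hb₀case h.symm
        rw [← h, h0] at hme
        simpa using hme
      · by_contra hne
        have hme1 : (1 : ℤ) ≤ me := by exact_mod_cast Nat.one_le_iff_ne_zero.2 hne
        have hDb := hDbig (by omega)
        have h1 : (t : ℤ) * ((p : ℤ) - 1 - e) ≤ t * me * D := by
          calc (t : ℤ) * ((p : ℤ) - 1 - e) ≤ t * D := mul_le_mul_of_nonneg_left hDb (by linarith)
            _ = t * 1 * D := by ring
            _ ≤ t * me * D := by gcongr
        have h2k : 2 * (k : ℤ) ≤ t := by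
          have : 2 * ((e : ℤ) * k) ≤ t * e := by
            have : (e : ℤ) * k ≤ u * k := mul_le_mul_of_nonneg_right heu (by linarith)
            linarith
          nlinarith
        have h3 : 2 * ((k : ℤ) * p) ≤ t * p := by nlinarith
        nlinarith
    rw [hme0] at hsum
    simp only [Nat.cast_zero, zero_mul, add_zero] at hsum
    have h1 : (m i : ℤ) * a i ≤ ∑ j ∈ S, (m j : ℤ) * a j :=
      Finset.single_le_sum (f := fun j => (m j : ℤ) * a j)
        (fun j hj => mul_nonneg (Int.natCast_nonneg _) (hpos j hj).1.le) hi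
    have h2 : (1 : ℤ) ≤ m i := by exact_mod_cast hm
    have h3 : a i ≤ (m i : ℤ) * a i := le_mul_of_one_le_left hpi.le h2
    have : (0 : ℤ) ≤ δ := Int.natCast_nonneg _
    omega
  have hTn : T = (S.card : ℤ) * (1 + k * p) := by
    rw [hT, Finset.sum_congr rfl (g := fun _ => (1 : ℤ) + k * p) (fun i hi => by
      rw [(hpos i hi).2 (hone i hi), hone i hi, one_mul]), Finset.sum_const, nsmul_eq_mul]
  have hScard : ∑ i ∈ S, a i ^ 2 = (S.card : ℤ) := by
    rw [Finset.sum_congr rfl (g := fun _ => (1 : ℤ)) (fun i hi => by rw [hone i hi, one_pow])]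
    simp
  rw [hScard] at hnorm
  have ha₀sq : 2 * a₀ ^ 2 ≤ e := by nlinarith [sq_nonneg (a₀ - ε)]
  have hDp : ¬ (p : ℤ) ∣ D := by
    intro h
    have h' : (p : ℤ) ∣ a₀ + ε * e := by
      rw [hD, add_assoc] at h
      exact (dvd_add_right (dvd_mul_right (p : ℤ) b₀)).1 h
    have ha₀e : -(e : ℤ) < a₀ := by nlinarith
    rcases hε with h1 | h1 <;> rw [h1] at h'
    · have := Int.le_of_dvd (by linarith) h'
      linarith
    · have := Int.le_of_dvd (by linarith) (dvd_neg.2 h')
      linarith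
  have hDu : D ∣ (u : ℤ) := by
    refine IsCoprime.dvd_of_dvd_mul_right ?_ (hcop hDp hDdvd)
    refine ⟨-(t * a₀ - ε), -(S.card : ℤ), ?_⟩
    rw [hTn] at hrel
    linear_combination -hrel
  have hDle := Int.le_of_dvd (by linarith) hDu
  rcases eq_or_lt_of_le hb₀ with h | h
  · obtain ⟨h0, h1⟩ := hb₀case h.symm
    rw [h0, h1] at hnorm
    rw [hTn, hD, ← h, h0, h1] at hrel
    have hs : (S.card : ℤ) = e - 1 := by linarith
    rw [hs] at hrel
    have : (0 : ℤ) < ((e : ℤ) - 1) * (k * p) := mul_pos (by linarith) (mul_pos (by linarith) (by linarith))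
    linarith
  · have := hDbig (by omega)
    linarith

end CfsgLib.SmallSimple
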