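import Cfsg.Agent.Lib.Struct76.PrimeSylowChar
import Cfsg.Agent.Lib.Struct76.SmallSimpleArith
import Cfsg.Agent.Lib.Characters.LinearExt
import Cfsg.Agent.Lib.BlockCover.Regular

/-!
# A perfect group with non-normal Sylow subgroups of order `p` is large

For an odd prime `p`, a perfect finite group with a non-normal Sylow `p`-subgroup of order `p`
has order at least `p (p ^ 2 - 1) / 2`.
-/

set_option autoImplicit false

noncomputable section

namespace CfsgLib.SmallSimple

open Cfsg CfsgLib.Characters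
open scoped ComplexConjugate Classical

universe u

variable {G : Type u} [Group G] [Fintype G] {p : ℕ} [hp : Fact p.Prime] {x : G}

theorem classInner_eq_sum_of_coeff {F : G → ℂ} (hF : IsClassFunction G F)
    {c : IrrCharacter G → ℤ} (hc : ∀ ψ : IrrCharacter G, classInner F (ψ : G → ℂ) = (c ψ : ℂ))
    (g : G) : F g = ∑ ψ : IrrCharacter G, (c ψ : ℂ) * (ψ : G → ℂ) g := by
  conv_lhs => rw [classFunction_eq_sum hF]
  simp [hc]

theorem sum_zmod_eq {A : Type*} [AddCommMonoid A] (F : ZMod p → A) :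
    ∑ s : ZMod p, F s = F 0 + ∑ s : (ZMod p)ˣ, F s := by
  rw [← Finset.add_sum_erase _ _ (Finset.mem_univ (0 : ZMod p))]
  congr 1
  exact Finset.sum_bij (fun s hs => Units.mk0 s (Finset.ne_of_mem_erase hs))
    (fun _ _ => Finset.mem_univ _) (fun a _ b _ h => congrArg Units.val h)
    (fun b _ => ⟨b, Finset.mem_erase.2 ⟨b.ne_zero, Finset.mem_univ _⟩, Units.ext rfl⟩)
    fun _ _ => rfl

theorem sum_fibre {H : Subgroup (ZMod p)ˣ} (j : (ZMod p)ˣ ⧸ H) :
    (∑ s : (ZMod p)ˣ, if (s : (ZMod p)ˣ ⧸ H) = j then (1 : ℤ) else 0) = Nat.card H := by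
  obtain ⟨a, rfl⟩ := QuotientGroup.mk_surjective j
  rw [Finset.sum_boole, ← Fintype.card_subtype, ← Nat.card_eq_fintype_card]
  congr 1
  refine Nat.card_congr ((Equiv.mulLeft a⁻¹).subtypeEquiv fun s => ?_)
  exact ⟨fun h => QuotientGroup.eq.1 h.symm, fun h => (QuotientGroup.eq.2 h).symm⟩

set_option maxHeartbeats 1600000 in
/-- The main bound. -/
theorem card_ge (hperf : commutator G = ⊤) (hox : orderOf x = p) (hsq : ¬ p * p ∣ Nat.card G)
    (hnn : ¬ (Subgroup.zpowers x).Normal) :
    p * (p ^ 2 - 1) / 2 ≤ Nat.card G := by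
  by_contra hlt
  push Not at hlt
  haveI : NeZero p := ⟨hp.out.ne_zero⟩
  obtain ⟨R⟩ := exists_rot hox hsq
  obtain ⟨M, hM⟩ : ∃ M : Ideal AlgInt, IsPModular p M :=
    CfsgLib.BlockCover.exists_isPModular hp.out
  -- numerical data
  set e := Nat.card R.hN.range with he
  set t := R.hN.range.index with ht
  set c := Nat.card R.ν.ker with hc
  set Nx := Subgroup.normalizer (Subgroup.zpowers x : Set G) with hNx
  have hte : t * e = p - 1 := by
    rw [ht, he, mul_comm, Subgroup.card_mul_index, Nat.card_eq_fintype_card, ZMod.card_units]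
  have hNcard : Nat.card Nx = p * c * e := by
    have h1 := R.hN.ker.card_mul_index
    rw [Subgroup.index_ker, R.card_ker_hN, R.card_eq] at h1
    exact h1.symm
  have hG : Nat.card G = p * (c * e) * Nx.index := by
    rw [← Nx.card_mul_index, hNcard]; ring
  -- the number of Sylow subgroups
  have hfac : (Nat.card G).factorization p = 1 := by
    refine le_antisymm ?_ ?_
    · by_contra h
      refine hsq ?_
      calc p * p = p ^ 2 := (pow_two p).symm
        _ ∣ p ^ (Nat.card G).factorization p := pow_dvd_pow p (by omega)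
        _ ∣ Nat.card G := Nat.ordProj_dvd _ _
    · refine hp.out.factorization_pos_of_dvd Nat.card_pos.ne' ?_
      rw [← hox]; exact orderOf_dvd_natCard x
  let P : Sylow p G := Sylow.ofCard (Subgroup.zpowers x) (by rw [Nat.card_zpowers, hox, hfac, pow_one])
  have hn1 : Nx.index ≠ 1 := fun h => hnn (Subgroup.normalizer_eq_top_iff.1 (Subgroup.index_eq_one.1 h))
  have hn0 : Nx.index ≠ 0 := Subgroup.index_ne_zero_of_finite
  have hmod : Nx.index % p = 1 := by
    have h := card_sylow_modEq_one p G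
    rw [P.card_eq_index_normalizer] at h
    exact (show Nx.index % p = 1 % p from h).trans (Nat.mod_eq_of_lt hp.out.one_lt)
  obtain ⟨k, hk⟩ : ∃ k, Nx.index = 1 + k * p := ⟨Nx.index / p, by
    have := Nat.mod_add_div Nx.index p
    rw [hmod, mul_comm] at this
    exact this.symm⟩
  have hk1 : 1 ≤ k := by
    by_contra h
    obtain rfl : k = 0 := by omega
    exact hn1 (by simpa using hk)
  have hc1 : 1 ≤ c := Nat.card_pos
  have hsmall : 2 * (c * e) * (1 + k * p) < p ^ 2 - 1 := by
    rw [hG, hk] at hlt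
    have h2 : 2 * (p * (c * e) * (1 + k * p)) < p * (p ^ 2 - 1) := by omega
    refine Nat.lt_of_mul_lt_mul_left (a := p) ?_
    calc p * (2 * (c * e) * (1 + k * p)) = 2 * (p * (c * e) * (1 + k * p)) := by ring
      _ < p * (p ^ 2 - 1) := h2
  have he2 : 2 ≤ e := by
    by_contra hle
    have he1 : e = 1 := by
      have : 0 < e := Nat.card_pos
      omega
    have hrange : R.hN.range = ⊥ := Subgroup.card_eq_one.1 he1
    have hNC : Subgroup.normalizer ((P : Subgroup G) : Set G) ≤
        Subgroup.centralizer ((P : Subgroup G) : Set G) := by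
      intro y hy
      have hy1 : (⟨y, hy⟩ : Nx) ∈ R.hN.ker := by
        rw [MonoidHom.mem_ker, ← Subgroup.mem_bot, ← hrange]
        exact ⟨_, rfl⟩
      rw [R.ker_hN, Subgroup.mem_subgroupOf] at hy1
      show y ∈ Subgroup.centralizer ((Subgroup.zpowers x : Subgroup G) : Set G)
      rw [Subgroup.zpowers_eq_closure, Subgroup.centralizer_closure]
      exact hy1
    have hcomp := MonoidHom.ker_transferSylow_isComplement' P hNC
    have hcomm : IsMulCommutative (P : Subgroup G) := by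
      show IsMulCommutative (Subgroup.zpowers x)
      infer_instance
    letI : CommGroup (P : Subgroup G) := { (inferInstance : Group (P : Subgroup G)) with
      mul_comm := fun a b => hcomm.is_comm.comm a b }
    have hker : (MonoidHom.transferSylow P hNC).ker = ⊤ := top_le_iff.1 (hperf ▸
      Abelianization.commutator_subset_ker _)
    rw [hker, Subgroup.isComplement'_top_left] at hcomp
    have h1 : x ∈ Subgroup.zpowers x := Subgroup.mem_zpowers x
    rw [show Subgroup.zpowers x = ⊥ from hcomp, Subgroup.mem_bot] at h1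
    rw [h1, orderOf_one] at hox
    exact hp.out.ne_one hox.symm
  have hp3 : 3 ≤ p := by
    rcases Nat.eq_zero_or_pos t with h | h
    · rw [h, zero_mul] at hte
      have := hp.out.two_le
      omega
    · have : 1 * 2 ≤ t * e := Nat.mul_le_mul h he2
      omega
  have ht2 : 2 ≤ t := by
    by_contra h
    have ht1 : t = 1 := by
      rcases Nat.eq_zero_or_pos t with h' | h'
      · rw [h', zero_mul] at hte; omega
      · omega
    rw [ht1, one_mul] at hte
    have h1 : 2 * (1 * e) * (1 + 1 * p) ≤ 2 * (c * e) * (1 + k * p) := by gcongr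
    have h2 : p ^ 2 - 1 = (p + 1) * (p - 1) := by
      have := Nat.sq_sub_sq p 1
      simpa using this
    have h3 : 2 * (1 * e) * (1 + 1 * p) = 2 * ((p + 1) * (p - 1)) := by rw [hte]; ring
    omega
  -- the quotient indexing the exceptional characters
  let ι := (ZMod p)ˣ ⧸ R.hN.range
  let i0 : ι := ((1 : (ZMod p)ˣ) : ι)
  let s : ι → (ZMod p)ˣ := Quotient.out
  have hs : ∀ q : ι, ((s q : (ZMod p)ˣ) : ι) = q := fun q => QuotientGroup.out_eq' q
  have hιcard : Fintype.card ι = t := by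
    rw [← Nat.card_eq_fintype_card, ← Subgroup.index_eq_card]
  let φ : ZMod p → ZMod p → G → ℂ := fun a b => indFun _ (R.lam a - R.lam b)
  let τ : ι → G → ℂ := fun q => if q = i0 then 0 else φ (s q : ZMod p) ((1 : (ZMod p)ˣ) : ZMod p)
  have hφ1 : ∀ a b, φ a b 1 = 0 := fun a b => by
    simp only [φ, CfsgLib.Induction.indFun_one_apply, Pi.sub_apply, R.lam_one, sub_self, mul_zero]
  have hτgen : ∀ q, IsGeneralizedCharacter G (τ q) := by
    intro q
    by_cases h : q = i0
    · simp only [τ, if_pos h]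
      rw [← sub_self (principalIrr G : G → ℂ)]
      exact isGeneralizedCharacter_sub (isGeneralizedCharacter_irr _) (isGeneralizedCharacter_irr _)
    · simp only [τ, if_neg h]; exact R.isGeneralized_ind _ _
  have hτone : ∀ q, τ q 1 = 0 := by
    intro q
    by_cases h : q = i0 <;> simp [τ, h, hφ1]
  have hτinner : ∀ q r, q ≠ i0 → r ≠ i0 →
      classInner (τ q) (τ r) = if q = r then 2 else 1 := by
    intro q r hq hr
    simp only [τ, if_neg hq, if_neg hr, φ, R.classInner_ind, R.W_units, hs]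
    rw [if_pos trivial, if_neg (show ¬ ((1 : (ZMod p)ˣ) : ι) = r from Ne.symm hr),
      if_neg (show ¬ q = ((1 : (ZMod p)ˣ) : ι) from hq)]
    by_cases hqr : q = r
    · rw [if_pos hqr, if_pos hqr]; ring
    · rw [if_neg hqr, if_neg hqr]; ring
  obtain ⟨εc, hεc, f, hf, hdiff⟩ := CfsgLib.CharExceptional.exceptional_family i0 τ (by simp [τ])
    hτgen hτone (fun q hq => by rw [hτinner q q hq hq, if_pos rfl])
    (fun q r hq hr hqr => by rw [hτinner q r hq hr, if_neg hqr])
  obtain ⟨ε, hε, hεz⟩ : ∃ z : ℤ, (z = 1 ∨ z = -1) ∧ εc = (z : ℂ) := by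
    rcases hεc with h | h
    · exact ⟨1, Or.inl rfl, by simp [h]⟩
    · exact ⟨-1, Or.inr rfl, by simp [h]⟩
  -- multiplicities at units
  have hbm : ∀ (u : (ZMod p)ˣ) (ψ : IrrCharacter G),
      (R.bm (u : ZMod p) ψ : ℤ) - R.bm ((1 : (ZMod p)ˣ) : ZMod p) ψ =
        ε * ((if f (u : ι) = ψ then 1 else 0) - (if f i0 = ψ then 1 else 0)) := by
    intro u ψ
    have hsame : (R.bm (u : ZMod p) ψ : ℤ) = R.bm (s (u : ι) : ZMod p) ψ := by
      have hnorm : classInner (φ (u : ZMod p) (s (u : ι) : ZMod p))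
          (φ (u : ZMod p) (s (u : ι) : ZMod p)) = 0 := by
        simp only [φ, R.classInner_ind, R.W_units, hs, if_pos]
        ring
      have hcoef := classInner_self_eq_sum_sq (CfsgLib.Induction.isClassFunction_indFun _ _)
        (fun ψ => R.classInner_ind_irr (u : ZMod p) (s (u : ι) : ZMod p) ψ)
      rw [show classInner _ _ = (0 : ℂ) from hnorm] at hcoef
      have hz : ∑ χ : IrrCharacter G, ((R.bm (u : ZMod p) χ : ℤ) - R.bm (s (u : ι) : ZMod p) χ) ^ 2 = 0 := by
        exact_mod_cast hcoef.symm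
      have hle := Finset.single_le_sum (fun χ _ => sq_nonneg
        ((R.bm (u : ZMod p) χ : ℤ) - R.bm (s (u : ι) : ZMod p) χ)) (Finset.mem_univ ψ)
      rw [hz] at hle
      have := sq_eq_zero_iff.1 (le_antisymm hle (sq_nonneg _))
      omega
    rw [hsame]
    by_cases h : (u : ι) = i0
    · have h1 : (R.bm ((1 : (ZMod p)ˣ) : ZMod p) ψ : ℤ) = R.bm (s (u : ι) : ZMod p) ψ := by
        rw [h]
        have hnorm : classInner (φ ((1 : (ZMod p)ˣ) : ZMod p) (s i0 : ZMod p))
            (φ ((1 : (ZMod p)ˣ) : ZMod p) (s i0 : ZMod p)) = 0 := by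
          simp only [φ, R.classInner_ind, R.W_units, hs]
          rw [if_pos (rfl : (((1 : (ZMod p)ˣ)) : ι) = _)]
          simp only [i0, if_pos]
          ring
        have hcoef := classInner_self_eq_sum_sq (CfsgLib.Induction.isClassFunction_indFun _ _)
          (fun ψ => R.classInner_ind_irr ((1 : (ZMod p)ˣ) : ZMod p) (s i0 : ZMod p) ψ)
        rw [show classInner _ _ = (0 : ℂ) from hnorm] at hcoef
        have hz : ∑ χ : IrrCharacter G,
            ((R.bm ((1 : (ZMod p)ˣ) : ZMod p) χ : ℤ) - R.bm (s i0 : ZMod p) χ) ^ 2 = 0 := by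
          exact_mod_cast hcoef.symm
        have hle := Finset.single_le_sum (fun χ _ => sq_nonneg
          ((R.bm ((1 : (ZMod p)ˣ) : ZMod p) χ : ℤ) - R.bm (s i0 : ZMod p) χ)) (Finset.mem_univ ψ)
        rw [hz] at hle
        have := sq_eq_zero_iff.1 (le_antisymm hle (sq_nonneg _))
        omega
      rw [h1, h, sub_self, sub_self, mul_zero]
    · have h2 := congrArg (fun F => classInner F (ψ : G → ℂ)) (hdiff (u : ι))
      simp only [τ, if_neg h, φ] at h2
      rw [R.classInner_ind_irr, classInner_smul_left, classInner_sub_left, classInner_irr,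
        classInner_irr, hεz] at h2
      exact_mod_cast h2
  -- coefficients of the function `β`
  set β := φ 0 ((1 : (ZMod p)ˣ) : ZMod p) with hβ
  let A : IrrCharacter G → ℤ := fun ψ => (R.bm 0 ψ : ℤ) - R.bm ((1 : (ZMod p)ˣ) : ZMod p) ψ
  have hA : ∀ ψ : IrrCharacter G, classInner β (ψ : G → ℂ) = (A ψ : ℂ) := fun ψ =>
    R.classInner_ind_irr _ _ ψ
  have hAshift : ∀ q, q ≠ i0 → A (f q) = A (f i0) + ε := by
    intro q hq
    have h1 : classInner (τ q) β = 1 := by
      simp only [τ, if_neg hq, hβ, φ, R.classInner_ind, R.W_units, R.W_unit_zero, hs]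
      rw [if_pos trivial, if_neg (show ¬ q = ((1 : (ZMod p)ˣ) : ι) from hq)]
      ring
    rw [hdiff q, classInner_smul_left, classInner_sub_left, classInner_conj_symm β,
      classInner_conj_symm β (f i0 : G → ℂ), hA, hA, map_intCast, map_intCast, hεz] at h1
    have h' : ε * (A (f q) - A (f i0)) = 1 := by exact_mod_cast h1
    rcases hε with h | h <;> rw [h] at h' ⊢ <;> omega
  set a₀ := A (f i0) + ε with ha₀
  have hAf : ∀ q, A (f q) = a₀ - ε * (if q = i0 then 1 else 0) := by
    intro q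
    by_cases h : q = i0
    · rw [if_pos h, h, ha₀]; ring
    · rw [if_neg h, hAshift q h, ha₀]; ring
  -- degrees
  have hDex : ∀ ψ : IrrCharacter G, ∃ d : ℕ, (ψ : G → ℂ) 1 = d ∧ 0 < d ∧ d ∣ Nat.card G :=
    irr_degree_dvd_card
  choose d hd hd0 hdd using hDex
  have hlin : ∀ ψ : IrrCharacter G, d ψ = 1 → ψ = principalIrr G := by
    intro ψ h1
    obtain ⟨g, hg⟩ := CfsgLib.LinearExt.exists_unitsHom (irr_isCharacter ψ)
      (by rw [hd, h1, Nat.cast_one])
    refine Subtype.ext ?_
    rw [hg]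
    funext y
    have hy : y ∈ g.ker := (hperf ▸ Abelianization.commutator_subset_ker g :
      ⊤ ≤ g.ker) (Subgroup.mem_top y)
    show ((g y : ℂˣ) : ℂ) = 1
    rw [MonoidHom.mem_ker.1 hy, Units.val_one]
  have hdprin : d (principalIrr G) = 1 := by
    have h : ((d (principalIrr G) : ℕ) : ℂ) = 1 := by rw [← hd]; rfl
    exact_mod_cast h
  have hdf : ∀ q, d (f q) = d (f i0) := by
    intro q
    have h := hτone q
    rw [hdiff q, Pi.smul_apply, Pi.sub_apply, hd, hd, smul_eq_mul, mul_eq_zero, hεz] at h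
    rcases h with h | h
    · rcases hε with h' | h' <;> rw [h'] at h <;> norm_num at h
    · exact_mod_cast sub_eq_zero.1 h
  haveI : Nontrivial ι := Fintype.one_lt_card_iff_nontrivial.1 (by omega)
  have hd01 : 1 < d (f i0) := by
    by_contra hle
    have h1 : d (f i0) = 1 := by have := hd0 (f i0); omega
    obtain ⟨q, hq⟩ := exists_ne i0
    exact hq (hf ((hlin _ ((hdf q).trans h1)).trans (hlin _ h1).symm))
  let E : Finset (IrrCharacter G) := Finset.univ.image f
  have hprinE : principalIrr G ∉ E := by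
    intro h
    obtain ⟨q, -, hq⟩ := Finset.mem_image.1 h
    have h1 := hdf q
    rw [hq, hdprin] at h1
    omega
  have hAprin : A (principalIrr G) = 1 := by
    have h := hA (principalIrr G)
    rw [hβ] at h
    simp only [φ] at h
    rw [CfsgLib.Induction.classInner_indFun _ _ (irr_isClassFunction _)] at h
    have e1 : (fun c : Subgroup.centralizer ({x} : Set G) => (principalIrr G : G → ℂ) c) = R.lam 0 := by
      funext c; rw [R.lam_zero]; rfl
    rw [e1, classInner_sub_left, R.classInner_lam, R.classInner_lam, if_pos rfl,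
      if_neg (Units.ne_zero _), sub_zero] at h
    exact_mod_cast h.symm
  set S := Finset.univ.filter fun ψ : IrrCharacter G => A ψ ≠ 0 ∧ ψ ∉ E ∧ ψ ≠ principalIrr G
  have hsplit : ∀ F : IrrCharacter G → ℤ, (∀ ψ, A ψ = 0 → ψ ∉ E → F ψ = 0) →
      ∑ ψ, F ψ = F (principalIrr G) + ∑ q, F (f q) + ∑ ψ ∈ S, F ψ := by
    intro F hF
    rw [← Finset.sum_add_sum_compl E, Finset.sum_image (fun a _ b _ h => hf h),
      ← Finset.add_sum_erase Eᶜ F (Finset.mem_compl.2 hprinE)]
    have : ∑ ψ ∈ Eᶜ.erase (principalIrr G), F ψ = ∑ ψ ∈ S, F ψ := by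
      refine (Finset.sum_subset (fun ψ hψ => ?_) fun ψ hψ hψS => ?_).symm
      · obtain ⟨-, -, h1, h2⟩ := Finset.mem_filter.1 hψ
        exact Finset.mem_erase.2 ⟨h2, Finset.mem_compl.2 h1⟩
      · obtain ⟨h1, h2⟩ := Finset.mem_erase.1 hψ
        refine hF ψ (by_contra fun h => hψS (Finset.mem_filter.2
          ⟨Finset.mem_univ _, h, Finset.mem_compl.1 h2, h1⟩)) (Finset.mem_compl.1 h2)
    rw [this]; ring
  -- degree formulas inside the principal block
  have hblock : ∀ ψ : IrrCharacter G, A ψ ≠ 0 →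
      (d ψ : ℤ) = p * R.pm 0 ψ + ∑ u : (ZMod p)ˣ, ((R.bm (u : ZMod p) ψ : ℤ) - R.bm 0 ψ) ∧
        ∀ u : (ZMod p)ˣ, (R.pm (u : ZMod p) ψ : ℤ) = R.pm 0 ψ + ((R.bm (u : ZMod p) ψ : ℤ) - R.bm 0 ψ) := by
    intro ψ hψ
    have hB : ψ ∈ principalBlock M G := by
      by_contra hB
      refine hψ ?_
      have := (R.bm_sub hM ((1 : (ZMod p)ˣ) : ZMod p) ψ).2 hB
      simp only [A]
      omega
    have hu : ∀ z : ZMod p, (R.pm z ψ : ℤ) = R.pm 0 ψ + ((R.bm z ψ : ℤ) - R.bm 0 ψ) := fun z => by
      have := (R.bm_sub hM z ψ).1 hB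
      omega
    refine ⟨?_, fun u => hu _⟩
    have h : (d ψ : ℕ) = ∑ z : ZMod p, R.pm z ψ := by
      have : ((d ψ : ℕ) : ℂ) = ((∑ z : ZMod p, R.pm z ψ : ℕ) : ℂ) := by rw [R.sum_pm, hd]
      exact_mod_cast this
    rw [h]
    push_cast
    rw [Finset.sum_congr rfl fun z _ => hu z, Finset.sum_add_distrib, Finset.sum_const, Finset.card_univ, ZMod.card, nsmul_eq_mul,
      sum_zmod_eq, sub_self, zero_add]
  -- the exceptional degree
  obtain ⟨j, hj⟩ : ∃ j, A (f j) ≠ 0 := by
    by_cases h : A (f i0) = 0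
    · obtain ⟨q, hq⟩ := exists_ne i0
      refine ⟨q, ?_⟩
      rw [hAshift q hq]
      omega
    · exact ⟨i0, h⟩
  obtain ⟨hdj, hpmj⟩ := hblock _ hj
  set b₀ : ℤ := (R.pm 0 (f j) : ℤ) - a₀ with hb₀
  have hbmj : ∀ u : (ZMod p)ˣ, (R.bm (u : ZMod p) (f j) : ℤ) - R.bm 0 (f j) =
      -a₀ + ε * (if (u : ι) = j then 1 else 0) := by
    intro u
    have h1 := hbm u (f j)
    have h2 := hAf j
    simp only [hf.eq_iff] at h1
    simp only [A] at h2
    by_cases hij : i0 = j
    · rw [if_pos hij] at h1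
      rw [if_pos hij.symm] at h2
      linarith
    · rw [if_neg hij] at h1
      rw [if_neg (Ne.symm hij)] at h2
      linarith
  have hDj : (d (f i0) : ℤ) = p * b₀ + a₀ + ε * e := by
    rw [← hdf j, hdj, Finset.sum_congr rfl (fun u _ => hbmj u), Finset.sum_add_distrib,
      Finset.sum_const, Finset.card_univ, ZMod.card_units, nsmul_eq_mul, ← Finset.mul_sum,
      show (∑ u : (ZMod p)ˣ, if (u : ι) = j then (1 : ℤ) else 0) = (e : ℤ) by convert sum_fibre j, hb₀, Nat.cast_sub hp.out.pos]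
    push_cast
    ring
  have hb₀nn : 0 ≤ b₀ := by
    obtain ⟨q, hq⟩ := exists_ne j
    have h1 := hpmj (s q)
    rw [hbmj, hs, if_neg hq] at h1
    have : (0 : ℤ) ≤ (R.pm (s q : ZMod p) (f j) : ℤ) := Int.natCast_nonneg _
    simp only [hb₀]
    linarith
  have hdvd : ∀ ψ : IrrCharacter G, (d ψ : ℤ) ∣ (p : ℤ) * ((c * e : ℕ) : ℤ) * (1 + k * p) := by
    intro ψ
    have h := Int.natCast_dvd_natCast.2 (hdd ψ)
    rw [hG, hk] at h
    push_cast at h ⊢
    exact h
  -- norm and degree relation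
  have hnorm : ∑ ψ, A ψ ^ 2 = (e : ℤ) + 1 := by
    have h := classInner_self_eq_sum_sq (CfsgLib.Induction.isClassFunction_indFun _ _) hA
    have hz : classInner β β = ((e + 1 : ℤ) : ℂ) := by
      simp only [hβ, φ, R.classInner_ind, R.W_zero_zero, R.W_zero_unit, R.W_unit_zero, R.W_units,
        if_pos]
      have hC : (Nat.card (Subgroup.centralizer ({x} : Set G)) : ℂ) ≠ 0 :=
        Nat.cast_ne_zero.2 Nat.card_pos.ne'
      rw [show Nat.card Nx = Nat.card (Subgroup.centralizer ({x} : Set G)) * e by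
        rw [hNcard, R.card_eq]]
      push_cast
      rw [mul_div_cancel_left₀ _ hC]
      ring
    rw [show classInner _ _ = ((e + 1 : ℤ) : ℂ) from hz] at h
    exact_mod_cast h.symm
  have hrel : ∑ ψ, A ψ * d ψ = 0 := by
    have h := classInner_eq_sum_of_coeff (CfsgLib.Induction.isClassFunction_indFun _ _) hA 1
    rw [show indFun (Subgroup.centralizer ({x} : Set G))
      (R.lam 0 - R.lam ((1 : (ZMod p)ˣ) : ZMod p)) 1 = 0 from hφ1 _ _] at h
    simp only [hd] at h
    have : ((∑ ψ, A ψ * d ψ : ℤ) : ℂ) = ((0 : ℤ) : ℂ) := by push_cast; exact h.symm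
    exact_mod_cast this
  have hsumA : ∑ q, A (f q) = t * a₀ - ε := by
    simp only [hAf]
    rw [Finset.sum_sub_distrib, Finset.sum_const, Finset.card_univ, hιcard, nsmul_eq_mul,
      ← Finset.mul_sum, Finset.sum_ite_eq' Finset.univ i0, if_pos (Finset.mem_univ _), mul_one]
  have hsumA2 : ∑ q, A (f q) ^ 2 = ((t : ℤ) - 1) * a₀ ^ 2 + (a₀ - ε) ^ 2 := by
    rw [← Finset.add_sum_erase _ _ (Finset.mem_univ i0), hAf, if_pos rfl, mul_one,
      Finset.sum_congr rfl (g := fun _ => a₀ ^ 2) (fun q hq => by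
        rw [hAf, if_neg (Finset.ne_of_mem_erase hq), mul_zero, sub_zero]),
      Finset.sum_const, Finset.card_erase_of_mem (Finset.mem_univ _), Finset.card_univ, hιcard,
      nsmul_eq_mul, Nat.cast_sub (by omega), Nat.cast_one]
    ring
  -- the non-exceptional characters
  let bS : IrrCharacter G → ℤ := fun ψ => (R.pm 0 ψ : ℤ) - A ψ
  have hS : ∀ ψ ∈ S, (d ψ : ℤ) = p * bS ψ + A ψ ∧ 0 ≤ bS ψ := by
    intro ψ hψ
    obtain ⟨-, h0, h1, -⟩ := Finset.mem_filter.1 hψ
    obtain ⟨hdψ, hpmψ⟩ := hblock ψ h0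
    have hu : ∀ u : (ZMod p)ˣ, (R.bm (u : ZMod p) ψ : ℤ) - R.bm 0 ψ = -A ψ := by
      intro u
      have h := hbm u ψ
      rw [if_neg (fun h => h1 (Finset.mem_image.2 ⟨_, Finset.mem_univ _, h⟩)),
        if_neg (fun h => h1 (Finset.mem_image.2 ⟨_, Finset.mem_univ _, h⟩)), sub_zero,
        mul_zero] at h
      simp only [A]
      linarith
    constructor
    · rw [hdψ, Finset.sum_congr rfl (fun u _ => hu u), Finset.sum_const, Finset.card_univ,
        ZMod.card_units, nsmul_eq_mul, Nat.cast_sub hp.out.pos]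
      simp only [bS]
      push_cast
      ring
    · have h := hpmψ 1
      rw [hu] at h
      have : (0 : ℤ) ≤ (R.pm ((1 : (ZMod p)ˣ) : ZMod p) ψ : ℤ) := Int.natCast_nonneg _
      simp only [bS]
      linarith
  refine no_solution (p := p) (t := t) (e := e) (u := c * e) (k := k) (ε := ε) (a₀ := a₀)
    (b₀ := b₀) S A bS hp.out he2 hte (Nat.le_mul_of_pos_left e hc1) hk1 hsmall hε hb₀nn ?_ ?_ ?_
    (fun ψ hψ => ?_) ?_ ?_ (fun ψ hψ hpos => ?_)
  · have : (0 : ℤ) ≤ (R.pm 0 (f j) : ℤ) := Int.natCast_nonneg _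
    simp only [hb₀]
    linarith
  · rw [← hDj]; exact_mod_cast hd01
  · rw [← hDj]; exact hdvd _
  · obtain ⟨hdψ, hbψ⟩ := hS ψ hψ
    obtain ⟨-, h0, h1, h2⟩ := Finset.mem_filter.1 hψ
    refine ⟨h0, hbψ, ?_, ?_, hdψ ▸ hdvd ψ⟩
    · have : (0 : ℤ) ≤ (R.pm 0 ψ : ℤ) := Int.natCast_nonneg _
      simp only [bS]
      linarith
    · rw [← hdψ]
      have := hd0 ψ
      have : d ψ ≠ 1 := fun h => h2 (hlin ψ h)
      omega
  · have h := hsplit (fun ψ => A ψ ^ 2) (fun ψ h _ => by rw [h]; norm_num)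
    rw [hnorm, hsumA2, hAprin] at h
    linarith
  · have h := hsplit (fun ψ => A ψ * d ψ) (fun ψ h _ => by rw [h, zero_mul])
    rw [hrel, hAprin, hdprin, Finset.sum_congr rfl (g := fun q => A (f q) * ((p : ℤ) * b₀ + a₀ + ε * e))
      (fun q _ => by rw [hdf q, hDj]), ← Finset.sum_mul, hsumA,
      Finset.sum_congr (s₁ := S) rfl (g := fun ψ => A ψ * ((p : ℤ) * bS ψ + A ψ))
      (fun ψ hψ => by rw [(hS ψ hψ).1])] at h
    push_cast at h
    linarith
  -- a linear constituent of the normalizer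
  have hbm0 : R.bm 0 ψ ≠ 0 := by
    intro h
    simp only [A, h] at hpos
    push_cast at hpos
    linarith [Int.natCast_nonneg (R.bm ((1 : (ZMod p)ˣ) : ZMod p) ψ)]
  obtain ⟨η, hη1, hηker, hη⟩ := R.exists_linear ψ hbm0
  have hmex : ∀ χ : IrrCharacter G, ∃ m : ℕ,
      classInner (η : Nx → ℂ) (fun y : Nx => (χ : G → ℂ) y) = m := fun χ =>
    classInner_char_nat (irr_isCharacter η)
      (CfsgLib.Clifford.isCharacter_subtype (irr_isCharacter χ) _)
  choose m hm using hmex
  set Ψ := indFun Nx (η : Nx → ℂ)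
  have hΨcl : IsClassFunction G Ψ := CfsgLib.Induction.isClassFunction_indFun _ _
  have hmΨ : ∀ χ : IrrCharacter G, classInner Ψ (χ : G → ℂ) = ((m χ : ℤ) : ℂ) := fun χ => by
    rw [CfsgLib.Induction.classInner_indFun _ _ (irr_isClassFunction χ), hm]
    push_cast; rfl
  have hmconst : ∀ q, m (f q) = m (f i0) := by
    intro q
    by_cases hq : q = i0
    · rw [hq]
    have h0 : classInner (τ q) Ψ = 0 := by
      simp only [τ, if_neg hq, φ]
      rw [R.classInner_ind_linear η hηker, if_neg (Units.ne_zero _), if_neg (Units.ne_zero _),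
        sub_self]
    rw [hdiff q, classInner_smul_left, classInner_sub_left, classInner_conj_symm Ψ,
      classInner_conj_symm Ψ (f i0 : G → ℂ), hmΨ, hmΨ, map_intCast, map_intCast, hεz] at h0
    have h' : ε * ((m (f q) : ℤ) - m (f i0)) = 0 := by exact_mod_cast h0
    rcases hε with h | h <;> rw [h] at h' <;> omega
  have hmψ : 0 < m ψ := Nat.pos_of_ne_zero fun h => hη (by rw [hm, h, Nat.cast_zero])
  refine ⟨m, m (f j), m (principalIrr G), hmψ, ?_, ?_, ?_⟩
  · have := R.mult_le_pm (f j) η hηker (hm (f j))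
    simp only [hb₀]
    linarith [(by exact_mod_cast this : (m (f j) : ℤ) ≤ R.pm 0 (f j))]
  · have h := classInner_eq_sum_of_coeff hΨcl hmΨ 1
    rw [show Ψ 1 = (Nx.index : ℂ) * (η : Nx → ℂ) 1 from CfsgLib.Induction.indFun_one_apply _ _,
      hη1, mul_one, hk] at h
    simp only [hd] at h
    have h' : ((1 + k * p : ℕ) : ℤ) = ∑ χ, (m χ : ℤ) * d χ := by exact_mod_cast h
    have hle : ∑ χ ∈ E, (m χ : ℤ) * d χ ≤ ∑ χ, (m χ : ℤ) * d χ :=
      Finset.sum_le_sum_of_subset_of_nonneg (Finset.subset_univ E) fun χ _ _ => by positivity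
    rw [Finset.sum_image (fun a _ b _ h => hf h),
      Finset.sum_congr rfl (g := fun _ => (m (f j) : ℤ) * ((p : ℤ) * b₀ + a₀ + ε * e)) (fun q _ => by
        rw [hdf q, hDj, hmconst q, hmconst j]), Finset.sum_const, Finset.card_univ, hιcard,
      nsmul_eq_mul, ← h'] at hle
    push_cast at hle
    linarith
  · have h1 : classInner β Ψ = 1 := by
      simp only [hβ, φ]
      rw [R.classInner_ind_linear η hηker, if_pos rfl, if_neg (Units.ne_zero _), sub_zero]
    have h2 : classInner β Ψ = ((∑ χ, (m χ : ℤ) * A χ : ℤ) : ℂ) := by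
      rw [classInner_eq_sum_mul hΨcl]
      push_cast
      refine Finset.sum_congr rfl fun χ _ => ?_
      rw [hA, hmΨ, map_intCast]
      push_cast
      ring
    rw [h1] at h2
    have h3 : (∑ χ, (m χ : ℤ) * A χ) = 1 := by exact_mod_cast h2.symm
    have h := hsplit (fun χ => (m χ : ℤ) * A χ) (fun χ h _ => by rw [h, mul_zero])
    rw [h3, hAprin, mul_one, Finset.sum_congr rfl (g := fun q => (m (f j) : ℤ) * A (f q))
      (fun q _ => by rw [hmconst q, hmconst j]), ← Finset.mul_sum, hsumA] at h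
    linarith

end CfsgLib.SmallSimple
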