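import Mathlib

/-!
# Vaughan-Lee's bound in graded Lie rings

A finite Lie ring of `p`-power order, generated by an additive subgroup `V` of degree one, in which
every element of `V` has bracket image of order at most `p ^ b`, and in which an element of `V`
attaining the maximum satisfies a derivative condition, has derived part of order at most
`p ^ (b (b + 1) / 2)`.
-/

set_option autoImplicit false

namespace CfsgLib.VaughanLee76

variable {L : Type*} [LieRing L]

/-- The homogeneous components generated by the part of degree one. -/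
def layer (V : AddSubgroup L) : ℕ → AddSubgroup L
  | 0 => V
  | n + 1 => AddSubgroup.closure {z | ∃ v ∈ V, ∃ u ∈ layer V n, ⁅v, u⁆ = z}

theorem layer_lie_mem {V : AddSubgroup L} {n : ℕ} {v u : L} (hv : v ∈ V) (hu : u ∈ layer V n) :
    ⁅v, u⁆ ∈ layer V (n + 1) :=
  AddSubgroup.subset_closure ⟨v, hv, u, hu, rfl⟩

/-- A grading of a Lie ring generated in degree one. -/
structure Grading (V : AddSubgroup L) where
  /-- The projections. -/
  proj : ℕ → L →+ L
  proj_mem : ∀ n u, proj n u ∈ layer V n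
  proj_fix : ∀ n, ∀ u ∈ layer V n, proj n u = u
  proj_off : ∀ m n, m ≠ n → ∀ u ∈ layer V n, proj m u = 0
  proj_lie : ∀ n v u, v ∈ V → proj (n + 1) ⁅v, u⁆ = ⁅v, proj n u⁆
  span : ⨆ n, layer V n = ⊤

/-- The bracket with a fixed element, as an additive map. -/
def adHom (v : L) : L →+ L := AddMonoidHom.mk' (fun u => ⁅v, u⁆) (lie_add v)

/-- The image of the bracket with a fixed element. -/
def ran (v : L) : AddSubgroup L := (adHom v).range

theorem lie_mem_ran (v u : L) : ⁅v, u⁆ ∈ ran v := ⟨u, rfl⟩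

theorem lie_mem_ran' (v u : L) : ⁅u, v⁆ ∈ ran v := by
  rw [← lie_skew]
  exact neg_mem (lie_mem_ran v u)

/-- The sum of the images attached to a list of elements. -/
def tsum : List L → AddSubgroup L
  | [] => ⊥
  | x :: J => ran x ⊔ tsum J

theorem ran_le_tsum : ∀ {J : List L} {j : L}, j ∈ J → ran j ≤ tsum J
  | x :: J, j, h => by
    rcases List.mem_cons.1 h with rfl | h
    · exact le_sup_left
    · exact (ran_le_tsum h).trans le_sup_right

theorem ran_le_of_closure {J : List L} {T : AddSubgroup L} (hJ : ∀ j ∈ J, ran j ≤ T) :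
    ∀ v ∈ AddSubgroup.closure {a | a ∈ J}, ran v ≤ T := by
  intro v hv
  induction hv using AddSubgroup.closure_induction with
  | mem a ha => exact hJ a ha
  | zero => rintro _ ⟨u, rfl⟩; show ⁅(0 : L), u⁆ ∈ T; rw [zero_lie]; exact zero_mem _
  | add a c _ _ ha hc =>
    rintro _ ⟨u, rfl⟩; show ⁅a + c, u⁆ ∈ T
    rw [add_lie]; exact add_mem (ha (lie_mem_ran a u)) (hc (lie_mem_ran c u))
  | neg a _ ha =>
    rintro _ ⟨u, rfl⟩; show ⁅-a, u⁆ ∈ T
    rw [neg_lie]; exact neg_mem (ha (lie_mem_ran a u))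

theorem ran_le_iff {v : L} {T : AddSubgroup L} : ran v ≤ T ↔ ∀ u, ⁅v, u⁆ ∈ T :=
  ⟨fun h u => h (lie_mem_ran v u), fun h => by rintro _ ⟨u, rfl⟩; exact h u⟩

/-- Applying a word of inner derivations. -/
def ap : List L → L → L
  | [], u => u
  | j :: w, u => ⁅j, ap w u⁆

theorem ap_append : ∀ (w w' : List L) (u : L), ap (w ++ w') u = ap w (ap w' u)
  | [], _, _ => rfl
  | _ :: w, w', u => by simp only [List.cons_append, ap]; rw [ap_append w w' u]

theorem ap_add : ∀ (w : List L) (u v : L), ap w (u + v) = ap w u + ap w v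
  | [], _, _ => rfl
  | _ :: w, u, v => by simp only [ap]; rw [ap_add w u v, lie_add]

theorem ap_zsmul (w : List L) (n : ℤ) (u : L) : ap w (n • u) = n • ap w u :=
  map_zsmul (AddMonoidHom.mk' (ap w) (ap_add w)) n u

theorem reverse_mem {T : AddSubgroup L} : ∀ (w : List L), (∀ j ∈ w, ran j ≤ T) → ∀ a c : L,
    ⁅a, ap w c⁆ - (-1 : ℤ) ^ w.length • ⁅ap w.reverse a, c⁆ ∈ T
  | [], _, a, c => by simp [ap]
  | j :: w, hw, a, c => by
    have ih := reverse_mem w (fun k hk => hw k (List.mem_cons_of_mem _ hk)) ⁅j, a⁆ c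
    have h1 : ⁅j, ⁅a, ap w c⁆⁆ ∈ T := hw j List.mem_cons_self (lie_mem_ran j _)
    have e : ⁅a, ⁅j, ap w c⁆⁆ = -⁅⁅j, a⁆, ap w c⁆ + ⁅j, ⁅a, ap w c⁆⁆ := by
      rw [leibniz_lie a j, ← lie_skew j a, neg_lie]; simp
    have h2 := add_mem (neg_mem ih) h1
    show ⁅a, ⁅j, ap w c⁆⁆ - (-1 : ℤ) ^ (w.length + 1) • ⁅ap (j :: w).reverse a, c⁆ ∈ T
    rw [List.reverse_cons, ap_append, e, pow_succ]
    convert h2 using 1
    simp only [ap, mul_neg, mul_one, neg_smul]
    abel

theorem mem_iff_reverse {T : AddSubgroup L} {w : List L} (hw : ∀ j ∈ w, ran j ≤ T) (a c : L) :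
    ⁅a, ap w c⁆ ∈ T ↔ ⁅c, ap w.reverse a⁆ ∈ T := by
  have h := reverse_mem w hw a c
  rw [← lie_skew c (ap w.reverse a)]
  rcases neg_one_pow_eq_or ℤ w.length with e | e <;> rw [e] at h
  · rw [one_smul] at h
    refine ⟨fun h1 => neg_mem ?_, fun h1 => ?_⟩
    · simpa using sub_mem h1 h
    · have := neg_mem_iff.1 h1
      simpa using add_mem h this
  · rw [neg_one_zsmul, sub_neg_eq_add] at h
    refine ⟨fun h1 => neg_mem ?_, fun h1 => ?_⟩
    · simpa using sub_mem h h1
    · have := neg_mem_iff.1 h1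
      simpa using sub_mem h this

theorem mem_sup_ran {T : AddSubgroup L} {w : List L} (hw : ∀ j ∈ w, ran j ≤ T) (a c : L) :
    ⁅a, ap w c⁆ ∈ T ⊔ ran c :=
  (mem_iff_reverse (fun j hj => (hw j hj).trans le_sup_left) a c).2
    (AddSubgroup.mem_sup_right (lie_mem_ran c _))

theorem lie_ap_mem_tsum {J : List L} {w : List L} (hw : ∀ j ∈ w, j ∈ J) {x : L} (a : L) :
    ⁅a, ap w x⁆ ∈ tsum J ⊔ ran x :=
  mem_sup_ran (fun j hj => ran_le_tsum (hw j hj)) a x

/-- `x` and `h` are orthogonal with respect to all words in `J`. -/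
def Orth (J : List L) (h x : L) : Prop :=
  ∀ w : List L, (∀ j ∈ w, j ∈ J) → ⁅h, ap w x⁆ ∈ tsum J

variable {J : List L}

theorem Orth.symm {h x : L} (H : Orth J h x) : Orth J x h := fun w hw =>
  (mem_iff_reverse (fun j hj => ran_le_tsum (hw j hj)) x h).2
    (H w.reverse fun j hj => hw j (List.mem_reverse.1 hj))

theorem Orth.zero_left (x : L) : Orth J 0 x := fun w _ => by rw [zero_lie]; exact zero_mem _

theorem Orth.add_left {h h' x : L} (H : Orth J h x) (H' : Orth J h' x) : Orth J (h + h') x :=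
  fun w hw => by rw [add_lie]; exact add_mem (H w hw) (H' w hw)

theorem Orth.neg_left {h x : L} (H : Orth J h x) : Orth J (-h) x :=
  fun w hw => by rw [neg_lie]; exact neg_mem (H w hw)

theorem Orth.sub_left {h h' x : L} (H : Orth J h x) (H' : Orth J h' x) : Orth J (h - h') x := by
  rw [sub_eq_add_neg]; exact H.add_left H'.neg_left

theorem Orth.add_right {h x x' : L} (H : Orth J h x) (H' : Orth J h x') : Orth J h (x + x') :=
  (H.symm.add_left H'.symm).symm

theorem Orth.sub_right {h x x' : L} (H : Orth J h x) (H' : Orth J h x') : Orth J h (x - x') :=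
  (H.symm.sub_left H'.symm).symm

/-- A subgroup is generated by the complement of a proper subgroup. -/
theorem forall_mem_of_compl {A : Type*} [AddCommGroup A] {H M : AddSubgroup A} (hM : M < H)
    {P : A → Prop} (hsub : ∀ a c, P a → P c → P (a - c)) (hP : ∀ x ∈ H, x ∉ M → P x) :
    ∀ h ∈ H, P h := by
  intro h hh
  by_cases hm : h ∈ M
  · obtain ⟨x, hx, hxM⟩ := SetLike.exists_of_lt hM
    have h1 : x + h ∉ M := fun h' => hxM (by simpa using sub_mem h' hm)
    simpa using hsub _ _ (hP _ (add_mem hx hh) h1) (hP x hx hxM)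
  · exact hP h hh hm

section Finite

variable [Finite L] {p : ℕ} [hp : Fact p.Prime]

theorem exists_card {e : ℕ} (hL : Nat.card L = p ^ e) (S : AddSubgroup L) :
    ∃ k, Nat.card S = p ^ k := by
  have h := S.card_addSubgroup_dvd_card
  rw [hL] at h
  obtain ⟨k, -, hk⟩ := (Nat.dvd_prime_pow hp.out).1 h
  exact ⟨k, hk⟩

theorem mul_card_le_of_lt {e : ℕ} (hL : Nat.card L = p ^ e) {S S' : AddSubgroup L} (h : S < S') :
    p * Nat.card S ≤ Nat.card S' := by
  obtain ⟨a, ha⟩ := exists_card hL S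
  obtain ⟨c, hc⟩ := exists_card hL S'
  have hlt : Nat.card S < Nat.card S' := by
    refine lt_of_le_of_ne (AddSubgroup.card_le_of_le h.le) fun he => h.ne ?_
    exact AddSubgroup.eq_of_le_of_card_ge h.le he.ge
  rw [ha, hc] at hlt ⊢
  rw [← pow_succ']
  exact Nat.pow_le_pow_right hp.out.pos ((Nat.pow_lt_pow_iff_right hp.out.one_lt).1 hlt)

theorem card_sup_mul_inf (S S' : AddSubgroup L) :
    Nat.card ↥(S ⊔ S') * Nat.card ↥(S ⊓ S') = Nat.card S * Nat.card S' := by
  have h1 := AddSubgroup.relIndex_sup_right (H := S) (K := S')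
  have h2 := (S'.addSubgroupOf (S ⊔ S')).card_mul_index
  have h3 := (S'.addSubgroupOf S).card_mul_index
  rw [Nat.card_congr (AddSubgroup.addSubgroupOfEquivOfLe (le_sup_right : S' ≤ S ⊔ S')).toEquiv] at h2
  have h4 : Nat.card ↥(S'.addSubgroupOf S) = Nat.card ↥(S ⊓ S') := by
    rw [← AddSubgroup.inf_addSubgroupOf_right,
      Nat.card_congr (AddSubgroup.addSubgroupOfEquivOfLe (inf_le_right : S' ⊓ S ≤ S)).toEquiv,
      inf_comm]
  rw [h4] at h3
  rw [← h2, ← h3]
  simp only [AddSubgroup.relIndex] at h1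
  rw [h1]
  ring

theorem card_sup_le (S S' : AddSubgroup L) : Nat.card ↥(S ⊔ S') ≤ Nat.card S * Nat.card S' := by
  rw [← card_sup_mul_inf]
  exact Nat.le_mul_of_pos_right _ Nat.card_pos

/-- The image of the bracket with `v` has order at most `p ^ k` modulo `T`. -/
def Bd (p : ℕ) (T : AddSubgroup L) (v : L) (k : ℕ) : Prop :=
  Nat.card ↥(T ⊔ ran v) ≤ Nat.card T * p ^ k

omit [Finite L] in
theorem ran_zsmul_le (n : ℤ) (x : L) : ran (n • x) ≤ ran x :=
  ran_le_iff.2 fun u => by rw [zsmul_lie, ← lie_zsmul]; exact lie_mem_ran x _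

theorem eq_mem_of_zsmul {e : ℕ} (hL : Nat.card L = p ^ e) {t : ℤ} (ht : IsCoprime t (p : ℤ))
    {T : AddSubgroup L} {z : L} (h : t • z ∈ T) : z ∈ T := by
  obtain ⟨a, c, hac⟩ := ht.pow_right (n := e)
  have hz : (((p : ℤ) ^ e) : ℤ) • z = 0 := by
    rw [show ((p : ℤ) ^ e) = ((p ^ e : ℕ) : ℤ) by push_cast; rfl, natCast_zsmul, ← hL]
    exact card_nsmul_eq_zero'
  have : z = a • (t • z) := by
    conv_lhs => rw [← one_zsmul z, ← hac, add_zsmul, mul_zsmul, mul_zsmul, hz, zsmul_zero, add_zero]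
  rw [this]
  exact zsmul_mem h a

/-- The strictness lemma. -/
theorem bd_step {e : ℕ} (hL : Nat.card L = p ^ e) {T : AddSubgroup L} {x y u : L} {b : ℕ}
    (hb : Bd p T (x + y) b) (hyu : ⁅y, u⁆ ∈ T ⊔ ran x) (hxy : ⁅x + y, u⁆ ∉ T) :
    1 ≤ b ∧ Bd p (T ⊔ ran x) y (b - 1) := by
  set T1 := T ⊔ ran x with hT1
  set S := T ⊔ ran (x + y) with hS
  have hlt : T < T1 ⊓ S := by
    refine lt_of_le_of_ne (le_inf le_sup_left le_sup_left) fun he => hxy ?_
    rw [he]
    refine AddSubgroup.mem_inf.2 ⟨?_, AddSubgroup.mem_sup_right (lie_mem_ran _ u)⟩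
    rw [add_lie]
    exact add_mem (AddSubgroup.mem_sup_right (lie_mem_ran x u)) hyu
  have h1 := mul_card_le_of_lt hL hlt
  have h2 := card_sup_mul_inf T1 S
  have h3 : Nat.card ↥(T1 ⊓ S) ≤ Nat.card S := AddSubgroup.card_le_of_le inf_le_right
  have hb' : Nat.card S ≤ Nat.card T * p ^ b := hb
  have hT : 0 < Nat.card T := Nat.card_pos
  have hb1 : 1 ≤ b := by
    by_contra hb0
    obtain rfl : b = 0 := by omega
    rw [pow_zero, mul_one] at hb'
    have := Nat.mul_le_mul_right (Nat.card T) hp.out.two_le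
    omega
  refine ⟨hb1, ?_⟩
  have hle : T1 ⊔ ran y ≤ T1 ⊔ S := by
    refine sup_le le_sup_left (ran_le_iff.2 fun v => ?_)
    rw [show ⁅y, v⁆ = -⁅x, v⁆ + ⁅x + y, v⁆ by rw [add_lie]; abel]
    exact add_mem (AddSubgroup.mem_sup_left (neg_mem (AddSubgroup.mem_sup_right (lie_mem_ran x v))))
      (AddSubgroup.mem_sup_right (AddSubgroup.mem_sup_right (lie_mem_ran _ v)))
  refine (AddSubgroup.card_le_of_le hle).trans ?_
  obtain ⟨c, rfl⟩ : ∃ c, b = c + 1 := ⟨b - 1, by omega⟩
  rw [Nat.add_sub_cancel]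
  refine Nat.le_of_mul_le_mul_left ?_ (Nat.mul_pos hp.out.pos hT)
  calc p * Nat.card T * Nat.card ↥(T1 ⊔ S) ≤ Nat.card ↥(T1 ⊓ S) * Nat.card ↥(T1 ⊔ S) :=
        Nat.mul_le_mul_right _ h1
    _ = Nat.card T1 * Nat.card S := by rw [mul_comm, h2]
    _ ≤ Nat.card T1 * (Nat.card T * p ^ (c + 1)) := Nat.mul_le_mul_left _ hb'
    _ = p * Nat.card T * (Nat.card T1 * p ^ c) := by rw [pow_succ]; ring

theorem exists_maximal_proper {H K : AddSubgroup L} (hK : K < H) :
    ∃ M, K ≤ M ∧ M < H ∧ ∀ x ∈ H, x ∉ M → H ≤ AddSubgroup.zmultiples x ⊔ M := by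
  obtain ⟨M, hKM, hM⟩ := Set.Finite.exists_le_maximal (s := {M : AddSubgroup L | K ≤ M ∧ M < H})
    (Set.toFinite _) ⟨le_rfl, hK⟩
  refine ⟨M, hKM, hM.1.2, fun x hx hxM => ?_⟩
  by_contra hne
  have hlt : AddSubgroup.zmultiples x ⊔ M < H :=
    lt_of_le_not_ge (sup_le (AddSubgroup.zmultiples_le_of_mem hx) hM.1.2.le) hne
  exact hxM (hM.2 ⟨hKM.trans le_sup_right, hlt⟩ le_sup_right
    (AddSubgroup.mem_sup_left (AddSubgroup.mem_zmultiples x)))

variable {V : AddSubgroup L}

/-- The words of `J'` applied to `J'`, together with the words of `J` applied to `K`. -/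
def spanWords (J J' : List L) (K : AddSubgroup L) : AddSubgroup L :=
  AddSubgroup.closure ({z | ∃ w, (∀ j ∈ w, j ∈ J') ∧ ∃ a ∈ J', ap w a = z} ∪
    {z | ∃ w, (∀ j ∈ w, j ∈ J) ∧ ∃ k ∈ K, ap w k = z})

omit [Finite L] in
theorem layer_le_of (G : Grading V) {J J' : List L} {K : AddSubgroup L} (hsub : ∀ j ∈ J, j ∈ J')
    (hspan : V ≤ AddSubgroup.closure {a | a ∈ J'} ⊔ K) (hJ'V : ∀ j ∈ J', j ∈ V) (hKV : K ≤ V)
    (hnew : ∀ a ∈ J', a ∉ J → ∀ w : List L, (∀ j ∈ w, j ∈ J) → ∀ k ∈ K, ⁅a, ap w k⁆ ∈ tsum J ⊔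
      AddSubgroup.closure {z | ∃ w, (∀ j ∈ w, j ∈ J') ∧ ∃ a ∈ J', ap w a = z})
    (hK : ∀ w : List L, (∀ j ∈ w, j ∈ J) → ∀ k ∈ K, ∀ k' ∈ K, ⁅k, ap w k'⁆ ∈ tsum J') :
    ∀ v ∈ V, ran v ≤ tsum J' := by
  set W := AddSubgroup.closure {z | ∃ w, (∀ j ∈ w, j ∈ J') ∧ ∃ a ∈ J', ap w a = z} with hW
  set F := spanWords J J' K with hF
  have hWF : W ≤ F := AddSubgroup.closure_mono Set.subset_union_left
  have hKF : ∀ k ∈ K, ∀ u ∈ F, ⁅k, u⁆ ∈ tsum J' := by
    intro k hk u hu
    induction hu using AddSubgroup.closure_induction with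
    | mem z hz =>
      rcases hz with ⟨w, hw, a, ha, rfl⟩ | ⟨w, hw, k', hk', rfl⟩
      · exact sup_le le_rfl (ran_le_tsum ha) (lie_ap_mem_tsum hw k)
      · exact hK w hw k hk k' hk'
    | zero => rw [lie_zero]; exact zero_mem _
    | add a c _ _ ha hc => rw [lie_add]; exact add_mem ha hc
    | neg a _ ha => rw [lie_neg]; exact neg_mem ha
  have key : ∀ n, layer V n ≤ F := by
    intro n
    induction n with
    | zero =>
      refine hspan.trans (sup_le ((AddSubgroup.closure_le _).2 fun a ha => ?_) fun k hk => ?_)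
      · exact AddSubgroup.subset_closure (Or.inl ⟨[], by simp, a, ha, rfl⟩)
      · exact AddSubgroup.subset_closure (Or.inr ⟨[], by simp, k, hk, rfl⟩)
    | succ n ih =>
      have hproj : ∀ l : List L, (∀ j ∈ l, j ∈ V) → (∀ j ∈ l, ∀ u ∈ layer V n, ⁅j, u⁆ ∈ F) →
          ∀ z ∈ tsum l, G.proj (n + 1) z ∈ F := by
        intro l
        induction l with
        | nil =>
          intro _ _ z hz
          rw [tsum, AddSubgroup.mem_bot] at hz
          rw [hz, map_zero]; exact zero_mem _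
        | cons x l ihl =>
          intro hV hl z hz
          obtain ⟨z₁, ⟨u, rfl⟩, z₂, hz₂, rfl⟩ := AddSubgroup.mem_sup.1 hz
          rw [map_add]
          refine add_mem ?_ (ihl (fun j hj => hV j (List.mem_cons_of_mem _ hj))
            (fun j hj => hl j (List.mem_cons_of_mem _ hj)) z₂ hz₂)
          show G.proj (n + 1) ⁅x, u⁆ ∈ F
          rw [G.proj_lie n x u (hV x List.mem_cons_self)]
          exact hl x List.mem_cons_self _ (G.proj_mem n u)
      have hJF : ∀ j ∈ J, ∀ u ∈ F, ⁅j, u⁆ ∈ F := by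
        intro j hj u hu
        induction hu using AddSubgroup.closure_induction with
        | mem z hz =>
          rcases hz with ⟨w, hw, a, ha, rfl⟩ | ⟨w, hw, k', hk', rfl⟩
          · exact AddSubgroup.subset_closure (Or.inl ⟨j :: w, List.forall_mem_cons.2 ⟨hsub j hj, hw⟩, a, ha, rfl⟩)
          · exact AddSubgroup.subset_closure (Or.inr ⟨j :: w, List.forall_mem_cons.2 ⟨hj, hw⟩, k', hk', rfl⟩)
        | zero => rw [lie_zero]; exact zero_mem _
        | add a c _ _ ha hc => rw [lie_add]; exact add_mem ha hc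
        | neg a _ ha => rw [lie_neg]; exact neg_mem ha
      have hold : ∀ z ∈ tsum J, G.proj (n + 1) z ∈ F :=
        hproj J (fun j hj => hJ'V j (hsub j hj)) fun j hj u hu => hJF j hj u (ih hu)
      -- brackets of generators with an element of the layer
      have hgen : ∀ a ∈ J', ∀ u ∈ layer V n, ⁅a, u⁆ ∈ F := by
        intro a ha u hu
        by_cases haJ : a ∈ J
        · exact hJF a haJ u (ih hu)
        have h1 : ∀ u ∈ F, ⁅a, u⁆ ∈ tsum J ⊔ W := by
          intro u hu
          induction hu using AddSubgroup.closure_induction with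
          | mem z hz =>
            rcases hz with ⟨w, hw, a', ha', rfl⟩ | ⟨w, hw, k', hk', rfl⟩
            · exact AddSubgroup.mem_sup_right (AddSubgroup.subset_closure
                ⟨a :: w, List.forall_mem_cons.2 ⟨ha, hw⟩, a', ha', rfl⟩)
            · exact hnew a ha haJ w hw k' hk'
          | zero => rw [lie_zero]; exact zero_mem _
          | add a c _ _ ha hc => rw [lie_add]; exact add_mem ha hc
          | neg a _ ha => rw [lie_neg]; exact neg_mem ha
        obtain ⟨z₁, hz₁, z₂, hz₂, hz⟩ := AddSubgroup.mem_sup.1 (h1 u (ih hu))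
        have hfix : G.proj (n + 1) ⁅a, u⁆ = ⁅a, u⁆ := G.proj_fix _ _ (layer_lie_mem (hJ'V a ha) hu)
        rw [← hfix, ← hz, map_add]
        refine add_mem (hold z₁ hz₁) ?_
        -- the projection of a word is a word or zero
        clear hz h1 hfix
        induction hz₂ using AddSubgroup.closure_induction with
        | mem z hz =>
          obtain ⟨w, hw, a', ha', rfl⟩ := hz
          have hlay : ∀ w : List L, (∀ j ∈ w, j ∈ J') → ap w a' ∈ layer V w.length := by
            intro w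
            induction w with
            | nil => exact fun _ => hJ'V a' ha'
            | cons j w ihw =>
              intro hw
              exact layer_lie_mem (hJ'V j (hw j List.mem_cons_self))
                (ihw fun k hk => hw k (List.mem_cons_of_mem _ hk))
          by_cases hlen : w.length = n + 1
          · rw [← hlen, G.proj_fix _ _ (hlay w hw)]
            exact hWF (AddSubgroup.subset_closure ⟨w, hw, a', ha', rfl⟩)
          · rw [G.proj_off _ _ (Ne.symm hlen) _ (hlay w hw)]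
            exact zero_mem _
        | zero => rw [map_zero]; exact zero_mem _
        | add a c _ _ ha hc => rw [map_add]; exact add_mem ha hc
        | neg a _ ha => rw [map_neg]; exact neg_mem ha
      have hnewT : ∀ z ∈ tsum J', G.proj (n + 1) z ∈ F := hproj J' hJ'V hgen
      refine (AddSubgroup.closure_le _).2 ?_
      rintro _ ⟨v, hv, u, hu, rfl⟩
      obtain ⟨v₁, hv₁, k, hk, rfl⟩ := AddSubgroup.mem_sup.1 (hspan hv)
      clear hv
      rw [add_lie]
      refine add_mem ?_ ?_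
      · induction hv₁ using AddSubgroup.closure_induction with
        | mem a ha => exact hgen a ha u hu
        | zero => rw [zero_lie]; exact zero_mem _
        | add a c _ _ ha hc => rw [add_lie]; exact add_mem ha hc
        | neg a _ ha => rw [neg_lie]; exact neg_mem ha
      · rw [← G.proj_fix (n + 1) _ (layer_lie_mem (hKV hk) hu)]
        exact hnewT _ (hKF k hk u (ih hu))
  intro v hv
  obtain ⟨v₁, hv₁, k, hk, rfl⟩ := AddSubgroup.mem_sup.1 (hspan hv)
  refine ran_le_iff.2 fun u => ?_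
  rw [add_lie]
  refine add_mem (ran_le_of_closure (fun j hj => ran_le_tsum hj) v₁ hv₁ (lie_mem_ran _ u)) ?_
  have hall : (⊤ : AddSubgroup L) ≤ F := G.span ▸ iSup_le key
  exact hKF k hk u (hall (AddSubgroup.mem_top u))

end Finite

end CfsgLib.VaughanLee76
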