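import Cfsg.Agent.Lib.Struct76.VaughanLee

/-!
# The recursion for Vaughan-Lee's bound
-/

set_option autoImplicit false

namespace CfsgLib.VaughanLee76

variable {L : Type*} [LieRing L] [Finite L] {p : ℕ} [hp : Fact p.Prime] {V : AddSubgroup L}

/-- `b (b + 1) / 2`. -/
def tri : ℕ → ℕ
  | 0 => 0
  | b + 1 => b + 1 + tri b

theorem two_mul_tri : ∀ b, 2 * tri b = b * (b + 1)
  | 0 => rfl
  | b + 1 => by rw [tri, Nat.mul_add, two_mul_tri b]; ring

theorem two_mul_le_tri : ∀ b, 2 * b ≤ tri b + 1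
  | 0 => by simp [tri]
  | 1 => by simp [tri]
  | b + 2 => by
    have := two_mul_le_tri (b + 1)
    simp only [tri] at this ⊢
    omega

theorem card_sup_ran_two {T : AddSubgroup L} {x x' : L} {b : ℕ} (h : Bd p T x b) (h' : Bd p T x' b) :
    Nat.card ↥(ran x' ⊔ (ran x ⊔ T)) ≤ Nat.card T * p ^ (2 * b) := by
  have h1 := card_sup_mul_inf (T ⊔ ran x) (T ⊔ ran x')
  have h2 : Nat.card T ≤ Nat.card ↥((T ⊔ ran x) ⊓ (T ⊔ ran x')) :=
    AddSubgroup.card_le_of_le (le_inf le_sup_left le_sup_left)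
  have h3 : ran x' ⊔ (ran x ⊔ T) = (T ⊔ ran x) ⊔ (T ⊔ ran x') := by
    rw [sup_comm, sup_comm (ran x) T, sup_sup_sup_comm, sup_idem, sup_assoc]
  rw [h3]
  refine Nat.le_of_mul_le_mul_left ?_ (Nat.card_pos (α := T))
  calc Nat.card T * Nat.card ↥((T ⊔ ran x) ⊔ (T ⊔ ran x'))
      ≤ Nat.card ↥((T ⊔ ran x) ⊓ (T ⊔ ran x')) * Nat.card ↥((T ⊔ ran x) ⊔ (T ⊔ ran x')) :=
        Nat.mul_le_mul_right _ h2
    _ = Nat.card ↥(T ⊔ ran x) * Nat.card ↥(T ⊔ ran x') := by rw [mul_comm, h1]
    _ ≤ (Nat.card T * p ^ b) * (Nat.card T * p ^ b) := Nat.mul_le_mul h h'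
    _ = Nat.card T * (Nat.card T * p ^ (2 * b)) := by rw [two_mul, pow_add]; ring

omit [Finite L] in
theorem orth_zsmul_left {J : List L} (n : ℤ) {h x : L} (H : Orth J h x) : Orth J (n • h) x :=
  fun w hw => by rw [zsmul_lie]; exact zsmul_mem (H w hw) n

omit [Finite L] in
theorem closure_cons_sup_le {J : List L} {x : L} {M : AddSubgroup L} :
    AddSubgroup.closure {a | a ∈ J} ⊔ (AddSubgroup.zmultiples x ⊔ M) ≤
      AddSubgroup.closure {a | a ∈ x :: J} ⊔ M := by
  refine sup_le ((AddSubgroup.closure_mono fun a ha => List.mem_cons_of_mem _ ha).trans le_sup_left)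
    (sup_le ?_ le_sup_right)
  exact (AddSubgroup.zmultiples_le_of_mem
    (AddSubgroup.subset_closure (show x ∈ {a | a ∈ x :: J} from List.mem_cons_self))).trans le_sup_left

omit [Finite L] in
theorem hnew_of_orth {J J' : List L} {K : AddSubgroup L} {x : L} (h : ∀ k ∈ K, Orth J k x) :
    ∀ w : List L, (∀ j ∈ w, j ∈ J) → ∀ k ∈ K, ⁅x, ap w k⁆ ∈ tsum J ⊔
      AddSubgroup.closure {z | ∃ w, (∀ j ∈ w, j ∈ J') ∧ ∃ a ∈ J', ap w a = z} :=
  fun w hw k hk => AddSubgroup.mem_sup_left ((h k hk).symm w hw)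

/-- The bound up to one factor `p`. -/
theorem bound_add_one {e : ℕ} (hL : Nat.card L = p ^ e) (G : Grading V) :
    ∀ (b : ℕ) (J : List L) (H M : AddSubgroup L), (∀ j ∈ J, j ∈ V) → H ≤ V → M < H →
      V ≤ AddSubgroup.closure {a | a ∈ J} ⊔ H → (∀ y ∈ H, y ∉ M → Bd p (tsum J) y b) →
      ∃ T : AddSubgroup L, (∀ v ∈ V, ran v ≤ T) ∧
        Nat.card T ≤ Nat.card (tsum J) * p ^ (tri b + 1) := by
  intro b
  induction b using Nat.strong_induction_on with
  | _ b ih =>
  intro J H M₀ hJ hHV hM₀ hspan hbd₀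
  obtain ⟨M, hM₀M, hMH, hmax⟩ := exists_maximal_proper hM₀
  have hbd : ∀ y ∈ H, y ∉ M → Bd p (tsum J) y b := fun y hy hyM => hbd₀ y hy fun h => hyM (hM₀M h)
  -- the scalar used to kill the residual cases
  obtain ⟨t, ht, htq⟩ : ∃ t : ℤ, IsCoprime t (p : ℤ) ∧ ∀ x y : L, Orth J (x + y) x →
      Orth J (t • x + y) x → Orth J (x + x) x := by
    by_cases h2 : p = 2
    · refine ⟨3, by rw [h2]; exact ⟨1, -1, by norm_num⟩, fun x y h1 h3 => ?_⟩
      have := h3.sub_left h1
      rwa [show (3 : ℤ) • x + y - (x + y) = x + x by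
        rw [show (3 : ℤ) = 1 + 1 + 1 by norm_num, add_zsmul, add_zsmul, one_zsmul]; abel] at this
    · refine ⟨2, ?_, fun x y h1 h2' => ?_⟩
      · have : Nat.Coprime 2 p := (Nat.coprime_primes Nat.prime_two hp.out).2 fun h => h2 h.symm
        exact_mod_cast this.isCoprime
      · have := h2'.sub_left h1
        rw [show (2 : ℤ) • x + y - (x + y) = x by rw [two_zsmul]; abel] at this
        exact this.add_left this
  -- either some pivot gives a strict step
  by_cases hstep : ∃ x ∈ H, x ∉ M ∧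
      AddSubgroup.closure {y | y ∈ M ∧ Orth J (x + y) x ∧ Orth J (t • x + y) x} < M
  · obtain ⟨x, hx, hxM, hK⟩ := hstep
    set K := AddSubgroup.closure {y | y ∈ M ∧ Orth J (x + y) x ∧ Orth J (t • x + y) x} with hKdef
    have hbad : ∀ y ∈ M, y ∉ K → 1 ≤ b ∧ Bd p (tsum (x :: J)) y (b - 1) := by
      intro y hy hyK
      have h1 : ¬ (Orth J (x + y) x ∧ Orth J (t • x + y) x) := fun h =>
        hyK (AddSubgroup.subset_closure ⟨hy, h⟩)
      have hcom : tsum (x :: J) = tsum J ⊔ ran x := sup_comm _ _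
      rw [hcom]
      rcases not_and_or.1 h1 with h | h
      · simp only [Orth, not_forall] at h
        obtain ⟨w, hw, hu⟩ := h
        exact bd_step hL (hbd _ (add_mem hx (hMH.le hy))
          fun hc => hxM (by simpa using sub_mem hc hy)) (lie_ap_mem_tsum hw y) hu
      · simp only [Orth, not_forall] at h
        obtain ⟨w, hw, hu⟩ := h
        have hxx : x ∈ AddSubgroup.zmultiples (t • x) := eq_mem_of_zsmul hL ht
          (AddSubgroup.mem_zmultiples _)
        have hran : ran (t • x) = ran x := by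
          refine le_antisymm (ran_zsmul_le t x) ?_
          obtain ⟨n, hn⟩ := AddSubgroup.mem_zmultiples_iff.1 hxx
          conv_lhs => rw [← hn]
          exact ran_zsmul_le n _
        have := bd_step hL (hbd _ (add_mem (zsmul_mem hx t) (hMH.le hy))
          fun hc => hxM (eq_mem_of_zsmul hL ht (by simpa using sub_mem hc hy)))
          (x := t • x) (by rw [hran]; exact lie_ap_mem_tsum hw y) hu
        rwa [hran] at this
    obtain ⟨y, hy, hyK⟩ := SetLike.exists_of_lt hK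
    have hb1 := (hbad y hy hyK).1
    obtain ⟨T, hT, hcard⟩ := ih (b - 1) (by omega) (x :: J) M K
      (List.forall_mem_cons.2 ⟨hHV hx, hJ⟩) (hMH.le.trans hHV) hK
      (hspan.trans ((sup_le_sup_left (hmax x hx hxM) _).trans closure_cons_sup_le))
      fun y hy hyK => (hbad y hy hyK).2
    refine ⟨T, hT, hcard.trans ?_⟩
    obtain ⟨c, rfl⟩ : ∃ c, b = c + 1 := ⟨b - 1, by omega⟩
    rw [Nat.add_sub_cancel, show tri (c + 1) + 1 = (c + 1) + (tri c + 1) by simp [tri]; ring,
      pow_add p (c + 1), ← mul_assoc]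
    refine Nat.mul_le_mul_right _ ?_
    rw [show tsum (x :: J) = tsum J ⊔ ran x from sup_comm _ _]
    exact hbd x hx hxM
  push Not at hstep
  by_cases hMbot : M = ⊥
  · obtain ⟨x, hx, hxM⟩ := SetLike.exists_of_lt hMH
    refine ⟨tsum (x :: J), layer_le_of G (K := ⊥) (fun j hj => List.mem_cons_of_mem _ hj)
      (hspan.trans ((sup_le_sup_left (hmax x hx hxM) _).trans (by rw [hMbot]; exact closure_cons_sup_le)))
      (List.forall_mem_cons.2 ⟨hHV hx, hJ⟩) bot_le
      (fun a ha haJ w hw k hk => ?_) (fun w hw k hk k' hk' => ?_), ?_⟩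
    · rw [AddSubgroup.mem_bot] at hk
      rw [hk, ← zero_smul ℤ (0 : L), ap_zsmul, zero_smul, lie_zero]; exact zero_mem _
    · rw [AddSubgroup.mem_bot] at hk
      rw [hk, zero_lie]; exact zero_mem _
    · rw [show tsum (x :: J) = tsum J ⊔ ran x from sup_comm _ _]
      refine (hbd x hx hxM).trans (Nat.mul_le_mul_left _ (Nat.pow_le_pow_right hp.out.pos ?_))
      have := two_mul_le_tri b
      omega
  -- residual situation
  have hres : ∀ x ∈ H, x ∉ M → Orth J (x + x) x ∧
      ∀ y ∈ M, Orth J y x ∨ Orth J (x + y) x := by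
    intro x hx hxM
    have hKM : AddSubgroup.closure {y | y ∈ M ∧ Orth J (x + y) x ∧ Orth J (t • x + y) x} = M :=
      eq_of_le_of_not_lt ((AddSubgroup.closure_le _).2 fun y hy => hy.1) (hstep x hx hxM)
    obtain ⟨y₀, hy₀⟩ : ∃ y, y ∈ M ∧ Orth J (x + y) x ∧ Orth J (t • x + y) x := by
      by_contra h
      push Not at h
      refine hMbot ?_
      rw [← hKM, AddSubgroup.closure_eq_bot_iff]
      intro y hy
      exact absurd hy.2.2 (h y hy.1 hy.2.1)
    have hQ : Orth J (x + x) x := htq x y₀ hy₀.2.1 hy₀.2.2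
    refine ⟨hQ, fun y hy => ?_⟩
    rw [← hKM] at hy
    induction hy using AddSubgroup.closure_induction with
    | mem y hy => exact Or.inr hy.2.1
    | zero => exact Or.inl (Orth.zero_left x)
    | add a c _ _ ha hc =>
      rcases ha with ha | ha <;> rcases hc with hc | hc
      · exact Or.inl (ha.add_left hc)
      · right; rw [show x + (a + c) = a + (x + c) by abel]; exact ha.add_left hc
      · right; rw [show x + (a + c) = (x + a) + c by abel]; exact ha.add_left hc
      · left; rw [show a + c = (x + a) + (x + c) - (x + x) by abel]; exact (ha.add_left hc).sub_left hQ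
    | neg a _ ha =>
      rcases ha with ha | ha
      · exact Or.inl ha.neg_left
      · right; rw [show x + -a = (x + x) - (x + a) by abel]; exact hQ.sub_left ha
  have hH : ∀ x ∈ H, x ∉ M → ∀ {P : AddSubgroup L}, x ∈ P → M ≤ P → H ≤ P := fun x hx hxM P hP hMP =>
    (hmax x hx hxM).trans (sup_le (AddSubgroup.zmultiples_le_of_mem hP) hMP)
  by_cases hall : ∀ x ∈ H, x ∉ M → Orth J x x
  · refine ⟨tsum J, layer_le_of G (J' := J) (fun j hj => hj) hspan hJ hHV
      (fun a ha haJ => absurd ha haJ) (fun w hw k hk k' hk' => ?_),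
      Nat.le_mul_of_pos_right _ (pow_pos hp.out.pos _)⟩
    have h1 : ∀ x ∈ H, x ∉ M → Orth J k x := by
      intro x hx hxM
      have h2 : ∀ y ∈ M, Orth J y x := fun y hy => ((hres x hx hxM).2 y hy).elim id fun h => by
        simpa using h.sub_left (hall x hx hxM)
      obtain ⟨z₁, hz₁, m, hm, rfl⟩ := AddSubgroup.mem_sup.1 (hmax x hx hxM hk)
      obtain ⟨n, rfl⟩ := AddSubgroup.mem_zmultiples_iff.1 hz₁
      exact (orth_zsmul_left n (hall x hx hxM)).add_left (h2 m hm)
    exact forall_mem_of_compl hMH (P := fun z => Orth J k z) (fun a c ha hc => ha.sub_right hc) h1 k' hk' w hw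
  push Not at hall
  obtain ⟨x, hx, hxM, hq⟩ := hall
  have hQ := (hres x hx hxM).1
  let K : AddSubgroup L :=
    { carrier := {y | y ∈ M ∧ Orth J y x}
      zero_mem' := ⟨zero_mem _, Orth.zero_left x⟩
      add_mem' := fun ha hc => ⟨add_mem ha.1 hc.1, ha.2.add_left hc.2⟩
      neg_mem' := fun ha => ⟨neg_mem ha.1, ha.2.neg_left⟩ }
  have hkk : ∀ w : List L, (∀ j ∈ w, j ∈ J) → ∀ k ∈ K, ∀ k' ∈ K,
      ⁅k', ap w k⁆ ∈ tsum J ⊔ ran x := by
    rintro w hw k ⟨hkM, hk⟩ k' ⟨hkM', hk'⟩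
    have hxk : x + k ∈ H := add_mem hx (hMH.le hkM)
    have hxkM : x + k ∉ M := fun hc => hxM (by simpa using sub_mem hc hkM)
    obtain ⟨hQ', hP'⟩ := hres _ hxk hxkM
    have hkd : Orth J k k := by
      rcases hP' k hkM with h | h
      · simpa using h.sub_right hk
      · exfalso
        refine hq ?_
        have h3 : Orth J x (x + k) := by
          have := hQ'.sub_left h
          rwa [show x + k + (x + k) - (x + k + k) = x by abel] at this
        simpa using h3.sub_right hk.symm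
    rcases hP' k' hkM' with h | h
    · have h3 : Orth J k' k := by simpa using h.sub_right hk'
      exact AddSubgroup.mem_sup_left (h3 w hw)
    · have h3 := h w hw
      rw [add_lie, add_lie, ap_add, lie_add, lie_add, lie_add] at h3
      have e : ⁅k', ap w k⁆ = (⁅x, ap w x⁆ + ⁅x, ap w k⁆ + (⁅k, ap w x⁆ + ⁅k, ap w k⁆) +
          (⁅k', ap w x⁆ + ⁅k', ap w k⁆)) - ⁅x, ap w x⁆ - ⁅x, ap w k⁆ - ⁅k, ap w x⁆ - ⁅k, ap w k⁆ -
          ⁅k', ap w x⁆ := by abel
      rw [e]
      exact sub_mem (sub_mem (sub_mem (sub_mem (sub_mem (AddSubgroup.mem_sup_left h3)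
        (AddSubgroup.mem_sup_right (lie_mem_ran x _))) (AddSubgroup.mem_sup_left (hk.symm w hw)))
        (AddSubgroup.mem_sup_left (hk w hw))) (AddSubgroup.mem_sup_left (hkd w hw)))
        (AddSubgroup.mem_sup_left (hk' w hw))
  by_cases hM2 : ∀ y ∈ M, Orth J y x
  · refine ⟨tsum (x :: J), layer_le_of G (K := K) (fun j hj => List.mem_cons_of_mem _ hj)
      (hspan.trans (((sup_le_sup_left (hmax x hx hxM) _).trans closure_cons_sup_le).trans
        (sup_le_sup_left (fun y hy => ⟨hy, hM2 y hy⟩) _)))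
      (List.forall_mem_cons.2 ⟨hHV hx, hJ⟩) (fun y hy => hHV (hMH.le hy.1))
      (fun a ha haJ => ?_) (fun w hw k hk k' hk' => ?_), ?_⟩
    · rcases List.mem_cons.1 ha with rfl | ha
      · exact hnew_of_orth fun k hk => hk.2
      · exact absurd ha haJ
    · show _ ∈ ran x ⊔ tsum J
      rw [sup_comm]
      exact hkk w hw k' hk' k hk
    · rw [show tsum (x :: J) = tsum J ⊔ ran x from sup_comm _ _]
      refine (hbd x hx hxM).trans (Nat.mul_le_mul_left _ (Nat.pow_le_pow_right hp.out.pos ?_))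
      have := two_mul_le_tri b
      omega
  push Not at hM2
  obtain ⟨y₀, hy₀M, hy₀⟩ := hM2
  have hy₀' : Orth J (x + y₀) x := ((hres x hx hxM).2 y₀ hy₀M).resolve_left hy₀
  set x' := x + y₀ with hx'def
  have hx' : x' ∈ H := add_mem hx (hMH.le hy₀M)
  have hxM' : x' ∉ M := fun hc => hxM (by simpa [hx'def] using sub_mem hc hy₀M)
  have hMle : M ≤ AddSubgroup.closure {a | a ∈ x' :: x :: J} ⊔ K := by
    intro m hm
    rcases (hres x hx hxM).2 m hm with h | h
    · exact AddSubgroup.mem_sup_right ⟨hm, h⟩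
    · rw [show m = x' - x + (m - y₀) by rw [hx'def]; abel]
      refine add_mem (sub_mem (AddSubgroup.mem_sup_left (AddSubgroup.subset_closure List.mem_cons_self))
        (AddSubgroup.mem_sup_left (AddSubgroup.subset_closure
          (List.mem_cons_of_mem _ List.mem_cons_self))))
        (AddSubgroup.mem_sup_right ⟨sub_mem hm hy₀M, ?_⟩)
      rw [show m - y₀ = (x + m) - (x + y₀) by abel]
      exact h.sub_left hy₀'
  refine ⟨tsum (x' :: x :: J), layer_le_of G (K := K)
    (fun j hj => List.mem_cons_of_mem _ (List.mem_cons_of_mem _ hj))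
    (hspan.trans (sup_le ?_ (hH x hx hxM (AddSubgroup.mem_sup_left (AddSubgroup.subset_closure
      (List.mem_cons_of_mem _ List.mem_cons_self))) hMle)))
    (List.forall_mem_cons.2 ⟨hHV hx', List.forall_mem_cons.2 ⟨hHV hx, hJ⟩⟩)
    (fun y hy => hHV (hMH.le hy.1)) (fun a ha haJ => ?_) (fun w hw k hk k' hk' => ?_), ?_⟩
  · exact (AddSubgroup.closure_mono fun a ha => List.mem_cons_of_mem _ (List.mem_cons_of_mem _ ha)).trans
      le_sup_left
  · rcases List.mem_cons.1 ha with rfl | ha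
    · intro w hw k hk
      have hw' : ∀ j ∈ w.reverse, j ∈ J := fun j hj => hw j (List.mem_reverse.1 hj)
      rcases (hres x' hx' hxM').2 k hk.1 with h | h
      · exact AddSubgroup.mem_sup_left (h.symm w hw)
      · have h1 := reverse_mem w (fun j hj => ran_le_tsum (hw j hj)) x' k
        have h2 : ⁅x', ap w.reverse x'⁆ + ⁅k, ap w.reverse x'⁆ ∈ tsum J := by
          rw [← add_lie]; exact h w.reverse hw'
        set W := AddSubgroup.closure {z | ∃ v, (∀ j ∈ v, j ∈ x' :: x :: J) ∧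
          ∃ a ∈ x' :: x :: J, ap v a = z}
        have h3 : ⁅x', ap w.reverse x'⁆ ∈ W :=
          AddSubgroup.subset_closure ⟨x' :: w.reverse, List.forall_mem_cons.2
            ⟨List.mem_cons_self, fun j hj => List.mem_cons_of_mem _ (List.mem_cons_of_mem _ (hw' j hj))⟩,
            x', List.mem_cons_self, rfl⟩
        have h4 : ⁅ap w.reverse x', k⁆ ∈ tsum J ⊔ W := by
          rw [← lie_skew]
          refine neg_mem ?_
          have := sub_mem (AddSubgroup.mem_sup_left h2 : _ ∈ tsum J ⊔ W) (AddSubgroup.mem_sup_right h3)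
          simpa using this
        have h5 := add_mem (AddSubgroup.mem_sup_left h1 : _ ∈ tsum J ⊔ W)
          (zsmul_mem h4 ((-1 : ℤ) ^ w.length))
        simpa using h5
    · rcases List.mem_cons.1 ha with rfl | ha
      · exact hnew_of_orth fun k hk => hk.2
      · exact absurd ha haJ
  · show _ ∈ ran x' ⊔ (ran x ⊔ tsum J)
    exact AddSubgroup.mem_sup_right (by rw [sup_comm]; exact hkk w hw k' hk' k hk)
  · refine (card_sup_ran_two (hbd x hx hxM) (hbd x' hx' hxM')).trans
      (Nat.mul_le_mul_left _ (Nat.pow_le_pow_right hp.out.pos (two_mul_le_tri b)))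

/-- Successive images strictly increase. -/
def Chain : List L → Prop
  | [] => True
  | x :: J => ¬ ran x ≤ tsum J ∧ Chain J

/-- The phase in which the brackets of degree one are exhausted. -/
theorem alt_phase {e : ℕ} (hL : Nat.card L = p ^ e) :
    ∀ (b : ℕ) (J : List L) (H M : AddSubgroup L), (∀ j ∈ J, j ∈ V) → H ≤ V → M < H → Chain J →
      V ≤ AddSubgroup.closure {a | a ∈ J} ⊔ H → (∀ y ∈ H, y ∉ M → Bd p (tsum J) y b) →
      ∃ J' : List L, (∀ j ∈ J', j ∈ V) ∧ Chain J' ∧ (∀ u ∈ V, ∀ v ∈ V, ⁅u, v⁆ ∈ tsum J') ∧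
        ∃ m, m ≤ b ∧ J'.length = J.length + m ∧
          Nat.card (tsum J') * p ^ tri (b - m) ≤ Nat.card (tsum J) * p ^ tri b := by
  intro b
  induction b using Nat.strong_induction_on with
  | _ b ih =>
  intro J H M₀ hJ hHV hM₀ hch hspan hbd₀
  obtain ⟨M, hM₀M, hMH, hmax⟩ := exists_maximal_proper hM₀
  have hbd : ∀ y ∈ H, y ∉ M → Bd p (tsum J) y b := fun y hy hyM => hbd₀ y hy fun h => hyM (hM₀M h)
  by_cases hstep : ∃ x ∈ H, x ∉ M ∧ ∃ y ∈ M, ⁅x, y⁆ ∉ tsum J
  · obtain ⟨x, hx, hxM, y, hy, hxy⟩ := hstep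
    let K : AddSubgroup L :=
      { carrier := {y | y ∈ M ∧ ⁅x, y⁆ ∈ tsum J}
        zero_mem' := ⟨zero_mem _, by rw [lie_zero]; exact zero_mem _⟩
        add_mem' := fun ha hc => ⟨add_mem ha.1 hc.1, by rw [lie_add]; exact add_mem ha.2 hc.2⟩
        neg_mem' := fun ha => ⟨neg_mem ha.1, by rw [lie_neg]; exact neg_mem ha.2⟩ }
    have hK : K < M := lt_of_le_not_ge (fun z hz => hz.1) fun h => hxy (h hy).2
    have hgood : ∀ y ∈ M, y ∉ K → 1 ≤ b ∧ Bd p (tsum (x :: J)) y (b - 1) := by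
      intro y hy hyK
      rw [show tsum (x :: J) = tsum J ⊔ ran x from sup_comm _ _]
      refine bd_step hL (hbd _ (add_mem hx (hMH.le hy)) fun hc => hxM (by simpa using sub_mem hc hy))
        (u := x) (AddSubgroup.mem_sup_right (lie_mem_ran' x y)) ?_
      rw [add_lie, lie_self, zero_add, ← lie_skew, neg_mem_iff]
      exact fun h => hyK ⟨hy, h⟩
    have hb1 := (hgood y hy fun h => hxy h.2).1
    obtain ⟨J', hJ', hch', hVV, m, hm, hlen, hcard⟩ := ih (b - 1) (by omega) (x :: J) M K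
      (List.forall_mem_cons.2 ⟨hHV hx, hJ⟩) (hMH.le.trans hHV) hK
      ⟨fun h => hxy (h (lie_mem_ran x y)), hch⟩
      (hspan.trans ((sup_le_sup_left (hmax x hx hxM) _).trans closure_cons_sup_le))
      fun y hy hyK => (hgood y hy hyK).2
    refine ⟨J', hJ', hch', hVV, m + 1, by omega, by simp at hlen; omega, ?_⟩
    rw [show b - (m + 1) = b - 1 - m by omega]
    refine hcard.trans ?_
    obtain ⟨c, rfl⟩ : ∃ c, b = c + 1 := ⟨b - 1, by omega⟩
    rw [Nat.add_sub_cancel, tri, pow_add, ← mul_assoc]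
    refine Nat.mul_le_mul_right _ ?_
    rw [show tsum (x :: J) = tsum J ⊔ ran x from sup_comm _ _]
    exact hbd x hx hxM
  push Not at hstep
  refine ⟨J, hJ, hch, ?_, 0, Nat.zero_le _, rfl, le_of_eq (by rw [Nat.sub_zero])⟩
  have h1 : ∀ x ∈ H, x ∉ M → ∀ h ∈ H, ⁅x, h⁆ ∈ tsum J := by
    intro x hx hxM h hh
    obtain ⟨z₁, hz₁, m, hm, rfl⟩ := AddSubgroup.mem_sup.1 (hmax x hx hxM hh)
    obtain ⟨n, rfl⟩ := AddSubgroup.mem_zmultiples_iff.1 hz₁
    rw [lie_add, lie_zsmul, lie_self, zsmul_zero, zero_add]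
    exact hstep x hx hxM m hm
  have h2 : ∀ a ∈ H, ∀ c ∈ H, ⁅a, c⁆ ∈ tsum J := fun a ha c hc =>
    forall_mem_of_compl hMH (P := fun z => ⁅z, c⁆ ∈ tsum J)
      (fun u v hu hv => by rw [sub_lie]; exact sub_mem hu hv) (fun x hx hxM => h1 x hx hxM c hc) a ha
  intro u hu v hv
  obtain ⟨a, ha, c, hc, rfl⟩ := AddSubgroup.mem_sup.1 (hspan hu)
  obtain ⟨a', ha', c', hc', rfl⟩ := AddSubgroup.mem_sup.1 (hspan hv)
  have hr := ran_le_of_closure (J := J) (fun j hj => ran_le_tsum hj)
  rw [add_lie]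
  refine add_mem (hr a ha (lie_mem_ran a _)) ?_
  rw [lie_add]
  exact add_mem (hr a' ha' (lie_mem_ran' a' c)) (h2 c hc c' hc')

end CfsgLib.VaughanLee76
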