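import Cfsg.Agent.Lib.Struct76.VaughanLeeBound

/-!
# Vaughan-Lee's bound for graded Lie rings
-/

set_option autoImplicit false

namespace CfsgLib.VaughanLee76

variable {L : Type*} [LieRing L] {V : AddSubgroup L}

/-- An element killing the degree-one part kills everything. -/
theorem ran_eq_bot (G : Grading V) {g : L} (hg : ∀ y ∈ V, ⁅g, y⁆ = 0) : ran g = ⊥ := by
  have key : ∀ n, ∀ u ∈ layer V n, ⁅g, u⁆ = 0 := by
    intro n
    induction n with
    | zero => exact hg
    | succ n ih =>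
      intro u hu
      induction hu using AddSubgroup.closure_induction with
      | mem z hz =>
        obtain ⟨v, hv, u, hu, rfl⟩ := hz
        rw [leibniz_lie, hg v hv, zero_lie, ih u hu, lie_zero, add_zero]
      | zero => exact lie_zero g
      | add a c _ _ ha hc => rw [lie_add, ha, hc, add_zero]
      | neg a _ ha => rw [lie_neg, ha, neg_zero]
  have hker : (⊤ : AddSubgroup L) ≤ (adHom g).ker :=
    G.span ▸ iSup_le fun n u hu => key n u hu
  rw [eq_bot_iff]
  rintro _ ⟨u, rfl⟩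
  exact hker (AddSubgroup.mem_top u)

variable [Finite L] {p : ℕ} [hp : Fact p.Prime]

/-- The image of a chain under the bracket with a fixed element is large. -/
theorem pow_length_le_card_map {e : ℕ} (hL : Nat.card L = p ^ e) (G : Grading V) {b : ℕ}
    (hexact : ∀ v ∈ V, ran v ≠ ⊥ → Nat.card (ran v) = p ^ b)
    (hE : ∀ v ∈ V, Nat.card (ran v) = p ^ b → ∀ h ∈ V, ⁅v, h⁆ = 0 →
      ∀ n, ∀ u ∈ layer V (n + 1), ⁅h, u⁆ ∈ ran v)
    {T : AddSubgroup L} (hVV : ∀ u ∈ V, ∀ v ∈ V, ⁅u, v⁆ ∈ T) {h : L} (hh : h ∈ V)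
    (hnot : ¬ ran h ≤ T) :
    ∀ J : List L, Chain J → (∀ j ∈ J, j ∈ V) → tsum J ≤ T →
      p ^ J.length ≤ Nat.card ((AddSubgroup.closure {a | a ∈ J}).map (adHom h))
  | [], _, _, _ => by simpa using Nat.one_le_iff_ne_zero.2 Nat.card_pos.ne'
  | x :: J, hch, hJ, hT => by
    have ih := pow_length_le_card_map hL G hexact hE hVV hh hnot J hch.2
      (fun j hj => hJ j (List.mem_cons_of_mem _ hj)) (le_sup_right.trans hT)
    have hlt : (AddSubgroup.closure {a | a ∈ J}).map (adHom h) <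
        (AddSubgroup.closure {a | a ∈ x :: J}).map (adHom h) := by
      refine lt_of_le_not_ge
        (AddSubgroup.map_mono (AddSubgroup.closure_mono fun a ha => List.mem_cons_of_mem _ ha))
        fun hle => ?_
      obtain ⟨a, ha, hax⟩ : ∃ a ∈ AddSubgroup.closure {a | a ∈ J}, adHom h a = ⁅h, x⁆ :=
        hle ⟨x, AddSubgroup.subset_closure (show x ∈ {a | a ∈ x :: J} from List.mem_cons_self), rfl⟩
      have hav : a ∈ V := (AddSubgroup.closure_le _).2
        (fun j hj => hJ j (List.mem_cons_of_mem _ hj)) ha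
      have hvV : x - a ∈ V := sub_mem (hJ x List.mem_cons_self) hav
      have hran : ran a ≤ tsum J := ran_le_of_closure (fun j hj => ran_le_tsum hj) a ha
      have hne : ran (x - a) ≠ ⊥ := by
        intro hb
        refine hch.1 (ran_le_iff.2 fun u => ?_)
        have h0 : ⁅x - a, u⁆ ∈ (⊥ : AddSubgroup L) := hb ▸ lie_mem_ran (x - a) u
        rw [AddSubgroup.mem_bot, sub_lie, sub_eq_zero] at h0
        rw [h0]
        exact hran (lie_mem_ran a u)
      have hle' : ran (x - a) ≤ T := by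
        refine ran_le_iff.2 fun u => ?_
        rw [sub_lie]
        exact hT (sub_mem (AddSubgroup.mem_sup_left (lie_mem_ran x u))
          (AddSubgroup.mem_sup_right (hran (lie_mem_ran a u))))
      have hz : ⁅x - a, h⁆ = 0 := by
        rw [← lie_skew, lie_sub, show ⁅h, a⁆ = ⁅h, x⁆ from hax, sub_self, neg_zero]
      refine hnot ?_
      have hcom : (⊤ : AddSubgroup L) ≤ T.comap (adHom h) := by
        refine G.span ▸ iSup_le fun n => ?_
        cases n with
        | zero => exact fun u hu => hVV h hh u hu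
        | succ n => exact fun u hu => hle' (hE _ hvV (hexact _ hvV hne) h hh hz n u hu)
      exact ran_le_iff.2 fun u => hcom (AddSubgroup.mem_top u)
    refine le_trans ?_ (mul_card_le_of_lt hL hlt)
    rw [List.length_cons, pow_succ']
    exact Nat.mul_le_mul_left p ih

/-- Adding elements to a chain while some image is not yet contained. -/
theorem greedy {e : ℕ} (hL : Nat.card L = p ^ e) (G : Grading V) {b : ℕ}
    (hVB : ∀ v ∈ V, Nat.card (ran v) ≤ p ^ b)
    (hexact : ∀ v ∈ V, ran v ≠ ⊥ → Nat.card (ran v) = p ^ b)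
    (hE : ∀ v ∈ V, Nat.card (ran v) = p ^ b → ∀ h ∈ V, ⁅v, h⁆ = 0 →
      ∀ n, ∀ u ∈ layer V (n + 1), ⁅h, u⁆ ∈ ran v) :
    ∀ (d : ℕ) (J : List L), (∀ j ∈ J, j ∈ V) → Chain J → J.length + d = b →
      (∀ u ∈ V, ∀ v ∈ V, ⁅u, v⁆ ∈ tsum J) → Nat.card (tsum J) * p ^ tri d ≤ p ^ tri b →
      ∃ T : AddSubgroup L, Nat.card T ≤ p ^ tri b ∧ ∀ v ∈ V, ran v ≤ T := by
  intro d
  induction d with
  | zero =>
    intro J hJ hch hlen hVV hcard
    refine ⟨tsum J, by simpa [tri] using hcard, fun h hh => ?_⟩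
    by_contra hnot
    have h1 := pow_length_le_card_map hL G hexact hE hVV hh hnot J hch hJ le_rfl
    have h2 : (AddSubgroup.closure {a | a ∈ J}).map (adHom h) ≤ ran h ⊓ tsum J := by
      rintro _ ⟨u, hu, rfl⟩
      exact AddSubgroup.mem_inf.2 ⟨lie_mem_ran h u,
        hVV h hh u ((AddSubgroup.closure_le _).2 (fun j hj => hJ j hj) hu)⟩
    have h3 := mul_card_le_of_lt hL (lt_of_le_of_ne inf_le_left fun he => hnot (inf_eq_left.1 he))
    have h4 := h1.trans (AddSubgroup.card_le_of_le h2)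
    have h5 := hVB h hh
    rw [show J.length = b by omega] at h4
    have := Nat.mul_le_mul hp.out.two_le h4
    have := pow_pos hp.out.pos b
    omega
  | succ d ih =>
    intro J hJ hch hlen hVV hcard
    by_cases hdone : ∀ v ∈ V, ran v ≤ tsum J
    · exact ⟨tsum J, le_trans (Nat.le_mul_of_pos_right _ (pow_pos hp.out.pos _)) hcard, hdone⟩
    push Not at hdone
    obtain ⟨h, hh, hnot⟩ := hdone
    have h1 := pow_length_le_card_map hL G hexact hE hVV hh hnot J hch hJ le_rfl
    have h2 : (AddSubgroup.closure {a | a ∈ J}).map (adHom h) ≤ ran h ⊓ tsum J := by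
      rintro _ ⟨u, hu, rfl⟩
      exact AddSubgroup.mem_inf.2 ⟨lie_mem_ran h u,
        hVV h hh u ((AddSubgroup.closure_le _).2 (fun j hj => hJ j hj) hu)⟩
    have h4 := h1.trans (AddSubgroup.card_le_of_le h2)
    have h6 := card_sup_mul_inf (ran h) (tsum J)
    refine ih (h :: J) (List.forall_mem_cons.2 ⟨hh, hJ⟩) ⟨hnot, hch⟩ (by simp; omega)
      (fun u hu v hv => AddSubgroup.mem_sup_right (hVV u hu v hv)) (le_trans ?_ hcard)
    refine Nat.le_of_mul_le_mul_right ?_ (pow_pos hp.out.pos J.length)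
    have h7 : Nat.card ↥(tsum (h :: J)) * p ^ J.length ≤ Nat.card (tsum J) * p ^ b := by
      refine (Nat.mul_le_mul_left _ h4).trans ?_
      rw [show tsum (h :: J) = ran h ⊔ tsum J from rfl, h6, mul_comm]
      exact Nat.mul_le_mul_left _ (hVB h hh)
    calc Nat.card ↥(tsum (h :: J)) * p ^ tri d * p ^ J.length
        = Nat.card ↥(tsum (h :: J)) * p ^ J.length * p ^ tri d := by ring
      _ ≤ Nat.card (tsum J) * p ^ b * p ^ tri d := Nat.mul_le_mul_right _ h7
      _ = Nat.card (tsum J) * p ^ tri (d + 1) * p ^ J.length := by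
          rw [← hlen, tri, pow_add, pow_add]; ring

/-- Vaughan-Lee's bound. -/
theorem exists_bound {e : ℕ} (hL : Nat.card L = p ^ e) (G : Grading V) {b : ℕ}
    (hVB : ∀ v ∈ V, Nat.card (ran v) ≤ p ^ b)
    (hE : ∀ v ∈ V, Nat.card (ran v) = p ^ b → ∀ h ∈ V, ⁅v, h⁆ = 0 →
      ∀ n, ∀ u ∈ layer V (n + 1), ⁅h, u⁆ ∈ ran v) :
    ∃ T : AddSubgroup L, Nat.card T ≤ p ^ tri b ∧ ∀ v ∈ V, ran v ≤ T := by
  by_cases hA : ∃ g ∈ V, ran g ≠ ⊥ ∧ Nat.card (ran g) ≠ p ^ b
  · obtain ⟨g, hg, hne, hlt⟩ := hA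
    let M : AddSubgroup L :=
      { carrier := {y | y ∈ V ∧ ⁅g, y⁆ = 0}
        zero_mem' := ⟨zero_mem _, lie_zero g⟩
        add_mem' := fun ha hc => ⟨add_mem ha.1 hc.1, by rw [lie_add, ha.2, hc.2, add_zero]⟩
        neg_mem' := fun ha => ⟨neg_mem ha.1, by rw [lie_neg, ha.2, neg_zero]⟩ }
    have hMV : M < V := lt_of_le_not_ge (fun y hy => hy.1)
      fun h => hne (ran_eq_bot G fun y hy => (h hy).2)
    obtain ⟨k, hk⟩ := exists_card hL (ran g)
    have hkb : k < b := by
      have h1 := hVB g hg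
      rw [hk] at h1 hlt
      exact lt_of_le_of_ne ((Nat.pow_le_pow_iff_right hp.out.one_lt).1 h1)
        fun h => hlt (by rw [h])
    have htsum : tsum [g] = ran g := by simp [tsum]
    obtain ⟨T, hT, hcard⟩ := bound_add_one hL G (b - 1) [g] V M (by simpa using hg) le_rfl hMV
      le_sup_right fun y hy hyM => by
        rw [htsum, ← bot_sup_eq (ran g)]
        refine (bd_step hL (T := ⊥) (x := g) (u := g) (b := b) ?_
          (AddSubgroup.mem_sup_right (lie_mem_ran' g y)) ?_).2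
        · show Nat.card ↥(⊥ ⊔ ran (g + y)) ≤ Nat.card (⊥ : AddSubgroup L) * p ^ b
          rw [bot_sup_eq, AddSubgroup.card_bot, one_mul]
          exact hVB _ (add_mem hg hy)
        · rw [AddSubgroup.mem_bot, add_lie, lie_self, zero_add, ← lie_skew, neg_eq_zero]
          exact fun h => hyM ⟨hy, h⟩
    refine ⟨T, hcard.trans ?_, hT⟩
    rw [htsum, hk, ← pow_add]
    refine Nat.pow_le_pow_right hp.out.pos ?_
    obtain ⟨c, rfl⟩ : ∃ c, b = c + 1 := ⟨b - 1, by omega⟩
    rw [Nat.add_sub_cancel, tri]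
    omega
  push Not at hA
  by_cases hbot : ∀ v ∈ V, ran v = ⊥
  · exact ⟨⊥, by rw [AddSubgroup.card_bot]; exact pow_pos hp.out.pos _, fun v hv => (hbot v hv).le⟩
  push Not at hbot
  obtain ⟨v, hv, hvne⟩ := hbot
  have hV : (⊥ : AddSubgroup L) < V := by
    refine bot_lt_iff_ne_bot.2 fun h => hvne ?_
    rw [h, AddSubgroup.mem_bot] at hv
    exact ran_eq_bot G fun y _ => by rw [hv, zero_lie]
  obtain ⟨J, hJ, hch, hVV, m, hm, hlen, hcard⟩ := alt_phase (V := V) hL b [] V ⊥ (by simp) le_rfl hV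
    trivial le_sup_right fun y hy _ => by
      show Nat.card ↥(tsum [] ⊔ ran y) ≤ Nat.card (tsum ([] : List L)) * p ^ b
      rw [show tsum ([] : List L) = ⊥ from rfl, bot_sup_eq, AddSubgroup.card_bot, one_mul]
      exact hVB y hy
  rw [show tsum ([] : List L) = ⊥ from rfl, AddSubgroup.card_bot, one_mul] at hcard
  simp only [List.length_nil, zero_add] at hlen
  exact greedy hL G hVB hA hE (b - m) J hJ hch (by omega) hVV hcard

end CfsgLib.VaughanLee76
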